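import Cfsg.Agent.Lib.Fusion.OrderFormula

/-!
Counting pairs of involutions inside the centraliser of an involution, and commuting pairs of two classes.
-/

set_option autoImplicit false

namespace Cfsg.Agent.Spor.JFour

open Cfsg.Agent

universe u

variable {G : Type u} [Group G]

/-- a conjugate of an involution is an involution -/
theorem invol_of_isConj {a g : G} (ha : a * a = 1) (ha1 : a ≠ 1) (h : IsConj a g) : g * g = 1 ∧ g ≠ 1 := by
  obtain ⟨c, rfl⟩ := isConj_iff.1 h
  exact ⟨by rw [conj_mul, ha, mul_one, mul_inv_cancel], fun e => ha1 (conj_eq_one_iff.1 e)⟩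

/-- two involutions whose product generates an involution centralise it -/
theorem commute_of_gen {p q w : G} (hp : p * p = 1) (hq : q * q = 1) (hw : w * w = 1)
    (h : w ∈ Subgroup.zpowers (p * q)) : Commute p w ∧ Commute q w := by
  obtain ⟨k, rfl⟩ := Subgroup.mem_zpowers_iff.1 h
  have hpi : p⁻¹ = p := inv_eq_of_mul_eq_one_right hp
  have hqi : q⁻¹ = q := inv_eq_of_mul_eq_one_right hq
  have e : p * (p * q) ^ k * p⁻¹ = (p * q) ^ k := by
    rw [← conj_zpow, show p * (p * q) * p⁻¹ = (p * q)⁻¹ by rw [mul_inv_rev, hpi, hqi, ← mul_assoc, hp, one_mul],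
      inv_zpow, inv_eq_of_mul_eq_one_right hw]
  have hc : Commute p ((p * q) ^ k) := mul_inv_eq_iff_eq_mul.1 e
  refine ⟨hc, ?_⟩
  rw [show q = p⁻¹ * (p * q) by group] at ⊢
  rw [show p * (p⁻¹ * (p * q)) = p * q by group]
  exact Commute.mul_left hc.inv_left (Commute.zpow_self _ k).symm

variable [Finite G]

/-- pairs generating an involution, counted inside its centraliser -/
theorem rCount_sum {ι : Type*} [DecidableEq ι] (I : Finset ι) (e : ι → G) (hinj : Set.InjOn e ↑I) {u v w : G}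
    (hu : u * u = 1) (hu1 : u ≠ 1) (hv : v * v = 1) (hv1 : v ≠ 1) (hw : w * w = 1)
    (himg : ∀ g, (g * g = 1 ∧ g ≠ 1 ∧ Commute g w) ↔ ∃ a ∈ I, e a = g) [DecidablePred fun g => IsConj u g]
    [∀ g, DecidablePred fun h => IsConj v h ∧ w ∈ Subgroup.zpowers (g * h)] :
    Fusion.rCount u v w = ∑ a ∈ I, if IsConj u (e a) then
      (I.filter fun b => IsConj v (e b) ∧ w ∈ Subgroup.zpowers (e a * e b)).card else 0 := by
  classical
  set J := (I ×ˢ I).filter fun ab => IsConj u (e ab.1) ∧ IsConj v (e ab.2) ∧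
    w ∈ Subgroup.zpowers (e ab.1 * e ab.2) with hJ
  have himgJ : (J.image (Prod.map e e) : Set (G × G)) =
      {q | IsConj u q.1 ∧ IsConj v q.2 ∧ w ∈ Subgroup.zpowers (q.1 * q.2)} := by
    ext ⟨p, q⟩
    simp only [hJ, Finset.coe_image, Set.mem_image, Finset.mem_coe, Finset.mem_filter, Finset.mem_product, Prod.exists,
      Prod.map_apply, Prod.mk.injEq, Set.mem_setOf_eq]
    constructor
    · rintro ⟨a, b, ⟨-, h⟩, rfl, rfl⟩; exact h
    · rintro ⟨h1, h2, h3⟩
      obtain ⟨p2, p1⟩ := invol_of_isConj hu hu1 h1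
      obtain ⟨q2, q1⟩ := invol_of_isConj hv hv1 h2
      obtain ⟨hpw, hqw⟩ := commute_of_gen p2 q2 hw h3
      obtain ⟨a, ha, rfl⟩ := (himg p).1 ⟨p2, p1, hpw⟩
      obtain ⟨b, hb, rfl⟩ := (himg q).1 ⟨q2, q1, hqw⟩
      exact ⟨a, b, ⟨⟨ha, hb⟩, h1, h2, h3⟩, rfl, rfl⟩
  have hinjJ : Set.InjOn (Prod.map e e) ↑J := by
    intro a ha b hb h
    simp only [hJ, Finset.coe_filter, Set.mem_setOf_eq, Finset.mem_product] at ha hb
    exact Prod.ext (hinj ha.1.1 hb.1.1 (congrArg Prod.fst h)) (hinj ha.1.2 hb.1.2 (congrArg Prod.snd h))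
  calc Fusion.rCount u v w
      = ({q : G × G | IsConj u q.1 ∧ IsConj v q.2 ∧ w ∈ Subgroup.zpowers (q.1 * q.2)}).ncard :=
        (Nat.card_coe_set_eq _)
    _ = J.card := by rw [← himgJ, Set.ncard_coe_finset, Finset.card_image_of_injOn hinjJ]
    _ = _ := by
      rw [hJ, Finset.card_filter, Finset.sum_product]
      refine Finset.sum_congr rfl fun a _ => ?_
      split_ifs with h
      · rw [Finset.card_filter]
        exact Finset.sum_congr rfl fun b _ => by simp only [h, true_and]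
      · exact Finset.sum_eq_zero fun b _ => if_neg fun h' => h h'.1

/-- involutions of a class in a centraliser -/
theorem classCount_sum {ι : Type*} [DecidableEq ι] (I : Finset ι) (e : ι → G) (hinj : Set.InjOn e ↑I) {u w : G}
    (hu : u * u = 1) (hu1 : u ≠ 1) (himg : ∀ g, (g * g = 1 ∧ g ≠ 1 ∧ Commute g w) ↔ ∃ a ∈ I, e a = g)
    [DecidablePred fun g => IsConj u g] :
    Nat.card {g : G // IsConj u g ∧ Commute g w} = (I.filter fun a => IsConj u (e a)).card := by
  classical
  have h : ((I.filter fun a => IsConj u (e a)).image e : Set G) = {g | IsConj u g ∧ Commute g w} := by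
    ext g
    simp only [Finset.coe_image, Finset.coe_filter, Set.mem_image, Set.mem_setOf_eq]
    constructor
    · rintro ⟨a, ⟨ha, hc⟩, rfl⟩; exact ⟨hc, ((himg _).2 ⟨a, ha, rfl⟩).2.2⟩
    · rintro ⟨hc, hw⟩
      obtain ⟨g2, g1⟩ := invol_of_isConj hu hu1 hc
      obtain ⟨a, ha, rfl⟩ := (himg g).1 ⟨g2, g1, hw⟩
      exact ⟨a, ⟨ha, hc⟩, rfl⟩
  rw [show Nat.card {g : G // IsConj u g ∧ Commute g w} = ({g : G | IsConj u g ∧ Commute g w}).ncard from
      Nat.card_coe_set_eq _, ← h, Set.ncard_coe_finset,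
    Finset.card_image_of_injOn (hinj.mono (Finset.coe_subset.2 (Finset.filter_subset _ _)))]

/-- commuting pairs of two classes, counted both ways -/
theorem commuting_pairs (u v : G) :
    Nat.card {x : G // IsConj v x} * Nat.card {g : G // IsConj u g ∧ Commute g v} =
      Nat.card {x : G // IsConj u x} * Nat.card {g : G // IsConj v g ∧ Commute g u} := by
  have key : ∀ a b : G, Nat.card {p : G × G // IsConj a p.1 ∧ IsConj b p.2 ∧ Commute p.2 p.1} =
      Nat.card {x : G // IsConj a x} * Nat.card {g : G // IsConj b g ∧ Commute g a} := by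
    intro a b
    haveI : Fintype {x : G // IsConj a x} := Fintype.ofFinite _
    rw [show Nat.card {p : G × G // IsConj a p.1 ∧ IsConj b p.2 ∧ Commute p.2 p.1} =
        Nat.card (Σ x : {x : G // IsConj a x}, {g : G // IsConj b g ∧ Commute g (x : G)}) from Nat.card_congr
      { toFun := fun p => ⟨⟨p.1.1, p.2.1⟩, ⟨p.1.2, p.2.2⟩⟩
        invFun := fun s => ⟨(s.1.1, s.2.1), s.1.2, s.2.2⟩
        left_inv := fun _ => rfl
        right_inv := fun _ => rfl }, Nat.card_sigma]
    rw [Finset.sum_congr rfl fun (x : {x : G // IsConj a x}) _ => show Nat.card {g : G // IsConj b g ∧ Commute g (x : G)} =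
        Nat.card {g : G // IsConj b g ∧ Commute g a} by
      obtain ⟨c, hc⟩ := isConj_iff.1 x.2
      refine (Nat.card_congr ((MulAut.conj c).toEquiv.subtypeEquiv fun g => ?_)).symm
      show _ ↔ IsConj b (c * g * c⁻¹) ∧ Commute (c * g * c⁻¹) (x : G)
      refine and_congr ⟨fun h => h.trans (isConj_iff.2 ⟨c, rfl⟩),
        fun h => h.trans (isConj_iff.2 ⟨c, rfl⟩ : IsConj g _).symm⟩ ?_
      rw [← hc]
      exact (Commute.conj_iff c).symm]
    rw [Finset.sum_const, smul_eq_mul, Finset.card_univ, ← Nat.card_eq_fintype_card]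
  rw [← key v u, ← key u v]
  exact Nat.card_congr ((Equiv.prodComm G G).subtypeEquiv fun p =>
    ⟨fun ⟨a, b, c⟩ => ⟨b, a, c.symm⟩, fun ⟨a, b, c⟩ => ⟨b, a, c.symm⟩⟩)

/-- the order from the two pair counts -/
theorem order_of_counts {n kz kt cz ct a b : ℕ} (hn : 0 < n) (hz : kz * cz = n) (ht : kt * ct = n)
    (h : kz * kt = kz * a + kt * b) : n = a * ct + b * cz := by
  refine Nat.eq_of_mul_eq_mul_left hn ?_
  calc n * n = kz * cz * (kt * ct) := by rw [hz, ht]
    _ = (kz * kt) * (cz * ct) := by ring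
    _ = (kz * a + kt * b) * (cz * ct) := by rw [h]
    _ = (kz * cz) * (a * ct) + (kt * ct) * (b * cz) := by ring
    _ = n * (a * ct + b * cz) := by rw [hz, ht]; ring

end Cfsg.Agent.Spor.JFour
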