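import Cfsg.Agent.Lib.Spor.JFourOrder.CFibre

/-!
Janko four type: in the centraliser of the second class, involutions by type and pairs generating the involution of
the pair.
-/

set_option autoImplicit false
set_option maxRecDepth 100000
set_option linter.unusedSectionVars false

namespace Cfsg.Agent.Spor.JFour

open scoped Pointwise
open Cfsg.Agent.Spor.LFT (iT iT_conj PointModel Des phN phN_lt)
open Cfsg.Agent.Spor.CC (fld)
open OChkC

attribute [local irreducible] Chk.app LFT.Chk.app

/-- weight of packed counts -/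
def cWt (τ : ℕ → Bool) (pk : ℕ) : ℕ := ((List.range 9).map fun c => bif τ c then 0 else fld pk 12 c).sum

/-- the partners of one representative -/
def cInner (τ : ℕ → Bool) (k j : ℕ) : ℕ :=
  ((List.zip (CDt.roots.getD k []) (ctabOf k)).map fun q => q.1.2.1 * cWt τ (q.2.2.getD j 0)).sum

/-- members of the first class over one representative -/
def cPart (τ : ℕ → Bool) (k : ℕ) (cnt : List ℕ) : ℕ :=
  ((List.range cnt.length).map fun j =>
    bif τ ((CDt.urep.getD k []).getD j (0, 0)).2 then cnt.getD j 0 * cInner τ k j else 0).sum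

/-- the number of pairs -/
def cSum (τ : ℕ → Bool) : ℕ :=
  1155 * cPart τ 0 [16, 16, 16, 16, 16, 16, 16, 16] + 330 * cPart τ 1 [16, 16, 16, 16, 16, 16, 16, 16] +
    1386 * cPart τ 2 [32, 32] +
    (330 * (112 * (16 * (bif τ 2 then 0 else 1) + 112 * (bif τ 3 then 0 else 1))) + 231)

/-- the number of involutions of the central class -/
def cZ (τ : ℕ → Bool) : ℕ :=
  1771 + 5280 * (bif τ 2 then 1 else 0) + 36960 * (bif τ 3 then 1 else 0) + 44352 * (bif τ 4 then 1 else 0) +
    44352 * (bif τ 5 then 1 else 0) + 18480 * (bif τ 6 then 1 else 0) + 18480 * (bif τ 7 then 1 else 0) +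
    110880 * (bif τ 8 then 1 else 0)

theorem ofRec_pack {α : Type} (h : α → Bool) (cl : α → ℕ) (n : ℕ) : ∀ (L : List α) (acc : ℕ), (∀ v ∈ L, cl v < n) →
    L.foldl (fun acc v => bif h v then Nat.add acc (Nat.pow 2 (Nat.mul 12 (cl v))) else acc) acc =
      acc + ∑ c ∈ Finset.range n, L.countP (fun v => Nat.beq (cl v) c && h v) * 2 ^ (12 * c)
  | [], acc, _ => by simp
  | v :: L, acc, hL => by
    rw [List.foldl_cons, ofRec_pack h cl n L _ fun w hw => hL w (List.mem_cons_of_mem _ hw)]
    simp only [List.countP_cons, add_mul, Finset.sum_add_distrib]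
    cases hv : h v
    · simp
    · simp only [cond_true, Bool.and_true]
      rw [Finset.sum_eq_single (s := Finset.range n)
        (f := fun c => (if Nat.beq (cl v) c = true then 1 else 0) * 2 ^ (12 * c)) (cl v)
        (fun c _ hne => by rw [if_neg fun e => hne (Nat.eq_of_beq_eq_true e).symm, zero_mul])
        (fun h' => absurd (Finset.mem_range.2 (hL v List.mem_cons_self)) h'), if_pos (Nat.beq_refl _), one_mul]
      show acc + 2 ^ (12 * cl v) + _ = _
      omega

theorem digit_sum : ∀ (i n : ℕ) (cnt : ℕ → ℕ), (∀ c, cnt c < 2 ^ 12) → i < n →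
    (∑ c ∈ Finset.range n, cnt c * 2 ^ (12 * c)) / 2 ^ (12 * i) % 2 ^ 12 = cnt i
  | i, 0, _, _, h => absurd h (Nat.not_lt_zero i)
  | 0, n + 1, cnt, hc, _ => by
    rw [Finset.sum_range_succ', mul_zero, pow_zero, Nat.div_one, mul_one,
      show ∑ c ∈ Finset.range n, cnt (c + 1) * 2 ^ (12 * (c + 1)) =
        2 ^ 12 * ∑ c ∈ Finset.range n, cnt (c + 1) * 2 ^ (12 * c) by
          rw [Finset.mul_sum]; exact Finset.sum_congr rfl fun c _ => by rw [Nat.mul_succ, pow_add]; ring,
      Nat.mul_add_mod, Nat.mod_eq_of_lt (hc 0)]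
  | i + 1, n + 1, cnt, hc, h => by
    rw [Finset.sum_range_succ', mul_zero, pow_zero, mul_one,
      show ∑ c ∈ Finset.range n, cnt (c + 1) * 2 ^ (12 * (c + 1)) =
        2 ^ 12 * ∑ c ∈ Finset.range n, cnt (c + 1) * 2 ^ (12 * c) by
          rw [Finset.mul_sum]; exact Finset.sum_congr rfl fun c _ => by rw [Nat.mul_succ, pow_add]; ring,
      show 2 ^ (12 * (i + 1)) = 2 ^ 12 * 2 ^ (12 * i) by rw [Nat.mul_succ, pow_add, mul_comm],
      ← Nat.div_div_eq_div_mul, Nat.mul_add_div (by norm_num), Nat.div_eq_of_lt (hc 0), add_zero]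
    exact digit_sum i n (fun c => cnt (c + 1)) (fun c => hc _) (Nat.lt_of_succ_lt_succ h)

theorem countP_types {α : Type} (h : α → Bool) (cl : α → ℕ) (τ : ℕ → Bool) (n : ℕ) : ∀ L : List α,
    (∀ v ∈ L, cl v < n) → L.countP (fun v => !τ (cl v) && h v) =
      ∑ c ∈ Finset.range n, bif τ c then 0 else L.countP fun v => Nat.beq (cl v) c && h v
  | [], _ => by simp
  | v :: L, hL => by
    have e : ∀ c, (bif τ c then 0 else (v :: L).countP fun v => Nat.beq (cl v) c && h v) =
        (bif τ c then 0 else L.countP fun v => Nat.beq (cl v) c && h v) +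
          (bif τ c then 0 else if (Nat.beq (cl v) c && h v) = true then 1 else 0) := fun c => by
      cases τ c <;> simp [List.countP_cons]
    rw [List.countP_cons, countP_types h cl τ n L fun w hw => hL w (List.mem_cons_of_mem _ hw),
      Finset.sum_congr rfl fun c _ => e c, Finset.sum_add_distrib]
    congr 1
    rw [Finset.sum_eq_single (cl v) (fun c _ hne => by
      rw [show Nat.beq (cl v) c = false from Bool.eq_false_iff.2 fun e => hne (Nat.eq_of_beq_eq_true e).symm]
      cases τ c <;> simp) fun h' => absurd (Finset.mem_range.2 (hL v List.mem_cons_self)) h', Nat.beq_refl]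
    cases τ (cl v) <;> simp

theorem sum_keys {α : Type} (key w : α → ℕ) (g : ℕ → ℕ) (n : ℕ) : ∀ L : List α, (∀ a ∈ L, key a < n) →
    (L.map fun a => w a * g (key a)).sum =
      ∑ j ∈ Finset.range n, (L.map fun a => bif Nat.beq (key a) j then w a else 0).sum * g j
  | [], _ => by simp
  | a :: L, hL => by
    simp only [List.map_cons, List.sum_cons, add_mul, Finset.sum_add_distrib,
      sum_keys key w g n L fun b hb => hL b (List.mem_cons_of_mem _ hb)]
    congr 1
    rw [Finset.sum_eq_single (key a)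
      (fun c _ hne => by
        rw [show Nat.beq (key a) c = false from Bool.eq_false_iff.2 fun e => hne (Nat.eq_of_beq_eq_true e).symm,
          cond_false, zero_mul])
      fun h' => absurd (Finset.mem_range.2 (hL a List.mem_cons_self)) h', Nat.beq_refl, cond_true]

theorem tabC_mem {k : ℕ} (hk : k < 3) {q : (ℕ × ℕ × ℕ × List ℕ) × (ℕ × List ℕ)}
    (hq : q ∈ List.zip (CDt.roots.getD k []) (ctabOf k)) : rootTab k q.1 q.2 = true := by
  obtain ⟨i, hi, rfl⟩ := List.mem_iff_getElem.1 hq
  have hA : i < (CDt.roots.getD k []).length := by simp only [List.length_zip] at hi; omega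
  have hB : i < (ctabOf k).length := by simp only [List.length_zip] at hi; omega
  rw [List.getElem_zip]
  match k, hk with
  | 0, _ => exact OChkC.tabs_ok0 hA hB
  | 1, _ => exact OChkC.tabs_ok1 hA hB
  | 2, _ => exact OChkC.tabs_ok2 hA hB
  | k + 3, h => omega

theorem zipC_len : ∀ k < 3, (ctabOf k).length = (CDt.roots.getD k []).length := by decide +kernel

theorem cmult_ok : ∀ k < 3, (∀ m ∈ CDt.mems.getD k [], m.2.1 < (CDt.urep.getD k []).length) ∧
    ((List.range (CDt.urep.getD k []).length).map fun j =>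
      ((CDt.mems.getD k []).map fun m => bif Nat.beq m.2.1 j then 1 else 0).sum) =
        [[16, 16, 16, 16, 16, 16, 16, 16], [16, 16, 16, 16, 16, 16, 16, 16], [32, 32]].getD k [] := by
  decide +kernel

theorem kindC_data : (∀ e ∈ CDt.roots.getD 0 [], e.2.2.1 < 4) ∧ ∀ j < 4,
    ((CDt.roots.getD 0 []).map fun e => bif Nat.beq e.2.2.1 j then e.2.1 else 0).sum =
      [1155, 330, 1386, 1].getD j 0 := by
  decide +kernel

theorem clsC_count : (∀ k < 3, ((CDt.mems.getD k []).map fun m => memC k m).all (fun c => Nat.blt c 9) = true) ∧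
    ((List.range 9).map fun c =>
      1155 * ((CDt.mems.getD 0 []).map fun m => bif Nat.beq (memC 0 m) c then 1 else 0).sum +
      330 * ((CDt.mems.getD 1 []).map fun m => bif Nat.beq (memC 1 m) c then 1 else 0).sum +
      1386 * ((CDt.mems.getD 2 []).map fun m => bif Nat.beq (memC 2 m) c then 1 else 0).sum +
      (((List.range 2048).filter fun v => !Nat.beq v 0).map fun v => bif Nat.beq (clsV v) c then 1 else 0).sum) =
        [276, 1771, 5280, 36960, 44352, 44352, 18480, 18480, 110880] := by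
  decide +kernel

universe u

variable {G : Type u} [Group G] [Finite G] {z : G} {V : Subgroup G} {ψ : ℕ → G}

/-- the pair generates the involution of the pair of points -/
def zPairC (z : G) (ψ : ℕ → G) (p q : G) : Prop := tzG z q = false ∧ ψ ntC ∈ Subgroup.zpowers (p * q)

variable (T : Sect z V ψ)

/-- partners over an element -/
noncomputable def cntC (T : Sect z V ψ) (p : G) (σ : Cfsg.M24) : ℕ :=
  haveI := Classical.decPred fun v => zPairC z ψ p (ec T v σ)
  ((fibC σ).filter fun v => zPairC z ψ p (ec T v σ)).card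

/-- partners of an involution -/
noncomputable def fullC (T : Sect z V ψ) (p : G) : ℕ := ∑ i ∈ Finset.range 2872, cntC T p (elS T i)

include T

theorem Sect.conj_pair {c : G} (hc : Commute c (ψ ntC)) (p q : G) :
    zPairC z ψ (c * p * c⁻¹) (c * q * c⁻¹) ↔ zPairC z ψ p q := by
  refine and_congr (by rw [tzG_conj]) ?_
  have hz : c * ψ ntC * c⁻¹ = ψ ntC := by rw [hc.eq, mul_inv_cancel_right]
  conv_lhs => rw [conj_mul, ← hz]
  rw [show c * ψ ntC * c⁻¹ = MulAut.conj c (ψ ntC) from rfl, show c * (p * q) * c⁻¹ = MulAut.conj c (p * q) from rfl,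
    Subgroup.mem_zpowers_iff, Subgroup.mem_zpowers_iff]
  simp only [← map_zpow, EmbeddingLike.apply_eq_iff_eq]

theorem Sect.comm_s {g : Cfsg.M24} (hg : StPr g) : Commute (T.s g) (ψ ntC) := by
  have h := T.conj g ntC_lt
  rw [T.fix_pair.1 hg] at h
  exact mul_inv_eq_iff_eq_mul.1 h

theorem Sect.sum_fibC (g σ : Cfsg.M24) (W : G → ℕ) :
    ∑ v ∈ fibC σ, W (T.s g * ec T v σ * (T.s g)⁻¹) = ∑ v ∈ fibC (g * σ * g⁻¹), W (ec T v (g * σ * g⁻¹)) := by
  have hback : ∀ a b : Cfsg.M24, a * b = 1 → ∀ v, v < 2048 → Chk.app (matS a) (Chk.app (matS b) v) = v :=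
    fun a b hab v hv => by rw [← T.app_mul, hab, T.mat_one]; exact idM_app ⟨v, hv⟩
  have hmove : ∀ (a σ : Cfsg.M24) v, v ∈ fibC σ → Chk.app (matS a) v ∈ fibC (a * σ * a⁻¹) := by
    intro a σ v hv
    obtain ⟨h1, h2, h3⟩ := mem_fibC.1 hv
    refine mem_fibC.2 ⟨app_lt' (matS_good _).2 _, ?_, fun e h0 => h3 (conj_eq_one_iff.1 e) ?_⟩
    · rw [T.app_mul, T.app_mul, hback a⁻¹ a (inv_mul_cancel a) v h1, h2]
    · rw [← hback a⁻¹ a (inv_mul_cancel a) v h1, h0, app_zero]
  refine Finset.sum_bij' (fun v _ => Chk.app (matS g) v) (fun v _ => Chk.app (matS g⁻¹) v) (hmove g σ) ?_ ?_ ?_ ?_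
  · intro v hv
    have := hmove g⁻¹ (g * σ * g⁻¹) v hv
    rwa [show g⁻¹ * (g * σ * g⁻¹) * g⁻¹⁻¹ = σ by group] at this
  · intro v hv; exact hback _ _ (inv_mul_cancel g) v (mem_fibC.1 hv).1
  · intro v hv; exact hback _ _ (mul_inv_cancel g) v (mem_fibC.1 hv).1
  · intro v hv; rw [T.ec_conj (mem_fibC.1 hv).1]

theorem Sect.cntC_conj {g : Cfsg.M24} (hg : StPr g) (p : G) (σ : Cfsg.M24) :
    cntC T (T.s g * p * (T.s g)⁻¹) (g * σ * g⁻¹) = cntC T p σ := by
  classical
  simp only [cntC, Finset.card_filter]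
  rw [← T.sum_fibC g σ fun q => if zPairC z ψ (T.s g * p * (T.s g)⁻¹) q then 1 else 0]
  exact Finset.sum_congr rfl fun v _ => if_congr (T.conj_pair (T.comm_s hg) _ _) rfl rfl

theorem Sect.cntC_trans {u : ℕ} (hu : u < 2048) (p : G) {σ : Cfsg.M24} (hσ : σ * σ = 1) :
    cntC T (ψ u * p * (ψ u)⁻¹) σ = cntC T p σ := by
  classical
  have hM : ∀ v, v < 2048 → Chk.app (matS σ) (Chk.app (matS σ) v) = v := fun v hv => by
    rw [← T.app_mul, hσ, T.mat_one]; exact idM_app ⟨v, hv⟩
  set t := fun v : ℕ => u ^^^ v ^^^ Chk.app (matS σ) u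
  have ht : ∀ v ∈ fibC σ, t v ∈ fibC σ := by
    intro v hv
    obtain ⟨h1, h2, h3⟩ := mem_fibC.1 hv
    refine mem_fibC.2 ⟨Nat.xor_lt_two_pow (n := 11) (Nat.xor_lt_two_pow hu h1) (app_lt' (matS_good σ).2 _), ?_,
      fun e h0 => h3 e ?_⟩
    · show Chk.app (matS σ) (u ^^^ v ^^^ Chk.app (matS σ) u) = u ^^^ v ^^^ Chk.app (matS σ) u
      rw [app_xor, app_xor, hM u hu, h2]
      simp [Nat.xor_assoc, Nat.xor_comm, Nat.xor_left_comm]
    · have h0' : u ^^^ v ^^^ Chk.app (matS σ) u = 0 := h0
      rw [e, T.mat_one, show Chk.app idM u = u from idM_app ⟨u, hu⟩, Nat.xor_comm u v, Nat.xor_assoc, Nat.xor_self,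
        Nat.xor_zero] at h0'
      exact h0'
  have htt : ∀ v, t (t v) = v := fun v => by
    show u ^^^ (u ^^^ v ^^^ Chk.app (matS σ) u) ^^^ Chk.app (matS σ) u = v
    simp [Nat.xor_assoc, Nat.xor_comm, Nat.xor_left_comm]
  have hc : Commute (ψ u) (ψ ntC) := by
    show _ * _ = _ * _
    rw [← T.pm.mul _ _ hu ntC_lt, Nat.xor_comm, T.pm.mul _ _ ntC_lt hu]
  simp only [cntC, Finset.card_filter]
  symm
  refine Finset.sum_bij' (fun v _ => t v) (fun v _ => t v) ht ht (fun v _ => htt v) (fun v _ => htt v) fun v hv => ?_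
  refine if_congr ?_ rfl rfl
  rw [show ec T (t v) σ = ψ u * ec T v σ * (ψ u)⁻¹ from (T.ec_trans hu (mem_fibC.1 hv).1 σ).symm]
  exact (T.conj_pair hc _ _).symm

theorem Sect.fullC_conj {g : Cfsg.M24} (hg : StPr g) (p : G) :
    fullC T (T.s g * p * (T.s g)⁻¹) = fullC T p := by
  classical
  have key : ∀ i ∈ Finset.range 2872, ∃ j ∈ Finset.range 2872, g * elS T i * g⁻¹ = elS T j := by
    intro i hi
    obtain ⟨w, hw, e⟩ := St_word hg
    obtain ⟨j, hj, e'⟩ := T.list_closedC w hw i (Finset.mem_range.1 hi)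
    exact ⟨j, Finset.mem_range.2 hj, by rw [e]; exact e'⟩
  choose σ hσ hσe using key
  have hinj : ∀ i hi j hj, σ i hi = σ j hj → i = j := fun i hi j hj h => by
    refine T.elS_inj (Finset.mem_range.1 hi) (Finset.mem_range.1 hj) ?_
    have e := hσe i hi
    rw [h, ← hσe j hj] at e
    exact mul_left_cancel (mul_right_cancel e)
  refine (Finset.sum_bij σ hσ hinj (fun j hj => ?_) fun i hi => ?_).symm
  · let F : ↥(Finset.range 2872) → ↥(Finset.range 2872) := fun i => ⟨σ i.1 i.2, hσ i.1 i.2⟩
    obtain ⟨i, hi⟩ := (Finite.injective_iff_surjective (f := F)).1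
      (fun a b h => Subtype.ext (hinj _ a.2 _ b.2 (congrArg Subtype.val h))) ⟨j, hj⟩
    exact ⟨i.1, i.2, congrArg Subtype.val hi⟩
  · rw [← hσe i hi, T.cntC_conj hg]

theorem Sect.fib_rootC {k : ℕ} (hk : k < 3) (Φ : ℕ → ℕ) :
    ∑ i ∈ Finset.range 2872, Φ (rootC k i) = ((CDt.roots.getD k []).map fun e => e.2.1 * Φ e.1).sum := by
  have h := (OChkC.roots_ok hk).1
  simp only [OChkC.rootsAt, Bool.and_eq_true, List.all_eq_true, decide_eq_true_eq] at h
  obtain ⟨⟨hnd, hall⟩, -⟩ := h
  set L := CDt.roots.getD k []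
  have hmaps : ∀ i ∈ Finset.range 2872, rootC k i ∈ (L.map Prod.fst).toFinset := fun i hi => by
    obtain ⟨e, he, hee⟩ := root_entryC hk (Finset.mem_range.1 hi)
    exact List.mem_toFinset.2 (List.mem_map.2 ⟨e, he, hee⟩)
  rw [← Finset.sum_fiberwise_of_maps_to hmaps, List.sum_toFinset _ hnd, List.map_map]
  congr 1
  refine List.map_congr_left fun e he => ?_
  rw [Function.comp, Finset.sum_congr rfl fun i hi => by rw [(Finset.mem_filter.1 hi).2], Finset.sum_const, smul_eq_mul]
  congr 1
  rw [← Nat.eq_of_beq_eq_true (hall e he).2, List.countP_map, List.countP_eq_length_filter,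
    ← List.toFinset_card_of_nodup (List.nodup_range.filter _)]
  congr 1
  ext i
  simp only [Finset.mem_filter, Finset.mem_range, List.mem_toFinset, List.mem_filter, List.mem_range, Function.comp]
  exact and_congr_right' ⟨fun h => by rw [h]; exact Nat.beq_refl _, fun h => (Nat.eq_of_beq_eq_true h).symm⟩

/-- sums of functions invariant under the stabiliser -/
theorem Sect.sum_classC (Φ : Cfsg.M24 → ℕ) (hΦ : ∀ g σ, StPr g → Φ (g * σ * g⁻¹) = Φ σ) :
    ∑ i ∈ Finset.range 2872, Φ (elS T i) =
      1155 * Φ (pM (rP 0)) + 330 * Φ (pM (rP 1)) + 1386 * Φ (pM (rP 2)) + Φ (pM (rP 3)) := by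
  have h1 : ∀ i < 2872, Φ (elS T i) = Φ (elS T (rootC 0 i)) := by
    intro i hi
    obtain ⟨g, hg, -, hlt, p, hp, hpc, hc⟩ := T.tree_conjC (k := 0) (by norm_num) i hi
    rw [← T.elS_eq hi hc, ← T.elS_eq hlt hpc, hΦ g p hg]
  rw [Finset.sum_congr rfl fun i hi => h1 i (Finset.mem_range.1 hi),
    T.fib_rootC (k := 0) (by norm_num) fun r => Φ (elS T r),
    List.map_congr_left (g := fun e => e.2.1 * Φ (pM (rP e.2.2.1))) fun e he => by
      obtain ⟨hk', hw, hc⟩ := T.root_elemC (k := 0) (by norm_num) he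
      obtain ⟨-, -, -, hlt⟩ := T.root_fibC (k := 0) (by norm_num) he
      rw [← T.elS_eq hlt hc, hΦ _ _ (wP_rep _ hw).2],
    sum_keys _ _ (fun j => Φ (pM (rP j))) 4 _ kindC_data.1, Finset.sum_range_succ, Finset.sum_range_succ,
    Finset.sum_range_succ, Finset.sum_range_one, kindC_data.2 0 (by norm_num), kindC_data.2 1 (by norm_num),
    kindC_data.2 2 (by norm_num), kindC_data.2 3 (by norm_num)]
  simp only [List.getD_cons_zero, List.getD_cons_succ, one_mul]

/-- the partners over a root -/
theorem Sect.cnt_rootC {k : ℕ} (hk : k < 3) {q : (ℕ × ℕ × ℕ × List ℕ) × (ℕ × List ℕ)}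
    (hq : q ∈ List.zip (CDt.roots.getD k []) (ctabOf k)) {j : ℕ} (hj : j < (CDt.urep.getD k []).length)
    (hu : ((CDt.urep.getD k []).getD j (0, 0)).1 < 2048) :
    cntC T (ec T ((CDt.urep.getD k []).getD j (0, 0)).1 (pM (rP k))) (elS T q.1.1) = cWt (tcC T) (q.2.2.getD j 0) := by
  classical
  have he : q.1 ∈ CDt.roots.getD k [] := (List.of_mem_zip hq).1
  obtain ⟨hfib, hnd, hall, hlt⟩ := T.root_fibC hk he
  have ht := tabC_mem hk hq
  simp only [OChkC.rootTab, Bool.and_eq_true, leq_iff] at ht
  obtain ⟨⟨hn, hord⟩, hpk⟩ := ht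
  have hn' : 0 < q.2.1 := Nat.le_of_ble_eq_true hn
  set u := ((CDt.urep.getD k []).getD j (0, 0)).1 with hu'
  set σ := elS T q.1.1
  set X := pM (rP k)
  have hX := (rep_facts (by omega : k < 4)).2.2.1
  have hp : matS (X * σ) = Chk.cmul (rM k) (elD q.1.1) := by rw [T.mat_mul, hX, (T.elS_spec hlt).2]
  obtain ⟨h1, hmin⟩ := T.ordC (X * σ) q.2.1 0 (by rw [hp, pow_zero, T.mat_one]; exact hord)
  rw [zero_add] at h1
  set L := liftsAt q.1
  have hlen : L.length < 2 ^ 12 := by
    have h1 : ((L.map Prod.fst).toFinset).card ≤ 2048 := by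
      refine le_trans (Finset.card_le_card ?_) (le_of_eq (Finset.card_range 2048))
      rw [← hfib]
      exact fun v hv => Finset.mem_range.2 (mem_fibC.1 hv).1
    rw [List.toFinset_card_of_nodup hnd, List.length_map] at h1
    omega
  have hval : cWt (tcC T) (q.2.2.getD j 0) =
      L.countP fun v => !tcC T v.2 && hit k (normM (Chk.cmul (rM k) (elD q.1.1)) q.2.1) u v := by
    have hj' : q.2.2.getD j 0 = packC k (normM (Chk.cmul (rM k) (elD q.1.1)) q.2.1) u L := by
      rw [← hpk, List.getD_eq_getElem _ _ (by rw [List.length_map]; exact hj), List.getElem_map, hu',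
        List.getD_eq_getElem _ _ hj]
    have h9 : ∀ v ∈ L, v.2 < 9 := fun v hv => by have := (hall v hv).2.1; omega
    rw [hj', packC, ofRec_pack _ Prod.snd 9 L 0 h9, zero_add, cWt, countP_types _ Prod.snd (tcC T) 9 L h9,
      ← List.toFinset_range, List.sum_toFinset _ List.nodup_range]
    congr 1
    refine List.map_congr_left fun c hc => ?_
    congr 1
    rw [← List.sum_toFinset _ List.nodup_range, List.toFinset_range]
    show Nat.land (Nat.shiftRight _ (12 * c)) (2 ^ 12 - 1) = _
    rw [show ∀ a b : ℕ, Nat.shiftRight a b = a >>> b from fun _ _ => rfl, Nat.shiftRight_eq_div_pow]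
    exact (Nat.and_two_pow_sub_one_eq_mod _ 12).trans
      (digit_sum c 9 _ (fun c' => lt_of_le_of_lt List.countP_le_length hlen) (List.mem_range.1 hc))
  rw [hval, cntC, hfib, List.countP_eq_length_filter, ← List.length_map (f := Prod.fst),
    ← List.toFinset_card_of_nodup ((List.filter_sublist.map _).nodup hnd)]
  congr 1
  ext w
  simp only [Finset.mem_filter, List.mem_toFinset, List.mem_map, List.mem_filter, Bool.and_eq_true, Bool.not_eq_true']
  have hiff : ∀ v ∈ L, zPairC z ψ (ec T u X) (ec T v.1 σ) ↔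
      tcC T v.2 = false ∧ hit k (normM (Chk.cmul (rM k) (elD q.1.1)) q.2.1) u v = true := by
    intro v hv
    obtain ⟨hv1, -, hv3⟩ := hall v hv
    refine and_congr (by rw [hv3]) ?_
    have hc : u ^^^ Chk.app (matS X) v.1 < 2048 := Nat.xor_lt_two_pow (n := 11) hu (app_lt' (matS_good X).2 _)
    rw [T.ec_mul hu hv1, T.t_mem hn' (fun i hi h0 => hmin i (Nat.zero_le _) (by omega) h0) h1 hc,
      ← app_normM _ _ hc, hp, hX, OChkC.hit]
    exact ⟨fun e => by rw [show Nat.xor u (Chk.app (rM k) v.1) = u ^^^ Chk.app (rM k) v.1 from rfl, e]; exact Nat.beq_refl _,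
      Nat.eq_of_beq_eq_true⟩
  constructor
  · rintro ⟨⟨v, hv, rfl⟩, hP⟩
    exact ⟨v, ⟨hv, (hiff v hv).1 hP⟩, rfl⟩
  · rintro ⟨v, ⟨hv, hP⟩, rfl⟩
    exact ⟨⟨v, hv, rfl⟩, (hiff v hv).2 hP⟩

/-- pairs whose first member lies over a representative -/
theorem Sect.part_eqC {k : ℕ} (hk : k < 3) :
    ∑ v ∈ fibC (pM (rP k)), (bif tzG z (ec T v (pM (rP k))) then fullC T (ec T v (pM (rP k))) else 0) =
      cPart (tcC T) k ([[16, 16, 16, 16, 16, 16, 16, 16], [16, 16, 16, 16, 16, 16, 16, 16], [32, 32]].getD k []) := by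
  classical
  set X := pM (rP k) with hXdef
  set F := fun p : G => ((CDt.roots.getD k []).map fun e => e.2.1 * cntC T p (elS T e.1)).sum with hF
  have h1 : ∑ v ∈ fibC X, (bif tzG z (ec T v X) then fullC T (ec T v X) else 0) =
      ∑ v ∈ fibC X, (bif tzG z (ec T v X) then F (ec T v X) else 0) := by
    have e1 : ∀ p : G, (bif tzG z p then fullC T p else 0) =
        ∑ i ∈ Finset.range 2872, (bif tzG z p then cntC T p (elS T i) else 0) := fun p => by
      cases tzG z p
      · simp
      · rfl
    simp only [e1]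
    rw [Finset.sum_comm]
    have h2 : ∀ i ∈ Finset.range 2872, ∑ v ∈ fibC X, (bif tzG z (ec T v X) then cntC T (ec T v X) (elS T i) else 0) =
        ∑ v ∈ fibC X, (bif tzG z (ec T v X) then cntC T (ec T v X) (elS T (rootC k i)) else 0) := by
      intro i hi
      obtain ⟨g, hg, hgR, hlt, p0, hp0, hpc, hc⟩ := T.tree_conjC hk i (Finset.mem_range.1 hi)
      have hcomm : g * X * g⁻¹ = X := by rw [hgR.eq, mul_inv_cancel_right]
      rw [← T.elS_eq (Finset.mem_range.1 hi) hc, ← T.elS_eq hlt hpc]
      have e := T.sum_fibC g X fun p => bif tzG z p then cntC T p (g * p0 * g⁻¹) else 0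
      rw [hcomm] at e
      rw [← e]
      exact Finset.sum_congr rfl fun v _ => by rw [tzG_conj, T.cntC_conj hg]
    rw [Finset.sum_congr rfl h2, Finset.sum_comm]
    refine Finset.sum_congr rfl fun v _ => ?_
    cases tzG z (ec T v X)
    · simp
    · exact T.fib_rootC hk fun r => cntC T (ec T v X) (elS T r)
  obtain ⟨hfib, hnd⟩ := T.fib_repC hk
  rw [h1, hfib, List.sum_toFinset _ hnd, List.map_map,
    List.map_congr_left (g := fun m : ℕ × ℕ × ℕ =>
      1 * (bif tcC T ((CDt.urep.getD k []).getD m.2.1 (0, 0)).2 then cInner (tcC T) k m.2.1 else 0)) fun m hm => by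
      obtain ⟨hm1, hj, hv, hu, e⟩ := T.mem_trans hk hm
      simp only [Function.comp, one_mul]
      rw [(T.tz_memC hk hm).2, show memC k m = ((CDt.urep.getD k []).getD m.2.1 (0, 0)).2 from rfl]
      cases tcC T ((CDt.urep.getD k []).getD m.2.1 (0, 0)).2
      · rfl
      · simp only [cond_true]
        rw [cInner, hF, e]
        simp only
        conv_lhs => rw [← List.map_fst_zip (l₁ := CDt.roots.getD k []) (l₂ := ctabOf k) (le_of_eq (zipC_len k hk).symm)]
        rw [List.map_map]
        refine congrArg List.sum (List.map_congr_left fun q hq => ?_)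
        simp only [Function.comp]
        obtain ⟨hk', hw, hc⟩ := T.root_elemC hk (List.of_mem_zip hq).1
        obtain ⟨-, -, -, hlt⟩ := T.root_fibC hk (List.of_mem_zip hq).1
        rw [T.cntC_trans hv _ (by
          rw [← T.elS_eq hlt hc, conj_mul, (rep_facts hk').2.2.2, mul_one, mul_inv_cancel]), T.cnt_rootC hk hq hj hu]]
  rw [sum_keys (fun m : ℕ × ℕ × ℕ => m.2.1) (fun _ => 1) (fun j =>
      bif tcC T ((CDt.urep.getD k []).getD j (0, 0)).2 then cInner (tcC T) k j else 0)
    (CDt.urep.getD k []).length _ (cmult_ok k hk).1, cPart, ← (cmult_ok k hk).2, List.length_map, List.length_range,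
    ← List.sum_toFinset _ List.nodup_range, List.toFinset_range]
  refine Finset.sum_congr rfl fun j hj => ?_
  rw [List.getD_eq_getElem _ 0 (by rw [List.length_map, List.length_range]; exact Finset.mem_range.1 hj),
    List.getElem_map, List.getElem_range]
  cases tcC T ((CDt.urep.getD k []).getD j (0, 0)).2
  · simp
  · rfl

/-- pairs whose first member lies in the largest elementary abelian subgroup -/
theorem Sect.part_vec :
    ∑ v ∈ fibC (1 : Cfsg.M24), (bif tzG z (ec T v 1) then fullC T (ec T v 1) else 0) =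
      330 * (112 * (16 * (bif tcC T 2 then 0 else 1) + 112 * (bif tcC T 3 then 0 else 1))) + 231 := by
  classical
  set A := fun σ : Cfsg.M24 => ∑ v ∈ fibC (1 : Cfsg.M24), (bif tzG z (ec T v 1) then cntC T (ec T v 1) σ else 0)
    with hA
  have e1 : ∀ p : G, (bif tzG z p then fullC T p else 0) =
      ∑ i ∈ Finset.range 2872, (bif tzG z p then cntC T p (elS T i) else 0) := fun p => by
    cases tzG z p
    · simp
    · rfl
  simp only [e1]
  rw [Finset.sum_comm, T.sum_classC A fun g σ hg => by
    have e := T.sum_fibC g 1 fun p => bif tzG z p then cntC T p (g * σ * g⁻¹) else 0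
    rw [mul_one, mul_inv_cancel] at e
    rw [hA]
    simp only
    rw [← e]
    exact Finset.sum_congr rfl fun v _ => by rw [tzG_conj, T.cntC_conj hg]]
  -- the value over one representative
  have hfib1 : fibC (1 : Cfsg.M24) = ((List.range 2048).filter fun v => !Nat.beq v 0).toFinset := by
    ext v
    simp only [mem_fibC, List.mem_toFinset, List.mem_filter, List.mem_range, T.mat_one, Bool.not_eq_true', true_implies]
    refine and_congr_right fun hv => ?_
    rw [show Chk.app idM v = v from idM_app ⟨v, hv⟩]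
    exact ⟨fun h => Bool.eq_false_iff.2 fun e => h.2 (Nat.eq_of_beq_eq_true e),
      fun h => ⟨rfl, fun e => by rw [e] at h; simp at h⟩⟩
  have hk : ∀ k, k < 3 → A (pM (rP k)) =
      zMoved k * ((CDt.mems.getD k []).countP fun m => !tcC T (memC k m)) := by
    intro k hk
    have hX := (rep_facts (by omega : k < 4)).2.2.1
    have hX2 := (rep_facts (by omega : k < 4)).2.2.2
    have hXne : pM (rP k) ≠ 1 := fun e => by
      rw [e, T.mat_one] at hX
      have key : ∀ r < 3, idM ≠ rM r := by decide +kernel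
      exact key k hk hX
    obtain ⟨hfib, hnd⟩ := T.fib_repC hk
    have hcnt : ∀ v, v < 2048 → cntC T (ec T v 1) (pM (rP k)) =
        (if v ^^^ Chk.app (rM k) v = ntC then (CDt.mems.getD k []).countP (fun m => !tcC T (memC k m)) else 0) := by
      intro v hv
      have hiff : ∀ w ∈ fibC (pM (rP k)), zPairC z ψ (ec T v 1) (ec T w (pM (rP k))) ↔
          tzG z (ec T w (pM (rP k))) = false ∧ v ^^^ Chk.app (rM k) v = ntC := by
        intro w hw
        obtain ⟨h1, h2, -⟩ := mem_fibC.1 hw
        refine and_congr_right' ?_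
        have hc : v ^^^ w < 2048 := Nat.xor_lt_two_pow (n := 11) hv h1
        rw [T.ec_mul hv h1, one_mul, T.mat_one, show Chk.app idM w = w from idM_app ⟨w, h1⟩,
          T.t_mem (n := 2) (by norm_num) (fun j hj h0 => by
            obtain rfl : j = 1 := by omega
            rw [pow_one]; exact hXne) (by rw [pow_two, hX2]) hc,
          show sumC (matS (pM (rP k))) 2 (v ^^^ w) = (v ^^^ w) ^^^ (Chk.app (matS (pM (rP k))) (v ^^^ w) ^^^ 0) from rfl,
          Nat.xor_zero, app_xor, h2, hX,
          show v ^^^ w ^^^ (Chk.app (rM k) v ^^^ w) = v ^^^ Chk.app (rM k) v by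
            simp [Nat.xor_assoc, Nat.xor_comm, Nat.xor_left_comm]]
      rw [cntC, Finset.filter_congr hiff]
      by_cases hv2 : v ^^^ Chk.app (rM k) v = ntC
      · simp only [hv2, and_true, if_pos]
        rw [hfib, List.countP_eq_length_filter, ← List.length_map (f := Prod.fst),
          ← List.toFinset_card_of_nodup ((List.filter_sublist.map _).nodup hnd)]
        congr 1
        ext w
        simp only [Finset.mem_filter, List.mem_toFinset, List.mem_map, List.mem_filter, Bool.not_eq_true']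
        constructor
        · rintro ⟨⟨m, hm, rfl⟩, h⟩
          exact ⟨m, ⟨hm, by rw [← (T.tz_memC hk hm).2]; exact h⟩, rfl⟩
        · rintro ⟨m, ⟨hm, h⟩, rfl⟩
          exact ⟨⟨m, hm, rfl⟩, by rw [(T.tz_memC hk hm).2]; exact h⟩
      · simp only [hv2, and_false, Finset.filter_false, Finset.card_empty, if_false]
    rw [hA]
    simp only
    rw [Finset.sum_congr rfl fun v hv => show (bif tzG z (ec T v 1) then cntC T (ec T v 1) (pM (rP k)) else 0) =
        if (!Nat.beq v 0 && !isT v && Nat.beq (Nat.xor v (Chk.app (rM k) v)) ntC) = true then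
          (CDt.mems.getD k []).countP (fun m => !tcC T (memC k m)) else 0 by
      obtain ⟨hv', -, hv0⟩ := mem_fibC.1 hv
      have hv0' := hv0 rfl
      rw [T.ec_id, T.tz_vec hv' hv0', ← T.ec_id v, hcnt v hv',
        show Nat.beq v 0 = false from Bool.eq_false_iff.2 fun e => hv0' (Nat.eq_of_beq_eq_true e)]
      cases isT v
      · simp only [Bool.not_false, cond_true, Bool.true_and]
        refine if_congr ⟨fun e => by rw [show Nat.xor v (Chk.app (rM k) v) = v ^^^ Chk.app (rM k) v from rfl, e]; exact Nat.beq_refl _,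
          Nat.eq_of_beq_eq_true⟩ rfl rfl
      · simp]
    rw [← Finset.sum_filter, Finset.sum_const, smul_eq_mul]
    congr 1
    rw [zMoved, ← List.toFinset_card_of_nodup (List.nodup_range.filter _), hfib1]
    refine congrArg Finset.card ?_
    ext v
    simp only [Finset.mem_filter, List.mem_toFinset, List.mem_filter, List.mem_range, Bool.and_eq_true, Bool.not_eq_true']
    tauto
  have h3 : A (pM (rP 3)) = zShift := by
    have h31 : pM (rP 3) = 1 := T.mat_inj (by
      rw [(rep_facts (by norm_num : (3 : ℕ) < 4)).2.2.1, T.mat_one]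
      with_unfolding_all decide +kernel)
    rw [h31, hA]
    simp only
    rw [Finset.sum_congr rfl fun v hv => show (bif tzG z (ec T v 1) then cntC T (ec T v 1) 1 else 0) =
        if (!Nat.beq v 0 && !isT v && isT (Nat.xor v ntC)) = true then 1 else 0 by
      obtain ⟨hv', -, hv0⟩ := mem_fibC.1 hv
      have hv0' := hv0 rfl
      rw [T.ec_id, T.tz_vec hv' hv0',
        show Nat.beq v 0 = false from Bool.eq_false_iff.2 fun e => hv0' (Nat.eq_of_beq_eq_true e)]
      cases hT : isT v
      · simp only [Bool.not_false, cond_true, Bool.true_and]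
        have hne : v ≠ ntC := fun e => by
          rw [e] at hT
          have : isT ntC = true := by decide +kernel
          rw [this] at hT
          simp at hT
        have hx : v ^^^ ntC < 2048 := Nat.xor_lt_two_pow (n := 11) hv' ntC_lt
        have hx0 : v ^^^ ntC ≠ 0 := fun e => hne (Nat.xor_eq_zero_iff.1 e)
        rw [cntC]
        have hiff : ∀ w ∈ fibC (1 : Cfsg.M24), zPairC z ψ (ψ v) (ec T w 1) ↔ w = v ^^^ ntC ∧ isT (v ^^^ ntC) = true := by
          intro w hw
          obtain ⟨h1, -, h0⟩ := mem_fibC.1 hw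
          rw [zPairC, T.ec_id, T.tz_vec h1 (h0 rfl), ← T.ec_id v, ← T.ec_id w, T.ec_mul hv' h1, mul_one, T.mat_one,
            show Chk.app idM w = w from idM_app ⟨w, h1⟩,
            T.t_mem (n := 1) (by norm_num) (fun j hj h0 => by omega) (pow_one _)
              (Nat.xor_lt_two_pow (n := 11) hv' h1),
            show sumC (matS (1 : Cfsg.M24)) 1 (v ^^^ w) = (v ^^^ w) ^^^ 0 from rfl, Nat.xor_zero, Bool.not_eq_false']
          refine ⟨fun ⟨ha, hb⟩ => ?_, fun ⟨ha, hb⟩ => ⟨by rw [ha]; exact hb, by rw [ha, ← Nat.xor_assoc, Nat.xor_self, Nat.zero_xor]⟩⟩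
          have : w = v ^^^ ntC := by rw [← hb, ← Nat.xor_assoc, Nat.xor_self, Nat.zero_xor]
          exact ⟨this, this ▸ ha⟩
        rw [Finset.filter_congr hiff]
        by_cases hT2 : isT (v ^^^ ntC) = true
        · rw [if_pos (show isT (Nat.xor v ntC) = true from hT2)]
          simp only [hT2, and_true]
          rw [Finset.filter_eq', if_pos (mem_fibC.2 ⟨hx, by rw [T.mat_one]; exact idM_app ⟨_, hx⟩, fun _ => hx0⟩),
            Finset.card_singleton]
        · rw [if_neg (show ¬ isT (Nat.xor v ntC) = true from hT2)]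
          simp only [hT2, Bool.false_eq_true, and_false, Finset.filter_false, Finset.card_empty]
      · simp]
    rw [← Finset.sum_filter, Finset.sum_const, smul_eq_mul, mul_one, zShift,
      ← List.toFinset_card_of_nodup (List.nodup_range.filter _), hfib1]
    refine congrArg Finset.card ?_
    ext v
    simp only [Finset.mem_filter, List.mem_toFinset, List.mem_filter, List.mem_range, Bool.and_eq_true, Bool.not_eq_true']
    tauto
  obtain ⟨z0, z1, z2, z3⟩ := z_moved
  rw [hk 0 (by norm_num), hk 1 (by norm_num), hk 2 (by norm_num), h3, z0, z1, z2, z3]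
  have hc : (CDt.mems.getD 1 []).countP (fun m => !tcC T (memC 1 m)) =
      16 * (bif tcC T 2 then 0 else 1) + 112 * (bif tcC T 3 then 0 else 1) := by
    have key : ∀ L : List (ℕ × ℕ × ℕ), L.countP (fun m => !tcC T (memC 1 m)) =
        (L.map fun m => 1 * (bif tcC T (memC 1 m) then 0 else 1)).sum := by
      intro L
      induction L with
      | nil => rfl
      | cons m L ih =>
        rw [List.countP_cons, List.map_cons, List.sum_cons, ← ih]
        cases tcC T (memC 1 m) <;> simp [add_comm]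
    rw [key, sum_keys (memC 1) (fun _ => 1) (fun c => bif tcC T c then 0 else 1) 4 _ (by decide +kernel)]
    have hd : ((List.range 4).map fun c =>
        ((CDt.mems.getD 1 []).map fun m => bif Nat.beq (memC 1 m) c then 1 else 0).sum) = [0, 0, 16, 112] := by
      decide +kernel
    simp only [Finset.sum_range_succ, Finset.sum_range_zero]
    simp only [List.range_succ, List.range_zero, List.map_append, List.map_cons, List.map_nil, List.nil_append,
      List.cons_append, List.cons.injEq, and_true] at hd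
    obtain ⟨d0, d1, d2, d3⟩ := hd
    rw [d0, d1, d2, d3]
    ring
  rw [hc]
  ring

/-- sums of functions of the type over all involutions -/
theorem Sect.sum_typeC (Ψ : Bool → ℕ) : ∑ i ∈ Finset.range 2872, ∑ v ∈ fibC (elS T i), Ψ (tzG z (ec T v (elS T i))) =
    ∑ c ∈ Finset.range 9, [276, 1771, 5280, 36960, 44352, 44352, 18480, 18480, 110880].getD c 0 * Ψ (tcC T c) := by
  rw [T.sum_classC (fun σ => ∑ v ∈ fibC σ, Ψ (tzG z (ec T v σ))) fun g σ hg => by
    rw [← T.sum_fibC g σ fun p => Ψ (tzG z p)]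
    simp only [tzG_conj]]
  have hk : ∀ k, k < 3 → ∑ v ∈ fibC (pM (rP k)), Ψ (tzG z (ec T v (pM (rP k)))) =
      ∑ c ∈ Finset.range 9, ((CDt.mems.getD k []).map fun m => bif Nat.beq (memC k m) c then 1 else 0).sum *
        Ψ (tcC T c) := by
    intro k hk
    obtain ⟨hfib, hnd⟩ := T.fib_repC hk
    rw [hfib, List.sum_toFinset _ hnd, List.map_map,
      List.map_congr_left (g := fun m => 1 * Ψ (tcC T (memC k m))) fun m hm => by
        simp only [Function.comp, one_mul, (T.tz_memC hk hm).2]]
    exact sum_keys (memC k) (fun _ => 1) (fun c => Ψ (tcC T c)) 9 _ fun m hm => by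
      have := (T.tz_memC hk hm).1; omega
  have h3 : ∑ v ∈ fibC (pM (rP 3)), Ψ (tzG z (ec T v (pM (rP 3)))) =
      ∑ c ∈ Finset.range 9, ((((List.range 2048).filter fun v => !Nat.beq v 0)).map fun v =>
        bif Nat.beq (clsV v) c then 1 else 0).sum * Ψ (tcC T c) := by
    have h31 : pM (rP 3) = 1 := T.mat_inj (by
      rw [(rep_facts (by norm_num : (3 : ℕ) < 4)).2.2.1, T.mat_one]
      with_unfolding_all decide +kernel)
    have hfib1 : fibC (1 : Cfsg.M24) = ((List.range 2048).filter fun v => !Nat.beq v 0).toFinset := by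
      ext v
      simp only [mem_fibC, List.mem_toFinset, List.mem_filter, List.mem_range, T.mat_one, Bool.not_eq_true', true_implies]
      refine and_congr_right fun hv => ?_
      rw [show Chk.app idM v = v from idM_app ⟨v, hv⟩]
      exact ⟨fun h => Bool.eq_false_iff.2 fun e => h.2 (Nat.eq_of_beq_eq_true e),
        fun h => ⟨rfl, fun e => by rw [e] at h; simp at h⟩⟩
    rw [h31, hfib1, List.sum_toFinset _ (List.nodup_range.filter _),
      List.map_congr_left (g := fun v => 1 * Ψ (tcC T (clsV v))) fun v hv => by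
        obtain ⟨hv1, hv2⟩ := List.mem_filter.1 hv
        rw [one_mul, T.ec_id, T.tz_vec (List.mem_range.1 hv1) (fun e => by rw [e] at hv2; simp at hv2), OChkC.clsV]
        cases isT v <;> rfl]
    exact sum_keys clsV (fun _ => 1) (fun c => Ψ (tcC T c)) 9 _ fun v _ => by
      unfold OChkC.clsV; cases isT v <;> simp
  rw [hk 0 (by norm_num), hk 1 (by norm_num), hk 2 (by norm_num), h3, Finset.mul_sum, Finset.mul_sum, Finset.mul_sum,
    ← Finset.sum_add_distrib, ← Finset.sum_add_distrib, ← Finset.sum_add_distrib]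
  refine Finset.sum_congr rfl fun c hc => ?_
  rw [← mul_assoc, ← mul_assoc, ← mul_assoc, ← add_mul, ← add_mul, ← add_mul, ← clsC_count.2,
    List.getD_eq_getElem _ 0 (by rw [List.length_map, List.length_range]; exact Finset.mem_range.1 hc),
    List.getElem_map, List.getElem_range]

theorem Sect.count_centralC :
    ∑ i ∈ Finset.range 2872, ∑ v ∈ fibC (elS T i), (bif tzG z (ec T v (elS T i)) then 1 else 0) = cZ (tcC T) := by
  rw [T.sum_typeC fun b => bif b then 1 else 0, cZ]
  simp only [Finset.sum_range_succ, Finset.sum_range_zero, List.getD_cons_zero, List.getD_cons_succ]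
  rw [show tcC T 0 = false from rfl, show tcC T 1 = true from rfl]
  simp only [cond_true, cond_false, mul_zero, mul_one, zero_add]

/-- pairs of involutions of the two types generating the involution of the pair -/
theorem Sect.count_pairsC :
    ∑ i ∈ Finset.range 2872, ∑ v ∈ fibC (elS T i),
      (bif tzG z (ec T v (elS T i)) then fullC T (ec T v (elS T i)) else 0) = cSum (tcC T) := by
  rw [T.sum_classC (fun σ => ∑ v ∈ fibC σ, (bif tzG z (ec T v σ) then fullC T (ec T v σ) else 0)) fun g σ hg => by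
    rw [← T.sum_fibC g σ fun p => bif tzG z p then fullC T p else 0]
    simp only [tzG_conj, T.fullC_conj hg]]
  have h31 : pM (rP 3) = 1 := T.mat_inj (by
    rw [(rep_facts (by norm_num : (3 : ℕ) < 4)).2.2.1, T.mat_one]
    with_unfolding_all decide +kernel)
  rw [T.part_eqC (k := 0) (by norm_num), T.part_eqC (k := 1) (by norm_num), T.part_eqC (k := 2) (by norm_num), h31,
    T.part_vec]
  rfl

end Cfsg.Agent.Spor.JFour
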