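import Cfsg.Agent.Lib.Spor.JFourOrder.HSum
import Cfsg.Agent.Lib.Spor.JFourOrder.CSum

/-!
Janko four type: the possible types of the classes, the balance of commuting pairs and the order.
-/

set_option autoImplicit false
set_option maxRecDepth 100000

namespace Cfsg.Agent.Spor.JFour

/-- types of the classes in the centraliser of the central involution -/
def hT (a b c d e g h : Bool) : ℕ → Bool
  | 0 => true
  | 1 => true
  | 2 => false
  | 3 => a
  | 4 => b
  | 5 => c
  | 6 => d
  | 7 => e
  | 8 => g
  | _ => h

/-- types of the classes in the centraliser of the second class -/
def cT (a b c d e g h : Bool) : ℕ → Bool
  | 0 => false
  | 1 => true
  | 2 => a
  | 3 => b
  | 4 => c
  | 5 => d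
  | 6 => e
  | 7 => g
  | _ => h

/-- both values -/
def bools : List Bool := [false, true]

/-- a balanced choice with order divisible by twenty-three has the wanted order -/
def balance (K₁ K₂ T A B C D : ℕ) : Bool :=
  bif Nat.beq (A * K₁) (B * K₂) then
    (let g := C * K₁ + D * K₂
     bif Nat.beq (g % 23) 0 then Nat.beq g T else true)
  else true

theorem balance_use {K₁ K₂ T A B C D n : ℕ} (k : balance K₁ K₂ T A B C D = true) (h1 : A * K₁ = B * K₂)
    (hn : n = C * K₁ + D * K₂) (h23 : 23 ∣ n) : n = T := by
  subst hn
  simp only [balance, h1, Nat.beq_refl, cond_true, Nat.mod_eq_zero_of_dvd (m := 23) h23] at k
  exact Nat.eq_of_beq_eq_true k

/-- the check of one choice -/
def optCheck (σ τ : ℕ → Bool) : Bool :=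
  balance 1816657920 21799895040 86775571046077562880 (hAll - hZ σ) (cZ τ) (hSum σ) (cSum τ)

/-- all choices on the second side -/
def optInner (σ : ℕ → Bool) : Bool :=
  bools.all fun a => bools.all fun b => bools.all fun c => bools.all fun d =>
    bools.all fun e => bools.all fun g => bools.all fun h => optCheck σ (cT a b c d e g h)

/-- four of the choices on the first side -/
def optBlock (a b c d e : Bool) : Bool :=
  bools.all fun g => bools.all fun h => optInner (hT a b c d e g h)

theorem opt_00000 : optBlock false false false false false = true := by decide +kernel
theorem opt_00001 : optBlock false false false false true = true := by decide +kernel
theorem opt_00010 : optBlock false false false true false = true := by decide +kernel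
theorem opt_00011 : optBlock false false false true true = true := by decide +kernel
theorem opt_00100 : optBlock false false true false false = true := by decide +kernel
theorem opt_00101 : optBlock false false true false true = true := by decide +kernel
theorem opt_00110 : optBlock false false true true false = true := by decide +kernel
theorem opt_00111 : optBlock false false true true true = true := by decide +kernel
theorem opt_01000 : optBlock false true false false false = true := by decide +kernel
theorem opt_01001 : optBlock false true false false true = true := by decide +kernel
theorem opt_01010 : optBlock false true false true false = true := by decide +kernel
theorem opt_01011 : optBlock false true false true true = true := by decide +kernel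
theorem opt_01100 : optBlock false true true false false = true := by decide +kernel
theorem opt_01101 : optBlock false true true false true = true := by decide +kernel
theorem opt_01110 : optBlock false true true true false = true := by decide +kernel
theorem opt_01111 : optBlock false true true true true = true := by decide +kernel
theorem opt_10000 : optBlock true false false false false = true := by decide +kernel
theorem opt_10001 : optBlock true false false false true = true := by decide +kernel
theorem opt_10010 : optBlock true false false true false = true := by decide +kernel
theorem opt_10011 : optBlock true false false true true = true := by decide +kernel
theorem opt_10100 : optBlock true false true false false = true := by decide +kernel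
theorem opt_10101 : optBlock true false true false true = true := by decide +kernel
theorem opt_10110 : optBlock true false true true false = true := by decide +kernel
theorem opt_10111 : optBlock true false true true true = true := by decide +kernel
theorem opt_11000 : optBlock true true false false false = true := by decide +kernel
theorem opt_11001 : optBlock true true false false true = true := by decide +kernel
theorem opt_11010 : optBlock true true false true false = true := by decide +kernel
theorem opt_11011 : optBlock true true false true true = true := by decide +kernel
theorem opt_11100 : optBlock true true true false false = true := by decide +kernel
theorem opt_11101 : optBlock true true true false true = true := by decide +kernel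
theorem opt_11110 : optBlock true true true true false = true := by decide +kernel
theorem opt_11111 : optBlock true true true true true = true := by decide +kernel

theorem opt_ok : ∀ a b c d e : Bool, optBlock a b c d e = true
  | false, false, false, false, false => opt_00000
  | false, false, false, false, true => opt_00001
  | false, false, false, true, false => opt_00010
  | false, false, false, true, true => opt_00011
  | false, false, true, false, false => opt_00100
  | false, false, true, false, true => opt_00101
  | false, false, true, true, false => opt_00110
  | false, false, true, true, true => opt_00111
  | false, true, false, false, false => opt_01000
  | false, true, false, false, true => opt_01001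
  | false, true, false, true, false => opt_01010
  | false, true, false, true, true => opt_01011
  | false, true, true, false, false => opt_01100
  | false, true, true, false, true => opt_01101
  | false, true, true, true, false => opt_01110
  | false, true, true, true, true => opt_01111
  | true, false, false, false, false => opt_10000
  | true, false, false, false, true => opt_10001
  | true, false, false, true, false => opt_10010
  | true, false, false, true, true => opt_10011
  | true, false, true, false, false => opt_10100
  | true, false, true, false, true => opt_10101
  | true, false, true, true, false => opt_10110
  | true, false, true, true, true => opt_10111
  | true, true, false, false, false => opt_11000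
  | true, true, false, false, true => opt_11001
  | true, true, false, true, false => opt_11010
  | true, true, false, true, true => opt_11011
  | true, true, true, false, false => opt_11100
  | true, true, true, false, true => opt_11101
  | true, true, true, true, false => opt_11110
  | true, true, true, true, true => opt_11111

theorem bool_mem (a : Bool) : a ∈ bools := by cases a <;> decide

theorem opt_use (a b c d e g h a' b' c' d' e' g' h' : Bool)
    (h1 : (hAll - hZ (hT a b c d e g h)) * 1816657920 = cZ (cT a' b' c' d' e' g' h') * 21799895040) {n : ℕ}
    (hn : n = hSum (hT a b c d e g h) * 1816657920 + cSum (cT a' b' c' d' e' g' h') * 21799895040) (h23 : 23 ∣ n) :
    n = 86775571046077562880 := by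
  have k := opt_ok a b c d e
  simp only [optBlock, optInner, List.all_eq_true] at k
  have k' := k g (bool_mem g) h (bool_mem h)
    a' (bool_mem a') b' (bool_mem b') c' (bool_mem c') d' (bool_mem d') e' (bool_mem e') g' (bool_mem g') h'
    (bool_mem h')
  rw [optCheck] at k'
  exact balance_use k' h1 hn h23

end Cfsg.Agent.Spor.JFour
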