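import Cfsg.Agent.Lib.Spor.JFourOrder.HTotal
import Cfsg.Agent.Lib.Spor.JFourOrder.CSum
import Cfsg.Agent.Lib.Spor.JFourOrder.COptions
import Cfsg.Agent.Lib.Spor.JFourOrder.CCount
import Cfsg.Agent.Lib.Spor.JFourInvol
import Cfsg.Agent.Lib.Spor.JFourThompModel
import Cfsg.Agent.Lib.Spor.GolayTrans

/-!
Janko four type: two classes of involutions and the order of the group.
-/

set_option autoImplicit false
set_option maxRecDepth 100000
set_option linter.unusedSectionVars false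

namespace Cfsg.Agent.Spor.JFour

open scoped Pointwise
open Cfsg.Agent.Spor.LFT (iT iT_conj PointModel Des phN phN_lt pair_inj)
open OChkC

attribute [local irreducible] Gam Kp Chk.app LFT.Chk.app hSum cSum hZ cZ

universe u

variable {G : Type u} [Group G] [Finite G] {z : G} {Q N : Subgroup G} {x : G} {V : Subgroup G} {ψ : ℕ → G}

theorem Sect.pair_invol (T : Sect z V ψ) : ψ ntC * ψ ntC = 1 ∧ ψ ntC ≠ 1 ∧ ¬ IsConj z (ψ ntC) :=
  ⟨T.pm.sq _ ntC_lt, T.pair_iT.1, T.pair_iT.2⟩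

/-- the second class is a single class -/
theorem Big.iT_isConj (S : Big z Q N x) (f : Frame z Q x) (hVe : Cfsg.IsElementaryAbelian 2 V)
    (hVc : Nat.card V = 2 ^ 11) (T : Sect z V ψ) {t : G} (ht2 : t * t = 1) (ht : iT z t) :
    IsConj (ψ ntC) t := by
  obtain ⟨V', hV'e, hV'c, htV⟩ := S.iT_in_V f ht2 ht
  obtain ⟨h, hh⟩ := S.big_conj f hV'e hV'c hVe hVc
  have hmem : h * t * h⁻¹ ∈ V := hh ▸ ⟨t, htV, rfl⟩
  obtain ⟨n, hn, e⟩ := T.pm.surj _ hmem
  obtain ⟨p, hp, hpn⟩ := T.pm.eq_pair hn ((T.pm.cls n hn).1 (by rw [e, iT_conj]; exact ht))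
  obtain ⟨σ, hσ, hσs⟩ := exists_map_set (s := pairP) (by rw [pairP_card]; norm_num)
  obtain ⟨τ, hτ, hτs⟩ := exists_map_set (s := p) (by omega)
  rw [pairP_card] at hσs
  rw [hp] at hτs
  have hd := T.des ⟨τ * σ⁻¹, mul_mem hτ (inv_mem hσ)⟩ pairP pairP_card
  rw [show ((⟨τ * σ⁻¹, mul_mem hτ (inv_mem hσ)⟩ : Cfsg.M24) : Equiv.Perm GolayPt) • pairP = p by
    show (τ * σ⁻¹) • pairP = p
    rw [mul_smul, inv_smul_eq_iff.2 hσs.symm, hτs], phN_pairP, hpn, e] at hd
  exact IsConj.trans (isConj_iff.2 ⟨_, hd⟩) (isConj_iff.2 ⟨h⁻¹, by group⟩)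

theorem Big.two_classes (S : Big z Q N x) (f : Frame z Q x) (hVe : Cfsg.IsElementaryAbelian 2 V)
    (hVc : Nat.card V = 2 ^ 11) (T : Sect z V ψ) {t : G} (ht2 : t * t = 1) (ht1 : t ≠ 1) :
    IsConj z t ∨ IsConj (ψ ntC) t :=
  (em (IsConj z t)).imp_right fun h => S.iT_isConj f hVe hVc T ht2 ⟨ht1, h⟩

/-- the class of an involution is told by the flag -/
theorem Big.flag (S : Big z Q N x) (f : Frame z Q x) (hVe : Cfsg.IsElementaryAbelian 2 V)
    (hVc : Nat.card V = 2 ^ 11) (T : Sect z V ψ) {t : G} (ht2 : t * t = 1) (ht1 : t ≠ 1) :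
    IsConj (ψ ntC) t ↔ ¬ IsConj z t :=
  ⟨fun h h' => T.pair_invol.2.2 (h'.trans h.symm), fun h => S.iT_isConj f hVe hVc T ht2 ⟨ht1, h⟩⟩

theorem card_StP : Nat.card {σ : Cfsg.M24 // StPr σ} = 887040 := by
  classical
  have horb : MulAction.orbit Cfsg.M24 pairP =
      (↑((Finset.univ : Finset GolayPt).powersetCard 2) : Set (Finset GolayPt)) := by
    ext s
    rw [Finset.mem_coe, Finset.mem_powersetCard]
    constructor
    · rintro ⟨σ, rfl⟩
      exact ⟨Finset.subset_univ _, by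
        show ((σ : Equiv.Perm GolayPt) • pairP).card = 2
        rw [Finset.card_smul_finset, pairP_card]⟩
    · rintro ⟨-, hs⟩
      obtain ⟨σ, hσ, hσs⟩ := exists_map_set (s := pairP) (by rw [pairP_card]; norm_num)
      obtain ⟨τ, hτ, hτs⟩ := exists_map_set (s := s) (by omega)
      rw [pairP_card] at hσs
      rw [hs] at hτs
      refine ⟨⟨τ * σ⁻¹, mul_mem hτ (inv_mem hσ)⟩, ?_⟩
      show (τ * σ⁻¹) • pairP = s
      rw [mul_smul, inv_smul_eq_iff.2 hσs.symm, hτs]
  have h := Subgroup.index_mul_card (MulAction.stabilizer Cfsg.M24 pairP)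
  rw [MulAction.index_stabilizer, horb, Set.ncard_coe_finset, Finset.card_powersetCard, Finset.card_univ,
    Fintype.card_option, ZMod.card, Spor.card_M24, show Nat.choose (23 + 1) 2 = 276 from rfl] at h
  rw [show Nat.card {σ : Cfsg.M24 // StPr σ} = Nat.card (MulAction.stabilizer Cfsg.M24 pairP) from rfl]
  omega

theorem Sect.card_cen (T : Sect z V ψ) (S : Big z Q N x) (f : Frame z Q x) (hVe : Cfsg.IsElementaryAbelian 2 V)
    (hVc : Nat.card V = 2 ^ 11) : Nat.card (Subgroup.centralizer ({ψ ntC} : Set G)) = 1816657920 := by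
  have e : Nat.card (Fin 2048 × {σ : Cfsg.M24 // StPr σ}) = Nat.card (Subgroup.centralizer ({ψ ntC} : Set G)) := by
    refine Nat.card_congr (Equiv.ofBijective
      (fun p => ⟨ec T p.1.val p.2.val, (T.ec_cen p.1.2 _).2 p.2.2⟩) ⟨?_, ?_⟩)
    · rintro ⟨v, σ, hσ⟩ ⟨w, τ, hτ⟩ h
      obtain ⟨h1, h2⟩ := T.ec_inj v.2 w.2 (congrArg Subtype.val h)
      exact Prod.ext (Fin.ext h1) (Subtype.ext h2)
    · rintro ⟨y, hy⟩
      obtain ⟨v, hv, σ, hσ, rfl⟩ := T.cen_exists S f hVe hVc hy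
      exact ⟨(⟨v, hv⟩, ⟨σ, hσ⟩), rfl⟩
  rw [← e, Nat.card_prod, card_StP, Nat.card_eq_fintype_card, Fintype.card_fin]

theorem Sect.twenty_three (T : Sect z V ψ) : 23 ∣ Nat.card G := by
  have hinj : Function.Injective T.s := by
    rw [← MonoidHom.ker_eq_bot_iff, eq_bot_iff]
    exact fun σ hσ => Subgroup.mem_bot.2 (T.disj σ (by rw [MonoidHom.mem_ker.1 hσ]; exact one_mem V))
  refine dvd_trans ?_ (Subgroup.card_dvd_of_injective T.s hinj)
  rw [Spor.card_M24]
  norm_num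

theorem hT_eq {S : Big z Q N x} {f : Frame z Q x} (R : Reps S f) :
    tc R = hT (tc R 3) (tc R 4) (tc R 5) (tc R 6) (tc R 7) (tc R 8) (tc R 9) := by
  funext c
  rcases c with _|_|_|_|_|_|_|_|_|c <;> rfl

theorem cT_eq (T : Sect z V ψ) :
    tcC T = cT (tcC T 2) (tcC T 3) (tcC T 4) (tcC T 5) (tcC T 6) (tcC T 7) (tcC T 8) := by
  funext c
  rcases c with _|_|_|_|_|_|_|_|c <;> rfl

/-- involutions of the centraliser of the second class -/
noncomputable def invC (T : Sect z V ψ) : Finset (Σ _ : ℕ, ℕ) := (Finset.range 2872).sigma fun i => fibC (elS T i)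

theorem Sect.invC_inj (T : Sect z V ψ) :
    Set.InjOn (fun a : Σ _ : ℕ, ℕ => ec T a.2 (elS T a.1)) ↑(invC T) := by
  rintro ⟨i, v⟩ ha ⟨j, w⟩ hb h
  simp only [invC, Finset.coe_sigma, Set.mem_sigma_iff, Finset.mem_coe, Finset.mem_range] at ha hb
  obtain ⟨h1, h2⟩ := T.ec_inj (mem_fibC.1 ha.2).1 (mem_fibC.1 hb.2).1 h
  obtain rfl := T.elS_inj ha.1 hb.1 h2
  obtain rfl := h1
  rfl

theorem Sect.elS_sq (T : Sect z V ψ) {i : ℕ} (hi : i < 2872) : elS T i * elS T i = 1 := by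
  obtain ⟨g, -, -, hlt, p, -, hpc, hc⟩ := T.tree_conjC (k := 0) (by norm_num) i hi
  obtain ⟨e, he, hee⟩ := root_entryC (k := 0) (by norm_num) hi
  obtain ⟨hk', -, he'⟩ := T.root_elemC (k := 0) (by norm_num) he
  have e1 := T.elS_eq hlt hpc
  obtain ⟨-, -, -, hlt'⟩ := T.root_fibC (k := 0) (by norm_num) he
  have e2 := T.elS_eq hlt' he'
  rw [hee] at e2
  rw [← T.elS_eq hi hc, e1, ← e2, conj_mul, conj_mul, (rep_facts hk').2.2.2, mul_one, mul_inv_cancel, mul_one,
    mul_inv_cancel]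

theorem Sect.invC_img (T : Sect z V ψ) (S : Big z Q N x) (f : Frame z Q x) (hVe : Cfsg.IsElementaryAbelian 2 V)
    (hVc : Nat.card V = 2 ^ 11) (g : G) : (g * g = 1 ∧ g ≠ 1 ∧ Commute g (ψ ntC)) ↔
      ∃ a ∈ invC T, ec T a.2 (elS T a.1) = g := by
  constructor
  · rintro ⟨h1, h2, h3⟩
    obtain ⟨v, hv, σ, hσ, rfl⟩ := T.cen_exists S f hVe hVc (Subgroup.mem_centralizer_singleton_iff.2 h3.eq)
    have hσ2 : σ * σ = 1 := by
      have e := h1
      rw [T.ec_mul hv hv, ← T.ec_one] at e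
      exact (T.ec_inj (Nat.xor_lt_two_pow (n := 11) hv (app_lt' (matS_good σ).2 _)) (by norm_num) e).2
    obtain ⟨i, hi, rfl⟩ := T.list_allC hσ hσ2
    exact ⟨⟨i, v⟩, Finset.mem_sigma.2 ⟨Finset.mem_range.2 hi, (T.fib_inv hσ2 hv).1 ⟨h1, h2⟩⟩, rfl⟩
  · rintro ⟨⟨i, v⟩, ha, rfl⟩
    obtain ⟨hi, hv⟩ := Finset.mem_sigma.1 ha
    obtain ⟨hv', hfix, h0⟩ := mem_fibC.1 hv
    have hσ : StPr (elS T i) := (T.elS_spec (Finset.mem_range.1 hi)).1
    have hc : Commute (ec T v (elS T i)) (ψ ntC) :=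
      Subgroup.mem_centralizer_singleton_iff.1 ((T.ec_cen hv' _).2 hσ)
    have hσ2 : elS T i * elS T i = 1 := T.elS_sq (Finset.mem_range.1 hi)
    obtain ⟨h1, h2⟩ := (T.fib_inv hσ2 hv').2 hv
    exact ⟨h1, h2, hc⟩

theorem invI_img (z : G) (g : G) : (g * g = 1 ∧ g ≠ 1 ∧ Commute g z) ↔ ∃ a ∈ invI z, (a : G) = g := by
  constructor
  · rintro ⟨h1, h2, h3⟩
    exact ⟨⟨g, Subgroup.mem_centralizer_singleton_iff.2 h3.eq⟩,
      mem_invI.2 ⟨Subtype.ext h1, fun e => h2 (congrArg Subtype.val e)⟩, rfl⟩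
  · rintro ⟨a, ha, rfl⟩
    obtain ⟨h1, h2⟩ := mem_invI.1 ha
    exact ⟨congrArg Subtype.val h1, fun e => h2 (Subtype.ext e), Subgroup.mem_centralizer_singleton_iff.1 a.2⟩

theorem Big.rCount_z (S : Big z Q N x) (f : Frame z Q x) (R : Reps S f) (hVe : Cfsg.IsElementaryAbelian 2 V)
    (hVc : Nat.card V = 2 ^ 11) (T : Sect z V ψ) : Fusion.rCount z (ψ ntC) z = hSum (tc R) := by
  classical
  obtain ⟨t2, t1, -⟩ := T.pair_invol
  rw [rCount_sum (invI z) Subtype.val Subtype.val_injective.injOn S.base.ord.xt.sq S.base.ord.xt.ne t2 t1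
    S.base.ord.xt.sq (invI_img z), ← S.count_pairs f R]
  refine Finset.sum_congr rfl fun p _ => ?_
  cases hp : tz p
  · rw [if_neg fun h => Bool.false_ne_true (hp.symm.trans (tz_true.2 h))]
    rfl
  · rw [if_pos (tz_true.1 hp), cond_true, fullF]
    refine congrArg Finset.card (Finset.filter_congr fun q hq => ?_)
    obtain ⟨q2, q1, -⟩ := (invI_img z (q : G)).2 ⟨q, hq, rfl⟩
    refine and_congr ((S.flag f hVe hVc T q2 q1).trans ?_) Iff.rfl
    rw [← Bool.not_eq_true, tz_true]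

theorem Big.rCount_t (S : Big z Q N x) (f : Frame z Q x) (hVe : Cfsg.IsElementaryAbelian 2 V)
    (hVc : Nat.card V = 2 ^ 11) (T : Sect z V ψ) : Fusion.rCount z (ψ ntC) (ψ ntC) = cSum (tcC T) := by
  classical
  obtain ⟨t2, t1, -⟩ := T.pair_invol
  rw [rCount_sum (invC T) (fun a => ec T a.2 (elS T a.1)) T.invC_inj S.base.ord.xt.sq S.base.ord.xt.ne t2 t1 t2
    (T.invC_img S f hVe hVc), ← T.count_pairsC, invC, Finset.sum_sigma]
  refine Finset.sum_congr rfl fun i _ => Finset.sum_congr rfl fun v _ => ?_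
  cases hp : tzG z (ec T v (elS T i))
  · rw [if_neg fun h => Bool.false_ne_true (hp.symm.trans (tzG_true.2 h))]
    rfl
  · rw [if_pos (tzG_true.1 hp), cond_true, fullC, Finset.card_filter, Finset.sum_sigma]
    refine Finset.sum_congr rfl fun j hj => ?_
    rw [cntC, Finset.card_filter]
    refine Finset.sum_congr rfl fun w hw => if_congr ?_ rfl rfl
    obtain ⟨q2, q1, -⟩ := (T.invC_img S f hVe hVc _).2 ⟨⟨j, w⟩, Finset.mem_sigma.2 ⟨hj, hw⟩, rfl⟩
    refine and_congr ((S.flag f hVe hVc T q2 q1).trans ?_) Iff.rfl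
    rw [← Bool.not_eq_true, tzG_true]

theorem Big.class_z (S : Big z Q N x) (f : Frame z Q x) (hVe : Cfsg.IsElementaryAbelian 2 V)
    (hVc : Nat.card V = 2 ^ 11) (T : Sect z V ψ) :
    Nat.card {g : G // IsConj z g ∧ Commute g (ψ ntC)} = cZ (tcC T) := by
  classical
  rw [classCount_sum (invC T) (fun a => ec T a.2 (elS T a.1)) T.invC_inj S.base.ord.xt.sq S.base.ord.xt.ne
    (T.invC_img S f hVe hVc), ← T.count_centralC, invC, Finset.card_filter, Finset.sum_sigma]
  refine Finset.sum_congr rfl fun i _ => Finset.sum_congr rfl fun v _ => ?_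
  cases hp : tzG z (ec T v (elS T i))
  · rw [if_neg fun h => Bool.false_ne_true (hp.symm.trans (tzG_true.2 h))]
    rfl
  · rw [if_pos (tzG_true.1 hp)]
    rfl

theorem Big.class_t (S : Big z Q N x) (f : Frame z Q x) (R : Reps S f) (hVe : Cfsg.IsElementaryAbelian 2 V)
    (hVc : Nat.card V = 2 ^ 11) (T : Sect z V ψ) :
    Nat.card {g : G // IsConj (ψ ntC) g ∧ Commute g z} = hAll - hZ (tc R) := by
  classical
  obtain ⟨t2, t1, -⟩ := T.pair_invol
  rw [classCount_sum (invI z) Subtype.val Subtype.val_injective.injOn t2 t1 (invI_img z), ← S.count_central f R,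
    ← S.count_inv f, ← Finset.card_filter_add_card_filter_not (s := invI z) (fun p => tz p = true),
    Nat.add_sub_cancel_left]
  refine congrArg Finset.card (Finset.filter_congr fun q hq => ?_)
  obtain ⟨q2, q1, -⟩ := (invI_img z (q : G)).2 ⟨q, hq, rfl⟩
  rw [S.flag f hVe hVc T q2 q1, tz_true]

theorem Big.card_G (S : Big z Q N x) (f : Frame z Q x) (hVe : Cfsg.IsElementaryAbelian 2 V)
    (hVc : Nat.card V = 2 ^ 11) (T : Sect z V ψ) : Nat.card G = 86775571046077562880 := by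
  classical
  obtain ⟨R⟩ := S.exists_reps f
  obtain ⟨t2, t1, tnc⟩ := T.pair_invol
  have hz2 := S.base.ord.xt.sq
  have hz1 := S.base.ord.xt.ne
  set t := ψ ntC with ht
  have oz : orderOf z = 2 := S.base.zord
  have ot : orderOf t = 2 := orderOf_eq_prime (by rw [pow_two, t2]) t1
  have h := Fusion.thompson_order_count z t oz ot tnc {z, t}
    (fun w hw => by rcases Finset.mem_insert.1 hw with rfl | hw
                    · exact oz
                    · rw [Finset.mem_singleton.1 hw]; exact ot)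
    (fun g hg => by
      have g2 : g * g = 1 := by rw [← pow_two, ← hg]; exact pow_orderOf_eq_one g
      have g1 : g ≠ 1 := fun e => by rw [e, orderOf_one] at hg; norm_num at hg
      rcases S.two_classes f hVe hVc T g2 g1 with hc | hc
      · refine ⟨z, Finset.mem_insert_self _ _, hc.symm, fun w hw hw' => ?_⟩
        rcases Finset.mem_insert.1 hw with rfl | hw
        · rfl
        · rw [Finset.mem_singleton.1 hw] at hw'; exact absurd (hc.trans hw') tnc
      · refine ⟨t, Finset.mem_insert_of_mem (Finset.mem_singleton_self _), hc.symm, fun w hw hw' => ?_⟩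
        rcases Finset.mem_insert.1 hw with rfl | hw
        · exact absurd (hw'.symm.trans hc.symm) tnc
        · exact Finset.mem_singleton.1 hw)
  rw [Finset.sum_pair (show z ≠ t from fun e => tnc (e ▸ IsConj.refl z)), S.rCount_z f R hVe hVc T, S.rCount_t f hVe hVc T] at h
  have hcz := Char.card_conjClass_mul_centralizer z
  have hct := Char.card_conjClass_mul_centralizer t
  rw [f.card_C S.base, show (2 : ℕ) ^ 13 * 2661120 = 21799895040 by norm_num] at hcz
  rw [T.card_cen S f hVe hVc] at hct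
  have hN := order_of_counts Nat.card_pos hcz hct h
  have hp := commuting_pairs z t
  rw [S.class_z f hVe hVc T, S.class_t f R hVe hVc T] at hp
  have h1 : (hAll - hZ (tc R)) * 1816657920 = cZ (tcC T) * 21799895040 := by
    refine Nat.eq_of_mul_eq_mul_left (Nat.card_pos (α := G)) ?_
    calc Nat.card G * ((hAll - hZ (tc R)) * 1816657920)
        = Nat.card {g : G // IsConj z g} * 21799895040 * ((hAll - hZ (tc R)) * 1816657920) := by rw [hcz]
      _ = Nat.card {g : G // IsConj z g} * (hAll - hZ (tc R)) * (21799895040 * 1816657920) := by ring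
      _ = Nat.card {g : G // IsConj t g} * cZ (tcC T) * (21799895040 * 1816657920) := by rw [hp]
      _ = Nat.card {g : G // IsConj t g} * 1816657920 * (cZ (tcC T) * 21799895040) := by ring
      _ = _ := by rw [hct]
  rw [hT_eq R, cT_eq T] at h1 hN
  exact opt_use _ _ _ _ _ _ _ _ _ _ _ _ _ _ h1 hN T.twenty_three

/-- order and classes of involutions -/
theorem Big.census (S : Big z Q N x) (f : Frame z Q x) : Nat.card G = 86775571046077562880 ∧
    ∃ t : G, orderOf t = 2 ∧ ¬ IsConj z t ∧ ∀ g : G, orderOf g = 2 → IsConj g z ∨ IsConj g t := by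
  obtain ⟨A, hAe, hAc, -⟩ := S.A0_exists f
  obtain ⟨ψ, ⟨T⟩⟩ := S.exists_sect f hAe hAc
  obtain ⟨t2, t1, tnc⟩ := T.pair_invol
  refine ⟨S.card_G f hAe hAc T, ψ ntC, orderOf_eq_prime (by rw [pow_two, t2]) t1, tnc, fun g hg => ?_⟩
  have g2 : g * g = 1 := by rw [← pow_two, ← hg]; exact pow_orderOf_eq_one g
  have g1 : g ≠ 1 := fun e => by rw [e, orderOf_one] at hg; norm_num at hg
  exact (S.two_classes f hAe hAc T g2 g1).imp IsConj.symm IsConj.symm

/-- order and classes of involutions of a simple group of the type -/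
theorem type_census [IsSimpleGroup G] (hG : ¬ IsMulCommutative G) {w : G} (hJ : Cfsg.IsOfJankoFourTypeAt w) :
    Nat.card G = 86775571046077562880 ∧
      ∃ t : G, orderOf t = 2 ∧ ¬ IsConj w t ∧ ∀ g : G, orderOf g = 2 → IsConj g w ∨ IsConj g t := by
  obtain ⟨P, hJ⟩ := hJ
  obtain ⟨N, x, S, -⟩ := setup_of hJ
  obtain ⟨f⟩ := S.exists_frame
  exact (S.big hG).census f

end Cfsg.Agent.Spor.JFour
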