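import Cfsg.Agent.Lib.Spor.JFourOrder.CDefs

/-!
Janko four type: tables of case 1.
-/

set_option autoImplicit false
set_option maxRecDepth 100000
set_option Elab.async false

namespace Cfsg.Agent.Spor.JFour.OChkC

theorem tabs_ok_1_0 : ((List.zip (((CDt.roots.getD 1 []).drop 0).take 5) ((CDt.ctab1.drop 0).take 5)).all
    fun q => rootTab 1 q.1 q.2) = true := by
  decide +kernel

theorem tabs_ok_1_5 : ((List.zip (((CDt.roots.getD 1 []).drop 5).take 5) ((CDt.ctab1.drop 5).take 5)).all
    fun q => rootTab 1 q.1 q.2) = true := by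
  decide +kernel

theorem tabs_ok_1_10 : ((List.zip (((CDt.roots.getD 1 []).drop 10).take 5) ((CDt.ctab1.drop 10).take 5)).all
    fun q => rootTab 1 q.1 q.2) = true := by
  decide +kernel

theorem tabs_ok_1_15 : ((List.zip (((CDt.roots.getD 1 []).drop 15).take 3) ((CDt.ctab1.drop 15).take 3)).all
    fun q => rootTab 1 q.1 q.2) = true := by
  decide +kernel

theorem tabs_len_1 : (CDt.roots.getD 1 []).length = 18 ∧ CDt.ctab1.length = 18 := by
  decide +kernel


end Cfsg.Agent.Spor.JFour.OChkC
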