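import Cfsg.Agent.Lib.Spor.JFourOrder.CDefs

/-!
Janko four type: orbit forest 1.
-/

set_option autoImplicit false
set_option maxRecDepth 100000
set_option Elab.async false

namespace Cfsg.Agent.Spor.JFour.OChkC

theorem tree_ok_1_0 : ((List.range 359).all fun i => treeAt 1 (Nat.add 0 i)) = true := by
  decide +kernel

theorem tree_ok_1_1 : ((List.range 359).all fun i => treeAt 1 (Nat.add 359 i)) = true := by
  decide +kernel

theorem tree_ok_1_2 : ((List.range 359).all fun i => treeAt 1 (Nat.add 718 i)) = true := by
  decide +kernel

theorem tree_ok_1_3 : ((List.range 359).all fun i => treeAt 1 (Nat.add 1077 i)) = true := by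
  decide +kernel

theorem tree_ok_1_4 : ((List.range 359).all fun i => treeAt 1 (Nat.add 1436 i)) = true := by
  decide +kernel

theorem tree_ok_1_5 : ((List.range 359).all fun i => treeAt 1 (Nat.add 1795 i)) = true := by
  decide +kernel

theorem tree_ok_1_6 : ((List.range 359).all fun i => treeAt 1 (Nat.add 2154 i)) = true := by
  decide +kernel

theorem tree_ok_1_7 : ((List.range 359).all fun i => treeAt 1 (Nat.add 2513 i)) = true := by
  decide +kernel

theorem roots_ok_1 : rootsAt 1 = true := by
  decide +kernel

theorem word_ok_1 : rootWordAt 1 = true := by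
  decide +kernel


end Cfsg.Agent.Spor.JFour.OChkC
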