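import Cfsg.Agent.Lib.Spor.JFourOrder.CChkSmall
import Cfsg.Agent.Lib.Spor.JFourOrder.CChkList
import Cfsg.Agent.Lib.Spor.JFourOrder.CChkTree0
import Cfsg.Agent.Lib.Spor.JFourOrder.CChkTree1
import Cfsg.Agent.Lib.Spor.JFourOrder.CChkTree2
import Cfsg.Agent.Lib.Spor.JFourOrder.CChkTab0
import Cfsg.Agent.Lib.Spor.JFourOrder.CChkTab1
import Cfsg.Agent.Lib.Spor.JFourOrder.CChkTab2

/-!
Janko four type: the pieces of the checks in the centraliser of the second class put together.
-/

set_option autoImplicit false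
set_option maxRecDepth 100000

namespace Cfsg.Agent.Spor.JFour.OChkC

theorem all_chunk {p : ℕ → Bool} (h : ∀ j < 8, ((List.range 359).all fun i => p (Nat.add (359 * j) i)) = true)
    {i : ℕ} (hi : i < 2872) : p i = true := by
  have h' := h (i / 359) (by omega)
  simp only [List.all_eq_true, List.mem_range] at h'
  have := h' (i % 359) (Nat.mod_lt _ (by norm_num))
  rwa [show Nat.add (359 * (i / 359)) (i % 359) = i from Nat.div_add_mod i 359] at this

theorem list_ok {i : ℕ} (hi : i < 2872) : listAt i = true := by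
  refine all_chunk ?_ hi
  intro j hj
  match j, hj with
  | 0, _ => exact list_ok_0
  | 1, _ => exact list_ok_1
  | 2, _ => exact list_ok_2
  | 3, _ => exact list_ok_3
  | 4, _ => exact list_ok_4
  | 5, _ => exact list_ok_5
  | 6, _ => exact list_ok_6
  | 7, _ => exact list_ok_7
  | j + 8, h => omega

theorem tree_ok0 {i : ℕ} (hi : i < 2872) : treeAt 0 i = true := by
  refine all_chunk (p := treeAt 0) ?_ hi
  intro j hj
  match j, hj with
  | 0, _ => exact tree_ok_0_0
  | 1, _ => exact tree_ok_0_1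
  | 2, _ => exact tree_ok_0_2
  | 3, _ => exact tree_ok_0_3
  | 4, _ => exact tree_ok_0_4
  | 5, _ => exact tree_ok_0_5
  | 6, _ => exact tree_ok_0_6
  | 7, _ => exact tree_ok_0_7
  | j + 8, h => omega

theorem tree_ok1 {i : ℕ} (hi : i < 2872) : treeAt 1 i = true := by
  refine all_chunk (p := treeAt 1) ?_ hi
  intro j hj
  match j, hj with
  | 0, _ => exact tree_ok_1_0
  | 1, _ => exact tree_ok_1_1
  | 2, _ => exact tree_ok_1_2
  | 3, _ => exact tree_ok_1_3
  | 4, _ => exact tree_ok_1_4
  | 5, _ => exact tree_ok_1_5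
  | 6, _ => exact tree_ok_1_6
  | 7, _ => exact tree_ok_1_7
  | j + 8, h => omega

theorem tree_ok2 {i : ℕ} (hi : i < 2872) : treeAt 2 i = true := by
  refine all_chunk (p := treeAt 2) ?_ hi
  intro j hj
  match j, hj with
  | 0, _ => exact tree_ok_2_0
  | 1, _ => exact tree_ok_2_1
  | 2, _ => exact tree_ok_2_2
  | 3, _ => exact tree_ok_2_3
  | 4, _ => exact tree_ok_2_4
  | 5, _ => exact tree_ok_2_5
  | 6, _ => exact tree_ok_2_6
  | 7, _ => exact tree_ok_2_7
  | j + 8, h => omega

theorem tree_ok {k i : ℕ} (hk : k < 3) (hi : i < 2872) : treeAt k i = true := by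
  match k, hk with
  | 0, _ => exact tree_ok0 hi
  | 1, _ => exact tree_ok1 hi
  | 2, _ => exact tree_ok2 hi
  | k + 3, h => omega

theorem roots_ok {k : ℕ} (hk : k < 3) : rootsAt k = true ∧ rootWordAt k = true := by
  match k, hk with
  | 0, _ => exact ⟨roots_ok_0, word_ok_0⟩
  | 1, _ => exact ⟨roots_ok_1, word_ok_1⟩
  | 2, _ => exact ⟨roots_ok_2, word_ok_2⟩
  | k + 3, h => omega

/-- the tables of a case -/
def ctabOf (k : ℕ) : List (ℕ × List ℕ) := [CDt.ctab0, CDt.ctab1, CDt.ctab2].getD k []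

theorem drop_take {α β : Type} {A : List α} {B : List β} {P : α × β → Bool} (lo m : ℕ)
    (h : ((List.zip ((A.drop lo).take m) ((B.drop lo).take m)).all P) = true) {i : ℕ}
    (h1 : lo ≤ i) (h2 : i < lo + m) (hA : i < A.length) (hB : i < B.length) : P (A[i], B[i]) = true := by
  rw [List.all_eq_true] at h
  refine h _ (List.mem_iff_getElem.2 ⟨i - lo, ?_, ?_⟩)
  · simp only [List.length_zip, List.length_take, List.length_drop]; omega
  · simp only [List.getElem_zip, List.getElem_take, List.getElem_drop, show lo + (i - lo) = i by omega]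

theorem tabs_ok0 {i : ℕ} (hA : i < (CDt.roots.getD 0 []).length) (hB : i < CDt.ctab0.length) :
    rootTab 0 (CDt.roots.getD 0 [])[i] CDt.ctab0[i] = true := by
  have hn := tabs_len_0.1
  by_cases c0 : i < 5
  · exact drop_take 0 5 tabs_ok_0_0 (by omega) (by omega) hA hB
  by_cases c5 : i < 10
  · exact drop_take 5 5 tabs_ok_0_5 (by omega) (by omega) hA hB
  by_cases c10 : i < 15
  · exact drop_take 10 5 tabs_ok_0_10 (by omega) (by omega) hA hB
  by_cases c15 : i < 20
  · exact drop_take 15 5 tabs_ok_0_15 (by omega) (by omega) hA hB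
  by_cases c20 : i < 25
  · exact drop_take 20 5 tabs_ok_0_20 (by omega) (by omega) hA hB
  by_cases c25 : i < 30
  · exact drop_take 25 5 tabs_ok_0_25 (by omega) (by omega) hA hB
  by_cases c30 : i < 31
  · exact drop_take 30 1 tabs_ok_0_30 (by omega) (by omega) hA hB
  omega

theorem tabs_ok1 {i : ℕ} (hA : i < (CDt.roots.getD 1 []).length) (hB : i < CDt.ctab1.length) :
    rootTab 1 (CDt.roots.getD 1 [])[i] CDt.ctab1[i] = true := by
  have hn := tabs_len_1.1
  by_cases c0 : i < 5
  · exact drop_take 0 5 tabs_ok_1_0 (by omega) (by omega) hA hB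
  by_cases c5 : i < 10
  · exact drop_take 5 5 tabs_ok_1_5 (by omega) (by omega) hA hB
  by_cases c10 : i < 15
  · exact drop_take 10 5 tabs_ok_1_10 (by omega) (by omega) hA hB
  by_cases c15 : i < 18
  · exact drop_take 15 3 tabs_ok_1_15 (by omega) (by omega) hA hB
  omega

theorem tabs_ok2 {i : ℕ} (hA : i < (CDt.roots.getD 2 []).length) (hB : i < CDt.ctab2.length) :
    rootTab 2 (CDt.roots.getD 2 [])[i] CDt.ctab2[i] = true := by
  have hn := tabs_len_2.1
  by_cases c0 : i < 5
  · exact drop_take 0 5 tabs_ok_2_0 (by omega) (by omega) hA hB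
  by_cases c5 : i < 10
  · exact drop_take 5 5 tabs_ok_2_5 (by omega) (by omega) hA hB
  by_cases c10 : i < 15
  · exact drop_take 10 5 tabs_ok_2_10 (by omega) (by omega) hA hB
  by_cases c15 : i < 20
  · exact drop_take 15 5 tabs_ok_2_15 (by omega) (by omega) hA hB
  by_cases c20 : i < 25
  · exact drop_take 20 5 tabs_ok_2_20 (by omega) (by omega) hA hB
  by_cases c25 : i < 26
  · exact drop_take 25 1 tabs_ok_2_25 (by omega) (by omega) hA hB
  omega

end Cfsg.Agent.Spor.JFour.OChkC
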