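import Cfsg.Agent.Lib.Spor.JFourOrder.CDefs

/-!
Janko four type: small checks in the centraliser of the second class.
-/

set_option autoImplicit false
set_option maxRecDepth 100000
set_option Elab.async false

namespace Cfsg.Agent.Spor.JFour.OChkC

theorem unit_ok : unitOK = true := by
  decide +kernel

theorem base_ok : baseOK = true := by
  decide +kernel

theorem lev_ok : levOK = true := by
  decide +kernel

theorem words_ok : wordsOK = true := by
  decide +kernel

theorem shift_ok_zero : shiftOK 0 = true := by
  decide +kernel

theorem shift_ok_one : shiftOK 1 = true := by
  decide +kernel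

theorem fix_ok : fixOK = true := by
  decide +kernel

theorem gx_ok : gxOK = true := by
  decide +kernel

theorem mem_ok_zero : memOK 0 = true := by
  decide +kernel

theorem mem_ok_one : memOK 1 = true := by
  decide +kernel

theorem mem_ok_two : memOK 2 = true := by
  decide +kernel

theorem link_ok : linkOK = true := by
  decide +kernel

theorem z_moved : zMoved 0 = 0 ∧ zMoved 1 = 112 ∧ zMoved 2 = 0 ∧ zShift = 231 := by
  decide +kernel


end Cfsg.Agent.Spor.JFour.OChkC
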