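import Cfsg.Agent.Lib.Spor.JFourData

/-!
Janko four type: classes of the involutions over three representatives.
-/

set_option autoImplicit false
set_option maxRecDepth 100000

namespace Cfsg.Agent.Spor.JFour.CDt

/-- representatives: vector and class -/
def urep : List (List (ℕ × ℕ)) := [
  [(0, 6), (2, 8), (1668, 8), (1031, 8), (6, 8), (1670, 8), (1029, 8), (4, 7)],
  [(0, 2), (3, 3), (87, 3), (1334, 3), (116, 3), (575, 3), (572, 3), (1027, 3)],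
  [(0, 4), (16, 5)]]

/-- members: vector, representative, translating vector -/
def mems : List (List (ℕ × ℕ × ℕ)) := [
  [
  (0, 0, 0), (2, 1, 0), (4, 7, 0), (6, 4, 0), (112, 7, 57), (114, 4, 57),
  (116, 0, 57), (118, 1, 57), (128, 7, 40), (130, 4, 40), (132, 0, 40), (134, 1, 40),
  (240, 0, 17), (242, 1, 17), (244, 7, 17), (246, 4, 17), (257, 5, 8), (259, 2, 8),
  (261, 3, 24), (263, 6, 24), (369, 3, 33), (371, 6, 33), (373, 5, 49), (375, 2, 49),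
  (385, 3, 48), (387, 6, 48), (389, 5, 32), (391, 2, 32), (497, 5, 25), (499, 2, 25),
  (501, 3, 9), (503, 6, 9), (513, 0, 56), (515, 1, 56), (517, 7, 56), (519, 4, 56),
  (625, 7, 1), (627, 4, 1), (629, 0, 1), (631, 1, 1), (641, 7, 16), (643, 4, 16),
  (645, 0, 16), (647, 1, 16), (753, 0, 41), (755, 1, 41), (757, 7, 41), (759, 4, 41),
  (768, 5, 48), (770, 2, 48), (772, 3, 32), (774, 6, 32), (880, 3, 25), (882, 6, 25),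
  (884, 5, 9), (886, 2, 9), (896, 3, 8), (898, 6, 8), (900, 5, 24), (902, 2, 24),
  (1008, 5, 33), (1010, 2, 33), (1012, 3, 49), (1014, 6, 49), (1025, 2, 16), (1027, 5, 16),
  (1029, 6, 0), (1031, 3, 0), (1137, 6, 57), (1139, 3, 57), (1141, 2, 41), (1143, 5, 41),
  (1153, 6, 40), (1155, 3, 40), (1157, 2, 56), (1159, 5, 56), (1265, 2, 1), (1267, 5, 1),
  (1269, 6, 17), (1271, 3, 17), (1280, 1, 24), (1282, 0, 24), (1284, 4, 24), (1286, 7, 24),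
  (1392, 4, 33), (1394, 7, 33), (1396, 1, 33), (1398, 0, 33), (1408, 4, 48), (1410, 7, 48),
  (1412, 1, 48), (1414, 0, 48), (1520, 1, 9), (1522, 0, 9), (1524, 4, 9), (1526, 7, 9),
  (1536, 2, 40), (1538, 5, 40), (1540, 6, 56), (1542, 3, 56), (1648, 6, 1), (1650, 3, 1),
  (1652, 2, 17), (1654, 5, 17), (1664, 6, 16), (1666, 3, 16), (1668, 2, 0), (1670, 5, 0),
  (1776, 2, 57), (1778, 5, 57), (1780, 6, 41), (1782, 3, 41), (1793, 1, 32), (1795, 0, 32),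
  (1797, 4, 32), (1799, 7, 32), (1905, 4, 25), (1907, 7, 25), (1909, 1, 25), (1911, 0, 25),
  (1921, 4, 8), (1923, 7, 8), (1925, 1, 8), (1927, 0, 8), (2033, 1, 49), (2035, 0, 49),
  (2037, 4, 49), (2039, 7, 49)],
  [
  (0, 0, 0), (3, 1, 0), (32, 5, 24), (35, 6, 24), (84, 3, 25), (87, 2, 0),
  (116, 4, 0), (119, 7, 8), (128, 0, 21), (131, 1, 21), (160, 5, 13), (163, 6, 13),
  (212, 3, 12), (215, 2, 21), (244, 4, 21), (247, 7, 29), (277, 1, 17), (278, 0, 17),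
  (309, 6, 9), (310, 5, 9), (321, 2, 17), (322, 3, 8), (353, 7, 25), (354, 4, 17),
  (405, 1, 4), (406, 0, 4), (437, 6, 28), (438, 5, 28), (449, 2, 4), (450, 3, 29),
  (481, 7, 12), (482, 4, 4), (540, 1, 24), (543, 0, 24), (572, 6, 0), (575, 5, 0),
  (584, 2, 24), (587, 3, 1), (616, 7, 16), (619, 4, 24), (668, 1, 13), (671, 0, 13),
  (700, 6, 21), (703, 5, 21), (712, 2, 13), (715, 3, 20), (744, 7, 5), (747, 4, 13),
  (777, 0, 9), (778, 1, 9), (809, 5, 17), (810, 6, 17), (861, 3, 16), (862, 2, 9),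
  (893, 4, 9), (894, 7, 1), (905, 0, 28), (906, 1, 28), (937, 5, 4), (938, 6, 4),
  (989, 3, 5), (990, 2, 28), (1021, 4, 28), (1022, 7, 20), (1024, 4, 8), (1027, 7, 0),
  (1056, 3, 17), (1059, 2, 8), (1108, 5, 16), (1111, 6, 16), (1140, 0, 8), (1143, 1, 8),
  (1152, 4, 29), (1155, 7, 21), (1184, 3, 4), (1187, 2, 29), (1236, 5, 5), (1239, 6, 5),
  (1268, 0, 29), (1271, 1, 29), (1301, 7, 17), (1302, 4, 25), (1333, 2, 25), (1334, 3, 0),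
  (1345, 6, 1), (1346, 5, 1), (1377, 1, 25), (1378, 0, 25), (1429, 7, 4), (1430, 4, 12),
  (1461, 2, 12), (1462, 3, 21), (1473, 6, 20), (1474, 5, 20), (1505, 1, 12), (1506, 0, 12),
  (1564, 7, 24), (1567, 4, 16), (1596, 2, 16), (1599, 3, 9), (1608, 6, 8), (1611, 5, 8),
  (1640, 1, 16), (1643, 0, 16), (1692, 7, 13), (1695, 4, 5), (1724, 2, 5), (1727, 3, 28),
  (1736, 6, 29), (1739, 5, 29), (1768, 1, 5), (1771, 0, 5), (1801, 4, 1), (1802, 7, 9),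
  (1833, 3, 24), (1834, 2, 1), (1885, 5, 25), (1886, 6, 25), (1917, 0, 1), (1918, 1, 1),
  (1929, 4, 20), (1930, 7, 28), (1961, 3, 13), (1962, 2, 20), (2013, 5, 12), (2014, 6, 12),
  (2045, 0, 20), (2046, 1, 20)],
  [
  (0, 0, 0), (16, 1, 0), (111, 1, 5), (127, 0, 5), (128, 1, 9), (144, 0, 9),
  (239, 0, 12), (255, 1, 12), (294, 1, 40), (310, 0, 40), (329, 0, 45), (345, 1, 45),
  (422, 0, 33), (438, 1, 33), (457, 1, 36), (473, 0, 36), (515, 1, 44), (531, 0, 44),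
  (620, 0, 41), (636, 1, 41), (643, 0, 37), (659, 1, 37), (748, 1, 32), (764, 0, 32),
  (805, 0, 4), (821, 1, 4), (842, 1, 1), (858, 0, 1), (933, 1, 13), (949, 0, 13),
  (970, 0, 8), (986, 1, 8), (1064, 1, 42), (1080, 0, 42), (1095, 0, 47), (1111, 1, 47),
  (1192, 0, 35), (1208, 1, 35), (1223, 1, 38), (1239, 0, 38), (1294, 0, 2), (1310, 1, 2),
  (1377, 1, 7), (1393, 0, 7), (1422, 1, 11), (1438, 0, 11), (1505, 0, 14), (1521, 1, 14),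
  (1579, 0, 6), (1595, 1, 6), (1604, 1, 3), (1620, 0, 3), (1707, 1, 15), (1723, 0, 15),
  (1732, 0, 10), (1748, 1, 10), (1805, 1, 46), (1821, 0, 46), (1890, 0, 43), (1906, 1, 43),
  (1933, 0, 39), (1949, 1, 39), (2018, 1, 34), (2034, 0, 34)]]

/-- the first representative of the class and a word carrying it -/
def linkW : List (List (ℕ × List ℕ)) := [
  [(0, []), (1, []), (1, [1]), (1, [0, 1]), (1, [1, 1]), (1, [1, 0, 1]), (1, [1, 1, 1]), (7, [])],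
  [(0, []), (1, []), (1, [1]), (1, [2]), (1, [1, 1]), (1, [2, 1]), (1, [1, 2]), (1, [0, 1, 1])],
  [(0, []), (1, [])]]

/-- roots: index, orbit size, representative, conjugating word -/
def roots : List (List (ℕ × ℕ × ℕ × List ℕ)) := [
  [
  (0, 192, 0, [0, 1, 2, 1, 0, 0]), (1, 384, 2, [2, 2, 0, 1, 1, 2, 0]), (3, 192, 2, [0, 0, 0, 2, 2, 2]),
  (8, 48, 0, [0, 2, 0, 2, 1, 0, 0]), (9, 12, 1, [0, 0, 1, 1, 0, 1]), (10, 96, 0, [2, 1, 0, 0, 2, 2, 2]),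
  (11, 16, 1, [0, 1, 2, 0, 0, 0]), (15, 24, 0, [1, 1, 1, 0, 1, 2]), (17, 48, 1, [0, 2, 2, 0]),
  (73, 192, 2, [1, 1, 1, 0, 0]), (74, 384, 0, [0, 0, 0, 1, 1, 2]), (76, 384, 2, [1, 1, 1, 1, 0, 2]),
  (82, 192, 0, [2, 2, 2, 1, 2, 1, 0]), (86, 96, 2, [0, 2, 2, 1, 0]), (112, 48, 0, [2, 1, 2, 0, 2, 2, 1, 0]),
  (113, 192, 1, [2, 1, 2, 1]), (125, 6, 0, [1, 1, 0, 2, 1, 2, 1]), (126, 12, 1, [1, 2, 2, 2, 0, 0]),
  (140, 48, 1, [1, 2, 1, 2]), (148, 96, 0, [2, 0, 1, 0, 2, 0]), (154, 24, 2, [1, 0, 1, 2, 1, 1, 0]),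
  (165, 48, 2, [0, 1, 0, 0, 2, 1, 1, 0]), (191, 48, 2, [0, 0, 2, 1, 0, 1, 1]), (234, 48, 0, [1, 2, 1, 1]),
  (252, 8, 0, [2, 2, 2, 0, 0, 1, 1]), (282, 6, 2, [2, 2, 0, 2, 1, 0, 0]), (283, 12, 0, [1, 2, 0, 2, 2, 2]),
  (359, 12, 2, [1, 1, 0, 1, 0]), (1400, 1, 3, []), (1997, 2, 1, [2, 2, 1, 1, 1]),
  (2498, 1, 0, [])],
  [
  (0, 672, 0, [0, 1, 2, 1, 0, 0]), (1, 672, 2, [2, 2, 0, 1, 1, 2, 0]), (3, 168, 2, [0, 0, 0, 2, 2, 2]),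
  (8, 168, 0, [0, 2, 0, 2, 1, 0, 0]), (9, 168, 1, [0, 0, 1, 1, 0, 1]), (11, 42, 1, [0, 1, 2, 0, 0, 0]),
  (13, 42, 0, [0, 0, 0, 1, 0]), (30, 336, 2, [1, 0, 1, 0, 0, 2]), (33, 112, 1, [1, 2, 2]),
  (37, 168, 0, [2, 0, 1, 1, 2]), (52, 168, 2, [1, 1, 2, 2, 0]), (74, 56, 0, [0, 0, 0, 1, 1, 2]),
  (96, 42, 2, [2, 0, 0, 1, 1, 0, 2]), (100, 42, 0, [0, 2, 2, 2, 0, 1, 2]), (329, 7, 1, [2, 0, 0, 2, 0]),
  (330, 7, 0, [2, 0, 0, 2, 2]), (1391, 1, 1, []), (1400, 1, 3, [])],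
  [
  (0, 320, 0, [0, 1, 2, 1, 0, 0]), (1, 640, 2, [2, 2, 0, 1, 1, 2, 0]), (3, 80, 2, [0, 0, 0, 2, 2, 2]),
  (5, 160, 2, [1, 1, 2, 1, 0, 0, 1]), (8, 320, 0, [0, 2, 0, 2, 1, 0, 0]), (9, 160, 1, [0, 0, 1, 1, 0, 1]),
  (10, 40, 0, [2, 1, 0, 0, 2, 2, 2]), (11, 80, 1, [0, 1, 2, 0, 0, 0]), (12, 40, 0, [1, 1, 1, 2, 1, 0]),
  (13, 160, 0, [0, 0, 0, 1, 0]), (16, 160, 0, [2, 1, 0, 2]), (17, 40, 1, [0, 2, 2, 0]),
  (29, 320, 2, [0, 1, 2, 1, 2, 2]), (49, 20, 0, [1, 0, 0, 0, 2, 1]), (52, 80, 2, [1, 1, 2, 2, 0]),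
  (55, 40, 2, [0, 2, 2, 2, 1, 2]), (57, 10, 1, [0, 2, 2, 2, 0]), (59, 40, 1, [1, 2, 1, 1, 2]),
  (62, 80, 0, [0, 2, 2, 2, 2]), (69, 5, 0, [0, 2, 2, 2, 1, 0]), (247, 10, 0, [0, 2, 0, 1, 0, 2, 1]),
  (407, 20, 2, [1, 2, 0, 2, 2, 0]), (418, 40, 2, [2, 0, 2, 1, 0, 1]), (419, 5, 2, [0, 0, 1, 1, 2, 2]),
  (1400, 1, 3, []), (2118, 1, 2, [])]]

end Cfsg.Agent.Spor.JFour.CDt
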