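import Cfsg.Agent.Lib.Spor.JFourDefs
import Cfsg.Agent.Lib.Spor.LFTMathieu
import Cfsg.Agent.Lib.Spor.GolayElems
import Cfsg.Agent.Lib.Spor.JFourOrder.CConst
import Cfsg.Agent.Lib.Spor.JFourOrder.CList
import Cfsg.Agent.Lib.Spor.JFourOrder.CTrees
import Cfsg.Agent.Lib.Spor.JFourOrder.CClassData
import Cfsg.Agent.Lib.Spor.JFourOrder.CTableData

/-!
Janko four type: checkers for the census of pairs of involutions in the centraliser of the second class.
-/

set_option autoImplicit false
set_option maxRecDepth 100000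

namespace Cfsg.Agent.Spor.JFour.OChkC

open Cfsg.Agent.Spor.JFour.Chk (app cmul leq)
open Cfsg.Agent.Spor.CC (fld)

/-- the identity matrix -/
def idM : List ℕ := [1, 2, 4, 8, 16, 32, 64, 128, 256, 512, 1024]

/-- the vector of the pair of the first two points -/
def ntC : ℕ := Nat.xor (LFT.Dat.ptP.getD 0 0) (LFT.Dat.ptP.getD 1 0)

/-- the class of the pairs -/
def isT (v : ℕ) : Bool := LFT.Chk.tb LFT.Dat.tXor v

/-- a matrix from its packed form -/
def unp (m : ℕ) : List ℕ :=
  [fld m 11 0, fld m 11 1, fld m 11 2, fld m 11 3, fld m 11 4, fld m 11 5, fld m 11 6, fld m 11 7, fld m 11 8,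
    fld m 11 9, fld m 11 10]

/-- packed member of the list -/
def pkC (i : ℕ) : ℕ := fld (CDt.invB.getD (Nat.div i 64) 0) 121 (Nat.mod i 64)

/-- member of the list -/
def elD (i : ℕ) : List ℕ := unp (pkC i)

/-- neighbour -/
def nbC (s i : ℕ) : ℕ := fld (([CDt.nb0, CDt.nb1, CDt.nb2].getD s []).getD (Nat.div i 64) 0) 12 (Nat.mod i 64)

/-- forest entry -/
def trE (k i : ℕ) : ℕ :=
  fld (([CDt.tree0, CDt.tree1, CDt.tree2].getD k []).getD (Nat.div i 64) 0) 32 (Nat.mod i 64)

/-- root -/
def rootC (k i : ℕ) : ℕ := fld (trE k i) 12 0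

/-- parent -/
def parC (k i : ℕ) : ℕ := fld (trE k i) 12 1

/-- generator -/
def genC (k i : ℕ) : ℕ := fld (trE k i) 2 12

/-- depth -/
def depC (k i : ℕ) : ℕ := Nat.shiftRight (trE k i) 26

/-- matrix of a generator -/
def gnM (s : ℕ) : List ℕ := CDt.genM.getD s []

/-- a generator -/
def gnP (s : ℕ) : List ℕ := CDt.genP.getD s []

/-- matrix of a representative -/
def rM (k : ℕ) : List ℕ := CDt.repM.getD k []

/-- a representative -/
def rP (k : ℕ) : List ℕ := CDt.repP.getD k []

/-- matrix of a word -/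
def evM (w : List ℕ) : List ℕ := w.foldr (fun s r => cmul (gnM s) r) idM

/-- permutation of a word -/
def evP (w : List ℕ) : List ℕ := w.foldr (fun s r => lmul (gnP s) r) (List.range 24)

/-- matrix of a permutation -/
def matL (l : List ℕ) : List ℕ :=
  (List.range 11).map fun i => LFT.Chk.app LFT.Dat.ptP (pm l (LFT.Dat.unitM.getD i 0) 0)

/-- the stabiliser generators -/
def gX (k g : ℕ) : List ℕ := (CDt.gxC.getD k []).getD g []

/-- the word of a stabiliser generator -/
def gXw (k g : ℕ) : List ℕ := (CDt.gxW.getD k []).getD g []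

/-- the pair is stabilised -/
def pairFix (l : List ℕ) : Bool :=
  (Nat.beq (l.getD 0 0) 0 && Nat.beq (l.getD 1 0) 1) || (Nat.beq (l.getD 0 0) 1 && Nat.beq (l.getD 1 0) 0)

/-- units -/
def unitOK : Bool :=
  (List.range 11).all fun i =>
    let m := LFT.Dat.unitM.getD i 0
    Nat.blt m 16777216 && Nat.beq (Nat.mod (pc m) 2) 0 && Nat.beq (LFT.Chk.app LFT.Dat.ptP m) (Nat.pow 2 i)

/-- generators and representatives -/
def baseOK : Bool :=
  (List.range 3).all (fun s => m24ok (gnP s) && pairFix (gnP s) && leq (matL (gnP s)) (gnM s)) &&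
    (List.range 4).all fun k => m24ok (rP k) && pairFix (rP k) && leq (matL (rP k)) (rM k) &&
      leq (lmul (rP k) (rP k)) (List.range 24)

/-- elements reaching every element of the stabiliser -/
def levOK : Bool :=
  let L := fun j => CDt.levP.getD j []
  Nat.beq (L 0).length 1 &&
    (L 0).all (fun r => m24ok r && Nat.beq (r.getD 0 0) 1 && Nat.beq (r.getD 1 0) 0) &&
    (L 1).all (fun r => m24ok r && Nat.beq (r.getD 0 0) 0 && Nat.beq (r.getD 1 0) 1) &&
    (List.range 22).all (fun j => (L 1).any fun r => Nat.beq (r.getD 2 0) (Nat.add j 2)) &&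
    (L 2).all (fun r => m24ok r && Nat.beq (r.getD 0 0) 0 && Nat.beq (r.getD 1 0) 1 && Nat.beq (r.getD 2 0) 2) &&
    (List.range 21).all fun j => (L 2).any fun r => Nat.beq (r.getD 3 0) (Nat.add j 3)

/-- these elements are words -/
def wordsOK : Bool :=
  let T := [CDt.levP.getD 0 [], CDt.levP.getD 1 [], CDt.levP.getD 2 [], transA, transB, transC]
  (List.range 6).all fun j =>
    let W := CDt.levW.getD j []
    let R := T.getD j []
    Nat.beq W.length R.length &&
      (List.zip W R).all fun q => q.1.all (Nat.blt · 3) && leq (evP q.1) q.2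

/-- every involution with the given images of four points is listed -/
def shiftOK (k : ℕ) : Bool :=
  let r := CDt.shiftP.getD k []
  let rp := packList r
  m24ok r && (List.range 4).all (fun i => Nat.beq (r.getD i 0) ((bif Nat.beq k 0 then [1, 0, 3, 2] else [0, 1, 3, 2]).getD i 0)) &&
    fix4Packed.all fun v => !sqTestP (pget rp v) ||
      (CDt.shiftI.getD k []).any fun i => Nat.blt i 2872 && leq (elD i) (matL ((List.range 24).map (pget rp v)))

/-- the list is increasing and closed under the generators -/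
def listAt (i : ℕ) : Bool :=
  (Nat.beq i 0 || Nat.blt (pkC (Nat.sub i 1)) (pkC i)) &&
    (List.range 3).all fun s => Nat.blt (nbC s i) 2872 && leq (cmul (gnM s) (elD i)) (cmul (elD (nbC s i)) (gnM s))

/-- special members -/
def fixOK : Bool :=
  (List.range 4).all fun k => Nat.blt (CDt.fix0.getD k 0) 2872 && leq (elD (CDt.fix0.getD k 0)) (rM k)

/-- the representative is fixed -/
def gxOK : Bool :=
  (List.range 3).all fun k => (List.range 3).all fun g =>
    (gXw k g).all (Nat.blt · 3) && leq (evM (gXw k g)) (gX k g) && leq (cmul (gX k g) (rM k)) (cmul (rM k) (gX k g))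

/-- an edge of a forest -/
def treeAt (k i : ℕ) : Bool :=
  bif Nat.beq (depC k i) 0 then Nat.beq (rootC k i) i
  else Nat.blt (parC k i) 2872 && Nat.blt (depC k (parC k i)) (depC k i) && Nat.beq (rootC k (parC k i)) (rootC k i) &&
    Nat.blt (genC k i) 3 && leq (cmul (gX k (genC k i)) (elD (parC k i))) (cmul (elD i) (gX k (genC k i)))

/-- the roots with sizes -/
def rootsAt (k : ℕ) : Bool :=
  let L := CDt.roots.getD k []
  let R := (List.range 2872).map (rootC k)
  (decide (L.map Prod.fst).Nodup) &&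
    L.all (fun e => Nat.blt e.1 2872 && Nat.beq (R.countP (Nat.beq e.1)) e.2.1) &&
    Nat.beq (L.map fun e => e.2.1).sum 2872

/-- the word of a root carries its representative to it -/
def rootWordAt (k : ℕ) : Bool :=
  (CDt.roots.getD k []).all fun e =>
    Nat.blt e.2.2.1 4 && e.2.2.2.all (Nat.blt · 3) &&
      leq (cmul (evM e.2.2.2) (rM e.2.2.1)) (cmul (elD e.1) (evM e.2.2.2))

/-- a vector fixed by the representative -/
def invAt (k v : ℕ) : Bool := Nat.beq (app (rM k) v) v

/-- the members list everything -/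
def memOK (k : ℕ) : Bool :=
  let M := CDt.mems.getD k []
  let U := CDt.urep.getD k []
  leq ((List.range 2048).filter (invAt k)) (M.map Prod.fst) &&
    M.all fun m =>
      let a := (U.getD m.2.1 (0, 0)).1
      Nat.blt m.2.1 U.length && Nat.blt m.2.2 2048 &&
        Nat.beq (Nat.xor (Nat.xor m.2.2 a) (app (rM k) m.2.2)) m.1

/-- class of a member -/
def memC (k : ℕ) (m : ℕ × ℕ × ℕ) : ℕ := ((CDt.urep.getD k []).getD m.2.1 (0, 0)).2

/-- class of a vector -/
def clsV (v : ℕ) : ℕ := bif isT v then 0 else 1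

/-- representative of a class: case and vector -/
def clsRep : ℕ → ℕ × ℕ
  | 2 => (1, 0)
  | 3 => (1, 3)
  | 4 => (2, 0)
  | 5 => (2, 16)
  | 6 => (0, 0)
  | 7 => (0, 4)
  | _ => (0, 2)

/-- representatives of one class are joined -/
def linkOK : Bool :=
  (List.range 3).all fun k =>
    let U := CDt.urep.getD k []
    (List.range U.length).all fun j =>
      let l := (CDt.linkW.getD k []).getD j (0, [])
      let u := U.getD j (0, 0)
      let b := U.getD l.1 (0, 0)
      Nat.blt u.1 2048 && Nat.ble 2 u.2 && Nat.ble u.2 8 && Nat.beq (clsRep u.2).1 k &&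
        Nat.beq (clsRep u.2).2 b.1 && Nat.blt l.1 U.length && l.2.all (Nat.blt · 3) &&
        Nat.beq (l.2.foldr (fun g y => app (gX k g) y) b.1) u.1

/-- lifts over a root, with classes -/
def liftsAt (e : ℕ × ℕ × ℕ × List ℕ) : List (ℕ × ℕ) :=
  bif Nat.beq e.2.2.1 3 then ((List.range 2048).filter fun v => !Nat.beq v 0).map fun v => (v, clsV v)
  else
    let g := evM e.2.2.2
    (CDt.mems.getD e.2.2.1 []).map fun m => (app g m.1, memC e.2.2.1 m)

/-- order of the product, given as a candidate -/
def ordOK (p : List ℕ) : ℕ → ℕ → List ℕ → Bool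
  | 0, _, q => leq q idM
  | n + 1, i, q => (Nat.beq i 0 || !leq q idM) && ordOK p n (Nat.succ i) (cmul p q)

/-- norm map -/
def normM (p : List ℕ) : ℕ → List ℕ
  | 0 => List.replicate 11 0
  | n + 1 => List.zipWith Nat.xor idM (cmul p (normM p n))

/-- the pair generates the involution of the pair of points -/
def hit (k : ℕ) (Np : List ℕ) (u : ℕ) (v : ℕ × ℕ) : Bool :=
  Nat.beq (app Np (Nat.xor u (app (rM k) v.1))) ntC

/-- packed counts by classes -/
def packC (k : ℕ) (Np : List ℕ) (u : ℕ) (L : List (ℕ × ℕ)) : ℕ :=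
  L.foldl (fun acc v => bif hit k Np u v then Nat.add acc (Nat.pow 2 (Nat.mul 12 v.2)) else acc) 0

/-- table of one root: the order and the packed counts for the representatives -/
def rootTab (k : ℕ) (e : ℕ × ℕ × ℕ × List ℕ) (d : ℕ × List ℕ) : Bool :=
  let p := cmul (rM k) (elD e.1)
  let Np := normM p d.1
  let L := liftsAt e
  Nat.blt 0 d.1 && ordOK p d.1 0 idM && leq ((CDt.urep.getD k []).map fun u => packC k Np u.1 L) d.2

/-- central-class vectors moved by the pair vector -/
def zMoved (k : ℕ) : ℕ :=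
  ((List.range 2048).filter fun v => !Nat.beq v 0 && !isT v && Nat.beq (Nat.xor v (app (rM k) v)) ntC).length

/-- central-class vectors translated to pairs -/
def zShift : ℕ := ((List.range 2048).filter fun v => !Nat.beq v 0 && !isT v && isT (Nat.xor v ntC)).length

end Cfsg.Agent.Spor.JFour.OChkC
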