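import Cfsg.Agent.Lib.Spor.JFourOrder.CModel
import Cfsg.Agent.Lib.Spor.JFourOrder.CChkAll

/-!
Janko four type: the list of involutions of the stabiliser of a pair, its roots and their orbits.
-/

set_option autoImplicit false
set_option maxRecDepth 100000
set_option linter.unusedSectionVars false

namespace Cfsg.Agent.Spor.JFour

open scoped Pointwise
open Cfsg.Agent.Spor.LFT (iT iT_conj PointModel Des phN phN_lt phN_symm pair_table pair_inj)
open Cfsg.Agent.Spor.CC (fld)
open OChkC

attribute [local irreducible] Chk.app LFT.Chk.app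

theorem fld_ltC (v w i : ℕ) : fld v w i < 2 ^ w := by
  have h : 1 ≤ 2 ^ w := Nat.one_le_two_pow
  exact lt_of_le_of_lt Nat.and_le_right (by show 2 ^ w - 1 < 2 ^ w; omega)

theorem unpC_inj {a b : ℕ} (ha : a < 2 ^ 121) (hb : b < 2 ^ 121) (h : OChkC.unp a = OChkC.unp b) : a = b := by
  simp only [OChkC.unp, List.cons.injEq, and_true] at h
  obtain ⟨h0, h1, h2, h3, h4, h5, h6, h7, h8, h9, h10⟩ := h
  have e : ∀ (v i : ℕ), fld v 11 i = v / 2 ^ (11 * i) % 2 ^ 11 := fun v i => by
    show Nat.land (Nat.shiftRight v (11 * i)) (2 ^ 11 - 1) = _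
    rw [show Nat.shiftRight v (11 * i) = v >>> (11 * i) from rfl, Nat.shiftRight_eq_div_pow]
    exact Nat.and_two_pow_sub_one_eq_mod _ 11
  have step : ∀ (i : ℕ), fld a 11 i = fld b 11 i → a / 2 ^ (11 * (i + 1)) = b / 2 ^ (11 * (i + 1)) →
      a / 2 ^ (11 * i) = b / 2 ^ (11 * i) := fun i hf hd => by
    rw [e, e] at hf
    rw [Nat.mul_succ, pow_add, ← Nat.div_div_eq_div_mul, ← Nat.div_div_eq_div_mul] at hd
    rw [← Nat.div_add_mod (a / 2 ^ (11 * i)) (2 ^ 11), hd, hf, Nat.div_add_mod]
  have hz : a / 2 ^ (11 * 11) = b / 2 ^ (11 * 11) := by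
    rw [Nat.div_eq_of_lt ha, Nat.div_eq_of_lt hb]
  have := step 0 h0 (step 1 h1 (step 2 h2 (step 3 h3 (step 4 h4 (step 5 h5 (step 6 h6 (step 7 h7 (step 8 h8
    (step 9 h9 (step 10 h10 hz))))))))))
  simpa using this

theorem elD_good (i : ℕ) : (elD i).length = 11 ∧ ∀ c ∈ elD i, c < 2048 := by
  refine ⟨rfl, fun c hc => ?_⟩
  simp only [elD, OChkC.unp, List.mem_cons, List.not_mem_nil, or_false] at hc
  rcases hc with rfl | rfl | rfl | rfl | rfl | rfl | rfl | rfl | rfl | rfl | rfl <;> exact fld_ltC _ 11 _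

theorem listC_mono {i j : ℕ} (hij : i < j) (hj : j < 2872) : pkC i < pkC j := by
  induction j with
  | zero => omega
  | succ j ih =>
    have h := OChkC.list_ok hj
    simp only [OChkC.listAt, Bool.and_eq_true, Bool.or_eq_true] at h
    have h' : pkC j < pkC (j + 1) := by
      rcases h.1 with e | e
      · exact absurd (Nat.eq_of_beq_eq_true e) (Nat.succ_ne_zero j)
      · exact Nat.le_of_ble_eq_true e
    rcases Nat.lt_succ_iff_lt_or_eq.1 hij with e | rfl
    · exact lt_trans (ih e (by omega)) h'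
    · exact h'

theorem elD_inj {i j : ℕ} (hi : i < 2872) (hj : j < 2872) (h : elD i = elD j) : i = j := by
  have e := unpC_inj (fld_ltC _ _ _) (fld_ltC _ _ _) h
  rcases lt_trichotomy i j with h' | h' | h'
  · exact absurd e (listC_mono h' hj).ne
  · exact h'
  · exact absurd e (listC_mono h' hi).ne'

theorem idM_pow : idM = (List.range 11).map (2 ^ ·) := by decide +kernel

theorem app_unit : ∀ L : List ℕ, L.length = 11 → Chk.cmul L idM = L
  | [a, b, c, d, e, f, g, h, k, l, m], _ => by
    simp only [Chk.cmul, idM, List.map_cons, List.map_nil, List.cons.injEq, and_true]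
    refine ⟨?_, ?_, ?_, ?_, ?_, ?_, ?_, ?_, ?_, ?_, ?_⟩ <;> with_unfolding_all exact Nat.zero_xor _

/-- equal lists from equal maps -/
theorem eq_of_app11 {L M : List ℕ} (hL : L.length = 11) (hM : M.length = 11)
    (h : ∀ n < 2048, Chk.app L n = Chk.app M n) : L = M := by
  rw [← app_unit L hL, ← app_unit M hM, Chk.cmul, Chk.cmul]
  refine List.map_congr_left fun c hc => h c ?_
  revert c hc
  decide +kernel

theorem root_entryC {k : ℕ} (hk : k < 3) {i : ℕ} (hi : i < 2872) :
    ∃ e ∈ CDt.roots.getD k [], e.1 = rootC k i := by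
  have h := (OChkC.roots_ok hk).1
  simp only [OChkC.rootsAt, Bool.and_eq_true, List.all_eq_true, decide_eq_true_eq] at h
  obtain ⟨⟨hnd, hall⟩, hsum⟩ := h
  by_contra hne
  set L := CDt.roots.getD k [] with hL
  set R := (List.range 2872).map (rootC k) with hR
  have hlt : (L.map fun e => e.2.1).sum < 2872 := by
    have e1 : (L.map fun e => e.2.1) = (L.map Prod.fst).map (fun r => R.count r) := by
      rw [List.map_map]
      refine List.map_congr_left fun e he => ?_
      rw [Function.comp, List.count_eq_countP, ← Nat.eq_of_beq_eq_true (hall e he).2]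
      refine List.countP_congr fun a _ => ?_
      simp only [beq_iff_eq]
      exact ⟨fun h => (Nat.eq_of_beq_eq_true h).symm, fun h => by rw [h, Nat.beq_refl]⟩
    rw [e1, ← List.sum_toFinset _ hnd]
    calc ∑ r ∈ (L.map Prod.fst).toFinset, R.count r
        < ∑ r ∈ insert (rootC k i) (L.map Prod.fst).toFinset, R.count r := by
          refine Finset.sum_lt_sum_of_subset (Finset.subset_insert _ _) (Finset.mem_insert_self _ _) ?_ ?_ ?_
          · simp only [List.mem_toFinset, List.mem_map]
            rintro ⟨e, he, h'⟩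
            exact hne ⟨e, he, h'⟩
          · exact List.count_pos_iff.2 (List.mem_map.2 ⟨i, List.mem_range.2 hi, rfl⟩)
          · exact fun _ _ _ => Nat.zero_le _
      _ ≤ R.length := by
          refine le_trans (Finset.sum_le_sum_of_subset (t := insert (rootC k i) (L.map Prod.fst).toFinset ∪ R.toFinset)
            Finset.subset_union_left) ?_
          rw [← Finset.sum_subset Finset.subset_union_right fun a _ ha => List.count_eq_zero.2 (by simpa using ha),
            List.sum_toFinset_count_eq_length]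
      _ = 2872 := by rw [hR, List.length_map, List.length_range]
  rw [Nat.eq_of_beq_eq_true hsum] at hlt
  omega

universe u

variable {G : Type u} [Group G] [Finite G] {z : G} {V : Subgroup G} {ψ : ℕ → G} (T : Sect z V ψ)

include T

/-- a conjugate from an equation of matrices -/
theorem Sect.conj_mat (g p : Cfsg.M24) {L : List ℕ} (hL : L.length = 11)
    (h : Chk.cmul (matS g) (matS p) = Chk.cmul L (matS g)) : matS (g * p * g⁻¹) = L := by
  refine eq_of_app11 (matS_good _).1 hL fun n hn => ?_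
  set m := Chk.app (matS g⁻¹) n
  have hm : Chk.app (matS g) m = n := by
    rw [← T.app_mul, mul_inv_cancel, T.mat_one]
    exact idM_app ⟨n, hn⟩
  rw [mul_assoc, T.app_mul, T.app_mul, ← app_cmul, h, app_cmul, hm]

theorem Sect.gx_factsC {k g : ℕ} (hk : k < 3) (hg : g < 3) :
    StPr (wP (gXw k g)) ∧ matS (wP (gXw k g)) = gX k g ∧ Commute (wP (gXw k g)) (pM (rP k)) := by
  have h := OChkC.gx_ok
  simp only [OChkC.gxOK, List.all_eq_true, List.mem_range, Bool.and_eq_true, leq_iff] at h
  obtain ⟨⟨hw, he⟩, hx⟩ := h k hk g hg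
  have hw' : ∀ s ∈ gXw k g, s < 3 := fun s hs => Nat.le_of_ble_eq_true (hw s hs)
  have hc := (T.mat_word _ hw').trans he
  refine ⟨(wP_rep _ hw').2, hc, T.mat_inj ?_⟩
  rw [T.mat_mul, T.mat_mul, hc, (rep_facts (by omega : k < 4)).2.2.1]
  exact hx

theorem Sect.root_elemC {k : ℕ} (hk : k < 3) {e : ℕ × ℕ × ℕ × List ℕ} (he : e ∈ CDt.roots.getD k []) :
    e.2.2.1 < 4 ∧ (∀ s ∈ e.2.2.2, s < 3) ∧
      matS (wP e.2.2.2 * pM (rP e.2.2.1) * (wP e.2.2.2)⁻¹) = elD e.1 := by
  have h := (OChkC.roots_ok hk).2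
  simp only [OChkC.rootWordAt, List.all_eq_true, Bool.and_eq_true, leq_iff] at h
  obtain ⟨⟨hk', hw⟩, heq⟩ := h e he
  have hw' : ∀ s ∈ e.2.2.2, s < 3 := fun s hs => Nat.le_of_ble_eq_true (hw s hs)
  refine ⟨Nat.le_of_ble_eq_true hk', hw', T.conj_mat _ _ (elD_good _).1 ?_⟩
  rw [T.mat_word _ hw', (rep_facts (Nat.le_of_ble_eq_true hk')).2.2.1]
  exact heq

/-- a member is a conjugate of its root by a stabilising element -/
theorem Sect.tree_conjC {k : ℕ} (hk : k < 3) : ∀ i < 2872, ∃ g, StPr g ∧ Commute g (pM (rP k)) ∧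
    rootC k i < 2872 ∧ ∃ p, StPr p ∧ matS p = elD (rootC k i) ∧ matS (g * p * g⁻¹) = elD i := by
  suffices h : ∀ d i, i < 2872 → depC k i ≤ d → ∃ g, StPr g ∧ Commute g (pM (rP k)) ∧
      rootC k i < 2872 ∧ ∃ p, StPr p ∧ matS p = elD (rootC k i) ∧ matS (g * p * g⁻¹) = elD i from
    fun i hi => h _ i hi le_rfl
  intro d
  induction d with
  | zero =>
    intro i hi hd
    have h := OChkC.tree_ok hk hi
    rw [OChkC.treeAt, Nat.le_zero.1 hd] at h
    have hr : rootC k i = i := Nat.eq_of_beq_eq_true h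
    obtain ⟨e, he, hei⟩ := root_entryC hk hi
    obtain ⟨hk', hw, hc⟩ := T.root_elemC hk he
    rw [hei] at hc
    refine ⟨1, StPr.one, Commute.one_left _, by rw [hr]; exact hi, _,
      (((wP_rep _ hw).2.mul (rep_facts hk').2.1).mul (wP_rep _ hw).2.inv), hc, ?_⟩
    rw [one_mul, inv_one, mul_one, hc, hr]
  | succ d ih =>
    intro i hi hd
    by_cases h0 : depC k i ≤ d
    · exact ih i hi h0
    have h := OChkC.tree_ok hk hi
    have hb : Nat.beq (depC k i) 0 = false := by
      cases e : Nat.beq (depC k i) 0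
      · rfl
      · exact absurd (Nat.eq_of_beq_eq_true e) (by omega)
    simp only [OChkC.treeAt, hb, cond_false, Bool.and_eq_true, leq_iff] at h
    obtain ⟨⟨⟨⟨hpar, hdep⟩, hroot⟩, hgen⟩, heq⟩ := h
    have hdep' : depC k (parC k i) < depC k i := Nat.le_of_ble_eq_true hdep
    have hroot' : rootC k (parC k i) = rootC k i := Nat.eq_of_beq_eq_true hroot
    obtain ⟨g, hg, hgR, hlt, p, hp, hpc, hc⟩ := ih _ (Nat.le_of_ble_eq_true hpar) (by omega)
    obtain ⟨hw, hwc, hwR⟩ := T.gx_factsC hk (Nat.le_of_ble_eq_true hgen)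
    set w := wP (gXw k (genC k i))
    refine ⟨w * g, hw.mul hg, hwR.mul_left hgR, hroot' ▸ hlt, p, hp, by rw [← hroot']; exact hpc, ?_⟩
    rw [show w * g * p * (w * g)⁻¹ = w * (g * p * g⁻¹) * w⁻¹ by group]
    exact T.conj_mat _ _ (elD_good i).1 (by rw [hwc, hc, heq])

theorem Sect.elD_mem {i : ℕ} (hi : i < 2872) : ∃ p, StPr p ∧ matS p = elD i := by
  obtain ⟨g, hg, -, -, p, hp, -, hc⟩ := T.tree_conjC (k := 0) (by norm_num) i hi
  exact ⟨_, (hg.mul hp).mul hg.inv, hc⟩

omit T

/-- a member of the list -/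
noncomputable def elS {G : Type u} [Group G] [Finite G] {z : G} {V : Subgroup G} {ψ : ℕ → G} (T : Sect z V ψ)
    (i : ℕ) : Cfsg.M24 :=
  haveI := Classical.propDecidable (i < 2872)
  if h : i < 2872 then (T.elD_mem h).choose else 1

include T

theorem Sect.elS_spec {i : ℕ} (hi : i < 2872) : StPr (elS T i) ∧ matS (elS T i) = elD i := by
  rw [elS, dif_pos hi]
  exact (T.elD_mem hi).choose_spec

theorem Sect.elS_inj {i j : ℕ} (hi : i < 2872) (hj : j < 2872) (h : elS T i = elS T j) : i = j :=
  elD_inj hi hj (by rw [← (T.elS_spec hi).2, ← (T.elS_spec hj).2, h])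

theorem Sect.elS_eq {i : ℕ} (hi : i < 2872) {p : Cfsg.M24} (h : matS p = elD i) : p = elS T i :=
  T.mat_inj (by rw [h, (T.elS_spec hi).2])

theorem Sect.list_closedC : ∀ (w : List ℕ), (∀ s ∈ w, s < 3) → ∀ i < 2872,
    ∃ j < 2872, wP w * elS T i * (wP w)⁻¹ = elS T j
  | [], _, i, hi => ⟨i, hi, by simp [wP]⟩
  | s :: w, hw, i, hi => by
    obtain ⟨j, hj, e⟩ := Sect.list_closedC w (fun t ht => hw t (List.mem_cons_of_mem _ ht)) i hi
    have hs := hw s List.mem_cons_self
    have h := OChkC.list_ok hj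
    simp only [OChkC.listAt, Bool.and_eq_true, List.all_eq_true, List.mem_range, leq_iff] at h
    obtain ⟨hlt, heq⟩ := h.2 s hs
    have hl : nbC s j < 2872 := Nat.le_of_ble_eq_true hlt
    refine ⟨nbC s j, hl, ?_⟩
    rw [show wP (s :: w) = pM (gnP s) * wP w from rfl,
      show pM (gnP s) * wP w * elS T i * (pM (gnP s) * wP w)⁻¹ =
        pM (gnP s) * (wP w * elS T i * (wP w)⁻¹) * (pM (gnP s))⁻¹ by group, e]
    refine T.elS_eq hl (T.conj_mat _ _ (elD_good _).1 ?_)
    rw [(gn_facts hs).2.2, (T.elS_spec hj).2]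
    exact heq

/-- every involution of the stabiliser is listed -/
theorem Sect.list_allC {σ : Cfsg.M24} (hσ : StPr σ) (h2 : σ * σ = 1) : ∃ i < 2872, σ = elS T i := by
  have hfix := OChkC.fix_ok
  simp only [OChkC.fixOK, List.all_eq_true, List.mem_range, Bool.and_eq_true, leq_iff] at hfix
  by_cases h1 : σ = 1
  · obtain ⟨hlt, he⟩ := hfix 3 (by norm_num)
    refine ⟨_, Nat.le_of_ble_eq_true hlt, T.elS_eq (Nat.le_of_ble_eq_true hlt) ?_⟩
    rw [h1, T.mat_one, he]
    with_unfolding_all decide +kernel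
  set t : Equiv.Perm GolayPt := (σ : Equiv.Perm GolayPt) with htdef
  have hne : t ≠ 1 := fun e => h1 (Subtype.ext e)
  have hsq : t * t = 1 := congrArg Subtype.val h2
  have htt : ∀ x, t (t x) = x := fun x => by rw [← Equiv.Perm.mul_apply, hsq]; rfl
  set a := Spor.pt 0
  set a' := Spor.pt 1
  have haa : a ≠ a' := by decide +kernel
  have hm : ∀ i ∈ pairP, t i ∈ pairP := fun i hi => by
    have h' := Finset.smul_mem_smul_finset (a := t) hi
    rwa [show t • pairP = pairP from hσ] at h'
  obtain ⟨b, hbA, hb⟩ := exists_moved_outside σ.2 hne {a, a'} (Finset.card_le_two.trans (by norm_num))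
  simp only [Finset.mem_insert, Finset.mem_singleton, not_or] at hbA
  have htb : t b ≠ a ∧ t b ≠ a' := by
    have key : ∀ c ∈ pairP, t b ≠ c := fun c hc e => by
      have := hm c hc
      rw [← e, htt] at this
      simp only [pairP, Finset.mem_insert, Finset.mem_singleton] at this
      exact this.elim hbA.1 hbA.2
    exact ⟨key a (Finset.mem_insert_self _ _), key a' (Finset.mem_insert_of_mem (Finset.mem_singleton_self _))⟩
  have hinj : Function.Injective ![a, a', b, t b] := by
    intro i j h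
    fin_cases i <;> fin_cases j <;> first
      | rfl
      | exact absurd h haa
      | exact absurd h.symm haa
      | exact absurd h hbA.1
      | exact absurd h.symm hbA.1
      | exact absurd h hbA.2
      | exact absurd h.symm hbA.2
      | exact absurd h htb.1
      | exact absurd h.symm htb.1
      | exact absurd h htb.2
      | exact absurd h.symm htb.2
      | exact absurd h hb
      | exact absurd h.symm hb
  obtain ⟨κ, hκ, hs⟩ := normalise (k := 4) (by norm_num) _ hinj
  have h0 := hs 0; have h1' := hs 1; have h2' := hs 2; have h3 := hs 3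
  simp at h0 h1' h2' h3
  set K : Cfsg.M24 := ⟨κ, hκ⟩
  have hK : StPr K := by
    show κ • ({a, a'} : Finset GolayPt) = {a, a'}
    rw [Finset.smul_finset_insert, Finset.smul_finset_singleton, Equiv.Perm.smul_def, Equiv.Perm.smul_def, h0, h1']
  set τ := K * σ * K⁻¹ with hτ
  have happ : ∀ x, (τ : Equiv.Perm GolayPt) (κ x) = κ (t x) := conj_apply κ t
  have hτ2 : τ * τ = 1 := by rw [hτ, conj_mul, h2, mul_one, mul_inv_cancel]
  -- the four images
  obtain ⟨k, hk, hchk, him⟩ : ∃ k, k < 2 ∧ shiftOK k = true ∧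
      ∀ i, i < 4 → idx ((τ : Equiv.Perm GolayPt) (Spor.pt i)) =
        (bif Nat.beq k 0 then [1, 0, 3, 2] else [0, 1, 3, 2]).getD i 0 := by
    have m0 := hm a (Finset.mem_insert_self _ _)
    simp only [pairP, Finset.mem_insert, Finset.mem_singleton] at m0
    rcases m0 with e0 | e0
    · refine ⟨1, by norm_num, shift_ok_one, fun i hi => ?_⟩
      have e1 : t a' = a' := by
        have m1 := hm a' (Finset.mem_insert_of_mem (Finset.mem_singleton_self _))
        simp only [pairP, Finset.mem_insert, Finset.mem_singleton] at m1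
        exact m1.resolve_left fun e => haa (t.injective (e0.trans e.symm))
      interval_cases i
      · rw [← h0, happ, e0, h0]; exact idx_pt 0 (by norm_num)
      · rw [← h1', happ, e1, h1']; exact idx_pt 1 (by norm_num)
      · rw [← h2', happ, h3]; rfl
      · rw [← h3, happ, htt, h2']; rfl
    · refine ⟨0, by norm_num, shift_ok_zero, fun i hi => ?_⟩
      have e1 : t a' = a := (congrArg t e0).symm.trans (htt a)
      interval_cases i
      · rw [← h0, happ, e0, h1']; exact idx_pt 1 (by norm_num)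
      · rw [← h1', happ, e1, h0]; exact idx_pt 0 (by norm_num)
      · rw [← h2', happ, h3]; rfl
      · rw [← h3, happ, htt, h2']; rfl
  simp only [OChkC.shiftOK, Bool.and_eq_true, List.all_eq_true, List.mem_range, Bool.or_eq_true,
    Bool.not_eq_true', List.any_eq_true, leq_iff] at hchk
  obtain ⟨⟨hr, him'⟩, hcov⟩ := hchk
  obtain ⟨v, hv, hrep⟩ := coset_repP hr τ.2 fun i hi => by
    rw [him i hi, Nat.eq_of_beq_eq_true (him' i hi)]
  set rp := packList (CDt.shiftP.getD k [])
  obtain ⟨i, -, hil, heq⟩ := (hcov v hv).resolve_left (by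
    rw [sqTestP_of hrep (congrArg Subtype.val hτ2)]; simp)
  have hl : Rep (τ : Equiv.Perm GolayPt) ((List.range 24).map (pget rp v)) := fun p => by
    rw [List.getD_eq_getElem _ _ (by simpa using idx_lt p), List.getElem_map, List.getElem_range]
    exact hrep p
  have hmat : matS τ = matL ((List.range 24).map (pget rp v)) := by
    refine List.map_congr_left fun j hj => ?_
    rw [phN, hl.mask_smul, (uS_facts (List.mem_range.1 hj)).2.2, pm_eq_pmask (by simp)]
  have hτi : τ = elS T i := T.elS_eq (Nat.le_of_ble_eq_true hil) (hmat.trans heq.symm)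
  obtain ⟨w, hw, hwe⟩ := St_word hK.inv
  obtain ⟨j, hj, e⟩ := T.list_closedC w hw i (Nat.le_of_ble_eq_true hil)
  refine ⟨j, hj, ?_⟩
  rw [← e, ← hwe, ← hτi, hτ]
  group

end Cfsg.Agent.Spor.JFour
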