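import Cfsg.Agent.Lib.Spor.JFourOrder.CFacts

/-!
Janko four type: involutions of the centraliser of the second class over a root, their types, and when a product
generates the involution of the pair.
-/

set_option autoImplicit false
set_option maxRecDepth 100000
set_option linter.unusedSectionVars false

namespace Cfsg.Agent.Spor.JFour

open scoped Pointwise
open Cfsg.Agent.Spor.LFT (iT iT_conj PointModel Des phN phN_lt)
open OChkC

attribute [local irreducible] Chk.app LFT.Chk.app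

/-- sum along the powers of a map -/
def sumC (p : List ℕ) : ℕ → ℕ → ℕ
  | 0, _ => 0
  | m + 1, v => v ^^^ sumC p m (Chk.app p v)

theorem appA_zipC : ∀ (A B : List ℕ), A.length = B.length → ∀ k,
    Chk.appA (List.zipWith Nat.xor A B) k 0 = Chk.appA A k 0 ^^^ Chk.appA B k 0
  | [], [], _, _ => (Nat.xor_self 0).symm
  | a :: A, b :: B, h, k => by
    show Chk.appA (List.zipWith Nat.xor A B) (k >>> 1) (bif Chk.tb k 0 then 0 ^^^ (a ^^^ b) else 0) =
      Chk.appA A (k >>> 1) (bif Chk.tb k 0 then 0 ^^^ a else 0) ^^^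
        Chk.appA B (k >>> 1) (bif Chk.tb k 0 then 0 ^^^ b else 0)
    rw [appA_acc (List.zipWith Nat.xor A B), appA_acc A, appA_acc B, appA_zipC A B (Nat.succ.inj h)]
    cases Chk.tb k 0 <;> simp [Nat.xor_assoc, Nat.xor_comm, Nat.xor_left_comm]

theorem app_repC (k : ℕ) : ∀ m, Chk.app (List.replicate m 0) k = 0 := by
  intro m
  induction m generalizing k with
  | zero => with_unfolding_all rfl
  | succ m ih => rw [List.replicate_succ, app_cons, ih]; cases Chk.tb k 0 <;> rfl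

theorem normM_len (p : List ℕ) : ∀ m, (normM p m).length = 11
  | 0 => List.length_replicate
  | m + 1 => by
    show (List.zipWith Nat.xor idM (Chk.cmul p (normM p m))).length = 11
    rw [List.length_zipWith, Chk.cmul, List.length_map, normM_len p m]
    rfl

theorem sumC_app (p : List ℕ) : ∀ m v, Chk.app p (sumC p m v) = sumC p m (Chk.app p v)
  | 0, _ => app_zero p
  | m + 1, v => by rw [sumC, sumC, app_xor, sumC_app p m]

theorem app_normM {p : List ℕ} : ∀ (m v : ℕ), v < 2048 → Chk.app (normM p m) v = sumC p m v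
  | 0, v, _ => app_repC v 11
  | m + 1, v, hv => by
    show Chk.app (List.zipWith Nat.xor idM (Chk.cmul p (normM p m))) v = _
    rw [app_def, appA_zipC _ _ (by rw [Chk.cmul, List.length_map, normM_len]; rfl), ← app_def, ← app_def,
      show Chk.app idM v = v from idM_app ⟨v, hv⟩, app_cmul, app_normM m v hv, sumC_app]
    rfl

theorem sumC_lt {p : List ℕ} (hp : ∀ c ∈ p, c < 2048) : ∀ m v, v < 2048 → sumC p m v < 2048
  | 0, _, _ => by norm_num [sumC]
  | m + 1, v, hv => Nat.xor_lt_two_pow (n := 11) hv (sumC_lt hp m _ (app_lt' hp v))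

theorem sumC_succ' (p : List ℕ) : ∀ m v, sumC p (m + 1) v = sumC p m v ^^^ (Chk.app p)^[m] v
  | 0, v => by simp [sumC]
  | m + 1, v => by
    rw [sumC, sumC_succ' p m (Chk.app p v), show sumC p (m + 1) v = v ^^^ sumC p m (Chk.app p v) from rfl,
      Function.iterate_succ_apply, Nat.xor_assoc]

theorem isT_iff {v : ℕ} : isT v = LFT.Chk.tb LFT.Dat.tXor v := rfl

universe u

variable {G : Type u} [Group G] [Finite G] {z : G}

/-- the element is in the class of the central involution -/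
noncomputable def tzG (z y : G) : Bool := by classical exact decide (IsConj z y)

theorem tzG_true {y : G} : tzG z y = true ↔ IsConj z y := by simp [tzG]

theorem tzG_conj (g y : G) : tzG z (g * y * g⁻¹) = tzG z y := by
  refine Bool.eq_iff_iff.2 ?_
  rw [tzG_true, tzG_true]
  have h : IsConj y (g * y * g⁻¹) := isConj_iff.2 ⟨g, rfl⟩
  exact ⟨fun e => e.trans h.symm, fun e => e.trans h⟩

variable {V : Subgroup G} {ψ : ℕ → G} (T : Sect z V ψ)

/-- codes of the involutions of the centraliser over an element -/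
noncomputable def fibC (σ : Cfsg.M24) : Finset ℕ :=
  haveI := Classical.decPred fun v : ℕ => Chk.app (matS σ) v = v ∧ (σ = 1 → v ≠ 0)
  (Finset.range 2048).filter fun v => Chk.app (matS σ) v = v ∧ (σ = 1 → v ≠ 0)

theorem mem_fibC {σ : Cfsg.M24} {v : ℕ} :
    v ∈ fibC σ ↔ v < 2048 ∧ Chk.app (matS σ) v = v ∧ (σ = 1 → v ≠ 0) := by simp [fibC]

/-- type of a class -/
noncomputable def tcC (T : Sect z V ψ) (c : ℕ) : Bool :=
  bif Nat.beq c 0 then false else bif Nat.beq c 1 then true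
  else tzG z (ec T (clsRep c).2 (pM (rP (clsRep c).1)))

include T

theorem Sect.fib_inv {σ : Cfsg.M24} (hσ : σ * σ = 1) {v : ℕ} (hv : v < 2048) :
    (ec T v σ * ec T v σ = 1 ∧ ec T v σ ≠ 1) ↔ v ∈ fibC σ := by
  have hlt : v ^^^ Chk.app (matS σ) v < 2048 := Nat.xor_lt_two_pow (n := 11) hv (app_lt' (matS_good σ).2 _)
  rw [mem_fibC, T.ec_mul hv hv, hσ, T.ec_id, ← T.pm.one]
  refine ⟨fun h => ⟨hv, ?_, fun e h0 => h.2 ?_⟩, fun h => ⟨?_, fun e => ?_⟩⟩
  · exact (Nat.xor_eq_zero_iff.1 (T.pm.inj _ _ hlt (by norm_num) h.1)).symm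
  · rw [h0, e, T.pm.one, T.ec_one]
  · rw [h.2.1, Nat.xor_self]
  · rw [T.pm.one, ← T.ec_one] at e
    obtain ⟨h1, h2⟩ := T.ec_inj hv (by norm_num) e
    exact h.2.2 h2 h1

theorem Sect.ec_conj {v : ℕ} (hv : v < 2048) (g σ : Cfsg.M24) :
    T.s g * ec T v σ * (T.s g)⁻¹ = ec T (Chk.app (matS g) v) (g * σ * g⁻¹) := by
  rw [ec, ec, ← T.conj g hv, map_mul, map_mul, map_inv]
  group

theorem Sect.ec_trans {u v : ℕ} (hu : u < 2048) (hv : v < 2048) (σ : Cfsg.M24) :
    ψ u * ec T v σ * (ψ u)⁻¹ = ec T (u ^^^ v ^^^ Chk.app (matS σ) u) σ := by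
  rw [inv_eq_of_mul_eq_one_right (T.pm.sq u hu), ← T.ec_id u, T.ec_mul hu hv, T.mat_one,
    show Chk.app idM v = v from idM_app ⟨v, hv⟩, one_mul, T.ec_mul (Nat.xor_lt_two_pow (n := 11) hu hv) hu, mul_one]

theorem Sect.tz_vec {v : ℕ} (hv : v < 2048) (h0 : v ≠ 0) : tzG z (ψ v) = !isT v := by
  have hne : ψ v ≠ 1 := fun e => h0 (T.pm.inj _ _ hv (by norm_num) (e.trans T.pm.one.symm))
  have h := T.pm.cls v hv
  refine Bool.eq_iff_iff.2 ?_
  rw [tzG_true, Bool.not_eq_true', isT_iff]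
  constructor
  · exact fun hc => Bool.eq_false_iff.2 fun e => (h.2 e).2 hc
  · intro e
    by_contra hc
    rw [h.1 ⟨hne, hc⟩] at e
    simp at e

theorem Sect.gX_word {k : ℕ} (hk : k < 3) : ∀ w : List ℕ, (∀ s ∈ w, s < 3) → ∃ g, StPr g ∧
    Commute g (pM (rP k)) ∧ ∀ a, a < 2048 → Chk.app (matS g) a = w.foldr (fun s y => Chk.app (gX k s) y) a
  | [], _ => ⟨1, StPr.one, Commute.one_left _, fun a ha => by rw [T.mat_one]; exact idM_app ⟨a, ha⟩⟩
  | s :: w, hw => by
    obtain ⟨g, hg, hgc, hga⟩ := Sect.gX_word hk w fun t ht => hw t (List.mem_cons_of_mem _ ht)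
    obtain ⟨hl, hlc, hlR⟩ := T.gx_factsC hk (hw s List.mem_cons_self)
    refine ⟨wP (gXw k s) * g, hl.mul hg, hlR.mul_left hgc, fun a ha => ?_⟩
    rw [T.app_mul, hga a ha, hlc]
    rfl

theorem Sect.mem_trans {k : ℕ} (hk : k < 3) {m : ℕ × ℕ × ℕ} (hm : m ∈ CDt.mems.getD k []) :
    m.1 < 2048 ∧ m.2.1 < (CDt.urep.getD k []).length ∧ m.2.2 < 2048 ∧
      ((CDt.urep.getD k []).getD m.2.1 (0, 0)).1 < 2048 ∧
      ec T m.1 (pM (rP k)) = ψ m.2.2 * ec T ((CDt.urep.getD k []).getD m.2.1 (0, 0)).1 (pM (rP k)) * (ψ m.2.2)⁻¹ := by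
  have hmem : memOK k = true := by
    rcases (show k = 0 ∨ k = 1 ∨ k = 2 by omega) with rfl | rfl | rfl
    exacts [mem_ok_zero, mem_ok_one, mem_ok_two]
  simp only [OChkC.memOK, Bool.and_eq_true, leq_iff, List.all_eq_true] at hmem
  obtain ⟨hlist, hall⟩ := hmem
  obtain ⟨⟨hj, hv⟩, htr⟩ := hall m hm
  have hm1 : m.1 < 2048 := by
    have : m.1 ∈ (List.range 2048).filter (invAt k) := hlist ▸ List.mem_map_of_mem hm
    exact List.mem_range.1 (List.mem_filter.1 this).1
  have hjU : m.2.1 < (CDt.urep.getD k []).length := Nat.le_of_ble_eq_true hj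
  have hl := link_ok
  simp only [OChkC.linkOK, List.all_eq_true, List.mem_range, Bool.and_eq_true] at hl
  have hu : ((CDt.urep.getD k []).getD m.2.1 (0, 0)).1 < 2048 :=
    Nat.le_of_ble_eq_true (hl k hk m.2.1 hjU).1.1.1.1.1.1.1
  have hv' : m.2.2 < 2048 := Nat.le_of_ble_eq_true hv
  refine ⟨hm1, hjU, hv', hu, ?_⟩
  rw [T.ec_trans hv' hu, (rep_facts (by omega : k < 4)).2.2.1]
  congr 1
  exact (Nat.eq_of_beq_eq_true htr).symm

/-- the class of a member determines the type -/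
theorem Sect.tz_memC {k : ℕ} (hk : k < 3) {m : ℕ × ℕ × ℕ} (hm : m ∈ CDt.mems.getD k []) :
    memC k m ≤ 8 ∧ tzG z (ec T m.1 (pM (rP k))) = tcC T (memC k m) := by
  obtain ⟨-, hjU, -, hu, e⟩ := T.mem_trans hk hm
  rw [e, tzG_conj]
  have hl := link_ok
  simp only [OChkC.linkOK, List.all_eq_true, List.mem_range, Bool.and_eq_true] at hl
  obtain ⟨⟨⟨⟨⟨⟨⟨-, h2⟩, h8⟩, hk'⟩, hcode⟩, hlU⟩, hw⟩, heq⟩ := hl k hk m.2.1 hjU
  set u := (CDt.urep.getD k []).getD m.2.1 (0, 0)
  set l := (CDt.linkW.getD k []).getD m.2.1 (0, [])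
  have hc2 : 2 ≤ u.2 := Nat.le_of_ble_eq_true h2
  refine ⟨Nat.le_of_ble_eq_true h8, ?_⟩
  have hne : ∀ c, c < 2 → Nat.beq u.2 c = false := fun c hc => Bool.eq_false_iff.2 fun e => by
    have := Nat.eq_of_beq_eq_true e; omega
  rw [tcC, show memC k m = u.2 from rfl, hne 0 (by norm_num), hne 1 (by norm_num), cond_false, cond_false,
    Nat.eq_of_beq_eq_true hk', Nat.eq_of_beq_eq_true hcode]
  set b := (CDt.urep.getD k []).getD l.1 (0, 0)
  have hb : b.1 < 2048 := Nat.le_of_ble_eq_true (hl k hk l.1 (Nat.le_of_ble_eq_true hlU)).1.1.1.1.1.1.1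
  obtain ⟨g, -, hgc, hga⟩ := T.gX_word hk l.2 fun s hs => Nat.le_of_ble_eq_true (hw s hs)
  rw [← tzG_conj (T.s g) (ec T b.1 (pM (rP k))), T.ec_conj hb, hga b.1 hb, Nat.eq_of_beq_eq_true heq, hgc.eq,
    mul_inv_cancel_right]

theorem Sect.fib_repC {k : ℕ} (hk : k < 3) :
    fibC (pM (rP k)) = ((CDt.mems.getD k []).map Prod.fst).toFinset ∧ ((CDt.mems.getD k []).map Prod.fst).Nodup := by
  have hmem : memOK k = true := by
    rcases (show k = 0 ∨ k = 1 ∨ k = 2 by omega) with rfl | rfl | rfl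
    exacts [mem_ok_zero, mem_ok_one, mem_ok_two]
  simp only [OChkC.memOK, Bool.and_eq_true, leq_iff] at hmem
  rw [← hmem.1]
  refine ⟨?_, List.nodup_range.filter _⟩
  have hR := (rep_facts (by omega : k < 4)).2.2.1
  have hne : pM (rP k) ≠ 1 := fun e => by
    rw [e, T.mat_one] at hR
    have key : ∀ r < 3, idM ≠ rM r := by decide +kernel
    exact key k hk hR
  ext v
  simp only [mem_fibC, List.mem_toFinset, List.mem_filter, List.mem_range, OChkC.invAt, hR]
  exact and_congr_right' ⟨fun h => by rw [h.1]; exact Nat.beq_refl _,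
    fun h => ⟨Nat.eq_of_beq_eq_true h, fun e => absurd e hne⟩⟩

/-- the involutions over a root, with their classes -/
theorem Sect.root_fibC {k : ℕ} (hk : k < 3) {e : ℕ × ℕ × ℕ × List ℕ} (he : e ∈ CDt.roots.getD k []) :
    fibC (elS T e.1) = ((liftsAt e).map Prod.fst).toFinset ∧ ((liftsAt e).map Prod.fst).Nodup ∧
      (∀ p ∈ liftsAt e, p.1 < 2048 ∧ p.2 ≤ 8 ∧ tzG z (ec T p.1 (elS T e.1)) = tcC T p.2) ∧ e.1 < 2872 := by
  have hlt : e.1 < 2872 := by
    have h := (OChkC.roots_ok hk).1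
    simp only [OChkC.rootsAt, Bool.and_eq_true, List.all_eq_true] at h
    exact Nat.le_of_ble_eq_true (h.1.2 e he).1
  obtain ⟨hk', hw, hc⟩ := T.root_elemC hk he
  set g := wP e.2.2.2 with hg
  rw [← T.elS_eq hlt hc]
  by_cases h3 : e.2.2.1 = 3
  · have h1 : pM (rP e.2.2.1) = 1 := T.mat_inj (by
      rw [(rep_facts hk').2.2.1, T.mat_one, h3]
      with_unfolding_all decide +kernel)
    rw [h1, mul_one, mul_inv_cancel]
    have hL : (liftsAt e).map Prod.fst = (List.range 2048).filter fun v => !Nat.beq v 0 := by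
      rw [OChkC.liftsAt, h3, Nat.beq_refl, cond_true, List.map_map]
      exact List.map_id' _
    refine ⟨?_, hL ▸ List.nodup_range.filter _, fun p hp => ?_, hlt⟩
    · rw [hL]
      ext v
      simp only [mem_fibC, List.mem_toFinset, List.mem_filter, List.mem_range, T.mat_one, Bool.not_eq_true', true_implies]
      refine and_congr_right fun hv => ?_
      rw [show Chk.app idM v = v from idM_app ⟨v, hv⟩]
      exact ⟨fun h => Bool.eq_false_iff.2 fun e => h.2 (Nat.eq_of_beq_eq_true e),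
        fun h => ⟨rfl, fun e => by rw [e] at h; simp at h⟩⟩
    · rw [OChkC.liftsAt, h3, Nat.beq_refl, cond_true, List.mem_map] at hp
      obtain ⟨v, hv, rfl⟩ := hp
      obtain ⟨hv1, hv2⟩ := List.mem_filter.1 hv
      have hv0 : v ≠ 0 := fun e => by rw [e] at hv2; simp at hv2
      have hv' : v < 2048 := List.mem_range.1 hv1
      refine ⟨hv', by unfold OChkC.clsV; cases isT v <;> simp, ?_⟩
      rw [T.ec_id, T.tz_vec hv' hv0, OChkC.clsV]
      cases isT v <;> rfl
  · have hr : e.2.2.1 < 3 := by omega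
    have hb : Nat.beq e.2.2.1 3 = false := Bool.eq_false_iff.2 fun e' => h3 (Nat.eq_of_beq_eq_true e')
    obtain ⟨hfib, hnd⟩ := T.fib_repC hr
    have hgm : matS g = evM e.2.2.2 := T.mat_word _ hw
    have hlts : ∀ m ∈ CDt.mems.getD e.2.2.1 [], m.1 < 2048 := fun m hm => (T.mem_trans hr hm).1
    have hL : (liftsAt e).map Prod.fst = ((CDt.mems.getD e.2.2.1 []).map Prod.fst).map (Chk.app (matS g)) := by
      rw [OChkC.liftsAt, hb, cond_false, List.map_map, List.map_map, hgm]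
      rfl
    have hback : ∀ v, v < 2048 → Chk.app (matS g⁻¹) (Chk.app (matS g) v) = v := fun v hv => by
      rw [← T.app_mul, inv_mul_cancel, T.mat_one]; exact idM_app ⟨v, hv⟩
    have hfwd : ∀ v, v < 2048 → Chk.app (matS g) (Chk.app (matS g⁻¹) v) = v := fun v hv => by
      rw [← T.app_mul, mul_inv_cancel, T.mat_one]; exact idM_app ⟨v, hv⟩
    refine ⟨?_, ?_, fun p hp => ?_, hlt⟩
    · rw [hL]
      ext v
      simp only [mem_fibC, List.mem_toFinset, List.mem_map]
      constructor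
      · rintro ⟨hv, hfix, hne⟩
        have hm : Chk.app (matS g⁻¹) v ∈ fibC (pM (rP e.2.2.1)) := by
          refine mem_fibC.2 ⟨app_lt' (matS_good _).2 _, ?_, fun e1 h0 => hne (by rw [e1, mul_one, mul_inv_cancel]) ?_⟩
          · conv_rhs => rw [← hfix]
            rw [← T.app_mul g⁻¹, ← T.app_mul]
            congr 2
            group
          · rw [← hfwd v hv, h0, app_zero]
        rw [hfib, List.mem_toFinset, List.mem_map] at hm
        obtain ⟨m, hm1, hm2⟩ := hm
        exact ⟨m.1, ⟨m, hm1, rfl⟩, by rw [hm2, hfwd v hv]⟩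
      · rintro ⟨a, ⟨m, hm, rfl⟩, rfl⟩
        have hm' : m.1 ∈ fibC (pM (rP e.2.2.1)) := by
          rw [hfib, List.mem_toFinset]; exact List.mem_map_of_mem hm
        obtain ⟨h1, h2, h4⟩ := mem_fibC.1 hm'
        refine ⟨app_lt' (matS_good _).2 _, ?_, fun e1 h0 => h4 (conj_eq_one_iff.1 e1) ?_⟩
        · rw [T.app_mul, T.app_mul, hback _ h1, h2]
        · rw [← hback m.1 h1, h0, app_zero]
    · rw [hL]
      refine List.Nodup.map_on (fun a ha b hb' h => ?_) hnd
      obtain ⟨m, hm, rfl⟩ := List.mem_map.1 ha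
      obtain ⟨m', hm', rfl⟩ := List.mem_map.1 hb'
      rw [← hback m.1 (hlts m hm), h, hback _ (hlts m' hm')]
    · rw [OChkC.liftsAt, hb, cond_false, List.mem_map] at hp
      obtain ⟨m, hm, rfl⟩ := hp
      obtain ⟨h8, ht⟩ := T.tz_memC hr hm
      refine ⟨by rw [← hgm]; exact app_lt' (matS_good _).2 _, h8, ?_⟩
      rw [← hgm, ← T.ec_conj (hlts m hm), tzG_conj, ht]

/-- powers in coordinates -/
theorem Sect.ec_pow (h : Cfsg.M24) {c : ℕ} (hc : c < 2048) :
    ∀ n : ℕ, ec T c h ^ n = ec T (sumC (matS h) n c) (h ^ n)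
  | 0 => by rw [pow_zero, pow_zero, sumC, T.ec_one]
  | n + 1 => by
    rw [pow_succ', Sect.ec_pow h hc n, T.ec_mul hc (sumC_lt (matS_good h).2 _ _ hc), ← pow_succ', sumC_app]
    rfl

theorem Sect.ordC (P : Cfsg.M24) : ∀ m i, OChkC.ordOK (matS P) m i (matS (P ^ i)) = true →
    P ^ (i + m) = 1 ∧ ∀ j, i ≤ j → j < i + m → j ≠ 0 → P ^ j ≠ 1
  | 0, i, h => by
    refine ⟨T.mat_inj ?_, fun j h1 h2 => by omega⟩
    rw [T.mat_one]; exact leq_iff.1 h
  | m + 1, i, h => by
    simp only [OChkC.ordOK, Bool.and_eq_true, Bool.or_eq_true, Bool.not_eq_true'] at h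
    have h' := Sect.ordC P m (i + 1) (by rw [pow_succ', T.mat_mul]; exact h.2)
    refine ⟨by rw [show i + (m + 1) = i + 1 + m by omega]; exact h'.1, fun j h1 h2 h0 => ?_⟩
    rcases Nat.eq_or_lt_of_le h1 with rfl | h1
    · intro e
      rcases h.1 with e' | e'
      · exact h0 (Nat.eq_of_beq_eq_true e')
      · rw [e, T.mat_one, leq_iff.2 rfl] at e'
        simp at e'
    · exact h'.2 j h1 (by omega) h0

/-- the criterion -/
theorem Sect.t_mem {h : Cfsg.M24} {n : ℕ} (hn : 0 < n) (hmin : ∀ j, j < n → j ≠ 0 → h ^ j ≠ 1) (h1 : h ^ n = 1)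
    {c : ℕ} (hc : c < 2048) :
    ψ ntC ∈ Subgroup.zpowers (ec T c h) ↔ sumC (matS h) n c = ntC := by
  have hC : sumC (matS h) n c < 2048 := sumC_lt (matS_good h).2 _ _ hc
  have hr : ec T c h ^ n = ψ (sumC (matS h) n c) := by rw [T.ec_pow h hc, h1, T.ec_id]
  constructor
  · intro ht
    obtain ⟨m, hm⟩ := mem_powers_iff_mem_zpowers.2 ht
    simp only at hm
    have hm' : h ^ m = 1 := by
      have := hm
      rw [T.ec_pow h hc, ← T.ec_id] at this
      exact (T.ec_inj (sumC_lt (matS_good h).2 _ _ hc) ntC_lt this).2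
    rw [← Nat.div_add_mod m n, pow_add, pow_mul, h1, one_pow, one_mul] at hm'
    have hm0 : m % n = 0 := by
      by_contra h0
      exact hmin _ (Nat.mod_lt _ hn) h0 hm'
    rw [show m = n * (m / n) by have := Nat.div_add_mod m n; omega, pow_mul, hr,
      ← Nat.div_add_mod (m / n) 2, pow_add, pow_mul, pow_two, T.pm.sq _ hC, one_pow, one_mul] at hm
    rcases Nat.mod_two_eq_zero_or_one (m / n) with e | e <;> rw [e] at hm
    · rw [pow_zero, ← T.pm.one] at hm
      exact absurd (T.pm.inj _ _ (by norm_num) ntC_lt hm) (by decide +kernel)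
    · rw [pow_one] at hm
      exact T.pm.inj _ _ hC ntC_lt hm
  · intro e
    exact mem_powers_iff_mem_zpowers.1 ⟨n, by show ec T c h ^ n = _; rw [hr, e]⟩

end Cfsg.Agent.Spor.JFour
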