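import Cfsg.Agent.Lib.Spor.JFourOrder.CChkSmall
import Cfsg.Agent.Lib.Spor.JFourSplit
import Cfsg.Agent.Lib.Spor.JFourSecond
import Cfsg.Agent.Lib.Spor.JFourPairs
import Cfsg.Agent.Lib.Spor.GolayLocal

/-!
Janko four type: coordinates in the normaliser of a largest elementary abelian subgroup and in the centraliser of an
involution of the second class.
-/

set_option autoImplicit false
set_option maxRecDepth 100000
set_option linter.unusedSectionVars false

namespace Cfsg.Agent.Spor.JFour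

open scoped Pointwise
open Cfsg.Agent.Spor.LFT (iT iT_conj PointModel Des phN phN_lt phN_symm pair_table pair_inj)
open OChkC

attribute [local irreducible] Chk.app LFT.Chk.app

/-! ### permutations and matrices -/

/-- the pair of the first two points -/
def pairP : Finset GolayPt := {Spor.pt 0, Spor.pt 1}

theorem pairP_card : pairP.card = 2 := by decide +kernel

theorem phN_pairP : phN pairP = ntC := by with_unfolding_all decide +kernel

theorem ntC_lt : ntC < 2048 := by decide +kernel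

/-- an element stabilises the pair -/
def StPr (σ : Cfsg.M24) : Prop := (σ : Equiv.Perm GolayPt) • pairP = pairP

/-- a set carrying a unit -/
def uSC (i : ℕ) : Finset GolayPt := ofMask (LFT.Dat.unitM.getD i 0)

theorem uS_facts {i : ℕ} (hi : i < 11) : Even (uSC i).card ∧ phN (uSC i) = 2 ^ i ∧
    mask (uSC i) = LFT.Dat.unitM.getD i 0 := by
  have h := unit_ok
  simp only [OChkC.unitOK, List.all_eq_true, List.mem_range, Bool.and_eq_true] at h
  obtain ⟨⟨h1, h2⟩, h3⟩ := h i hi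
  have hm : mask (uSC i) = LFT.Dat.unitM.getD i 0 := mask_ofMask (Nat.le_of_ble_eq_true h1)
  refine ⟨Nat.even_iff.2 ?_, ?_, hm⟩
  · rw [← pc_mask, hm]; exact Nat.eq_of_beq_eq_true h2
  · rw [phN, hm]; exact Nat.eq_of_beq_eq_true h3

/-- the matrix of an element -/
def matS (σ : Cfsg.M24) : List ℕ := (List.range 11).map fun i => phN ((σ : Equiv.Perm GolayPt) • uSC i)

theorem matS_good (σ : Cfsg.M24) : (matS σ).length = 11 ∧ ∀ c ∈ matS σ, c < 2048 := by
  refine ⟨by rw [matS, List.length_map, List.length_range], fun c hc => ?_⟩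
  obtain ⟨i, -, rfl⟩ := List.mem_map.1 hc
  exact phN_lt _

/-- an element from a list -/
noncomputable def pM (l : List ℕ) : Cfsg.M24 := if h : m24ok l = true then ⟨lperm l, lperm_mem h⟩ else 1

theorem pM_coe {l : List ℕ} (h : m24ok l = true) : (pM l : Equiv.Perm GolayPt) = lperm l := by rw [pM, dif_pos h]

theorem pM_rep {l : List ℕ} (h : m24ok l = true) : Rep (pM l : Equiv.Perm GolayPt) l := by
  rw [pM_coe h]; exact rep_lperm (m24ok_lok h)

theorem matS_pM {l : List ℕ} (h : m24ok l = true) : matS (pM l) = matL l := by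
  refine List.map_congr_left fun i hi => ?_
  rw [pM_coe h, phN, mask_smul_lperm (m24ok_lok h), (uS_facts (List.mem_range.1 hi)).2.2]

theorem rep_unique {σ τ : Equiv.Perm GolayPt} {l : List ℕ} (h : Rep σ l) (h' : Rep τ l) : σ = τ :=
  Equiv.ext fun p => idx_injective ((h p).symm.trans (h' p))

theorem rep_id : Rep (1 : Equiv.Perm GolayPt) (List.range 24) := by
  have h := rep_lperm lok_id
  rwa [lperm_id] at h

theorem pair_fix {l : List ℕ} (h : m24ok l = true) (hp : pairFix l = true) : StPr (pM l) := by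
  have hr := pM_rep h
  have e : ∀ i, i < 24 → (pM l : Equiv.Perm GolayPt) (Spor.pt i) = Spor.pt (l.getD i 0) := fun i hi => idx_injective (by
    rw [← hr (Spor.pt i), idx_pt i hi]
    have := hr (Spor.pt i)
    rw [idx_pt i hi] at this
    rw [idx_pt _ (this ▸ idx_lt _)])
  simp only [OChkC.pairFix, Bool.or_eq_true, Bool.and_eq_true] at hp
  show (pM l : Equiv.Perm GolayPt) • ({Spor.pt 0, Spor.pt 1} : Finset GolayPt) = {Spor.pt 0, Spor.pt 1}
  rw [Finset.smul_finset_insert, Finset.smul_finset_singleton, Equiv.Perm.smul_def, Equiv.Perm.smul_def,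
    e 0 (by norm_num), e 1 (by norm_num)]
  rcases hp with ⟨a, b⟩ | ⟨a, b⟩ <;> rw [Nat.eq_of_beq_eq_true a, Nat.eq_of_beq_eq_true b]
  exact Finset.pair_comm _ _

theorem StPr.mul {σ τ : Cfsg.M24} (h : StPr σ) (h' : StPr τ) : StPr (σ * τ) := by
  show ((σ : Equiv.Perm GolayPt) * τ) • pairP = pairP
  rw [mul_smul, h', h]

theorem StPr.one : StPr 1 := one_smul _ _

theorem StPr.inv {σ : Cfsg.M24} (h : StPr σ) : StPr σ⁻¹ := inv_smul_eq_iff.2 h.symm

/-- a word in the three generators -/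
noncomputable def wP (w : List ℕ) : Cfsg.M24 := (w.map fun s => pM (gnP s)).prod

theorem gn_facts {s : ℕ} (hs : s < 3) : m24ok (gnP s) = true ∧ StPr (pM (gnP s)) ∧ matS (pM (gnP s)) = gnM s := by
  have h := base_ok
  simp only [OChkC.baseOK, Bool.and_eq_true, List.all_eq_true, List.mem_range, leq_iff] at h
  obtain ⟨⟨h1, h2⟩, h3⟩ := h.1 s hs
  exact ⟨h1, pair_fix h1 h2, (matS_pM h1).trans h3⟩

theorem rep_facts {k : ℕ} (hk : k < 4) : m24ok (rP k) = true ∧ StPr (pM (rP k)) ∧ matS (pM (rP k)) = rM k ∧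
    pM (rP k) * pM (rP k) = 1 := by
  have h := base_ok
  simp only [OChkC.baseOK, Bool.and_eq_true, List.all_eq_true, List.mem_range, leq_iff] at h
  obtain ⟨⟨⟨h1, h2⟩, h3⟩, h4⟩ := h.2 k hk
  refine ⟨h1, pair_fix h1 h2, (matS_pM h1).trans h3, Subtype.ext ?_⟩
  exact rep_unique ((pM_rep h1).mul (pM_rep h1)) (h4.symm ▸ rep_id)

theorem wP_rep : ∀ w : List ℕ, (∀ s ∈ w, s < 3) → Rep (wP w : Equiv.Perm GolayPt) (evP w) ∧ StPr (wP w)
  | [], _ => ⟨rep_id, StPr.one⟩
  | s :: w, hw => by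
    obtain ⟨h1, h2⟩ := wP_rep w fun t ht => hw t (List.mem_cons_of_mem _ ht)
    obtain ⟨g1, g2, -⟩ := gn_facts (hw s List.mem_cons_self)
    rw [show wP (s :: w) = pM (gnP s) * wP w from rfl]
    exact ⟨(pM_rep g1).mul h1, g2.mul h2⟩

theorem wP_append (a b : List ℕ) : wP (a ++ b) = wP a * wP b := by simp [wP]

theorem lev_word {j : ℕ} (hj : j < 6) {r : List ℕ}
    (hr : r ∈ [CDt.levP.getD 0 [], CDt.levP.getD 1 [], CDt.levP.getD 2 [], transA, transB, transC].getD j []) :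
    ∃ w, (∀ s ∈ w, s < 3) ∧ Rep (wP w : Equiv.Perm GolayPt) r := by
  have h := words_ok
  simp only [OChkC.wordsOK, Bool.and_eq_true, List.all_eq_true, List.mem_range, leq_iff] at h
  obtain ⟨hlen, hall⟩ := h j hj
  obtain ⟨i, hi, rfl⟩ := List.mem_iff_getElem.1 hr
  have hl := Nat.eq_of_beq_eq_true hlen
  have hi' : i < (CDt.levW.getD j []).length := by rw [hl]; exact hi
  obtain ⟨hw, he⟩ := hall ((CDt.levW.getD j [])[i], _) (List.mem_iff_getElem.2 ⟨i, by
    rw [List.length_zip]; exact lt_min hi' hi, List.getElem_zip⟩)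
  have hw' : ∀ s ∈ (CDt.levW.getD j [])[i], s < 3 := fun s hs => Nat.le_of_ble_eq_true (hw s hs)
  refine ⟨_, hw', ?_⟩
  have h := (wP_rep _ hw').1
  simp only at he
  rwa [he] at h

/-- the stabiliser is generated by the three elements -/
theorem St_word {σ : Cfsg.M24} (hσ : StPr σ) : ∃ w, (∀ s ∈ w, s < 3) ∧ σ = wP w := by
  have h := lev_ok
  simp only [OChkC.levOK, Bool.and_eq_true, List.all_eq_true, List.mem_range, List.any_eq_true] at h
  obtain ⟨⟨⟨⟨⟨hl0, h0⟩, h1⟩, h1'⟩, h2⟩, h2'⟩ := h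
  have hpt : ∀ {τ : Equiv.Perm GolayPt} {r : List ℕ}, Rep τ r → ∀ i, i < 24 → r.getD i 0 = idx (τ (Spor.pt i)) :=
    fun {τ r} hr i hi => by rw [← hr (Spor.pt i), idx_pt i hi]
  -- fix the two points
  obtain ⟨w0, hw0, τ, hτ, hτ0, hτ1⟩ : ∃ w, (∀ s ∈ w, s < 3) ∧ ∃ τ : Cfsg.M24, σ = wP w * τ ∧
      (τ : Equiv.Perm GolayPt) (Spor.pt 0) = Spor.pt 0 ∧ (τ : Equiv.Perm GolayPt) (Spor.pt 1) = Spor.pt 1 := by
    have hne : Spor.pt 0 ≠ Spor.pt 1 := by decide +kernel
    have hm : ∀ i ∈ pairP, (σ : Equiv.Perm GolayPt) i ∈ pairP := fun i hi => by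
      have h' := Finset.smul_mem_smul_finset (a := (σ : Equiv.Perm GolayPt)) hi
      rwa [hσ] at h'
    have m0 := hm (Spor.pt 0) (Finset.mem_insert_self _ _)
    have m1 := hm (Spor.pt 1) (Finset.mem_insert_of_mem (Finset.mem_singleton_self _))
    simp only [pairP, Finset.mem_insert, Finset.mem_singleton] at m0 m1
    rcases m0 with e0 | e0
    · refine ⟨[], by simp, σ, by simp [wP], e0, m1.resolve_left fun e => hne ?_⟩
      exact (σ : Equiv.Perm GolayPt).injective (e0.trans e.symm)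
    · have e1 : (σ : Equiv.Perm GolayPt) (Spor.pt 1) = Spor.pt 0 := m1.resolve_right fun e =>
        hne ((σ : Equiv.Perm GolayPt).injective (e0.trans e.symm))
      obtain ⟨r, hr⟩ := List.length_eq_one_iff.1 (Nat.eq_of_beq_eq_true hl0)
      obtain ⟨⟨-, ha⟩, hb⟩ := h0 r (by rw [hr]; exact List.mem_singleton_self r)
      obtain ⟨w, hw, hrep⟩ := lev_word (j := 0) (r := r) (by norm_num)
        (by rw [List.getD_cons_zero, hr]; exact List.mem_singleton_self r)
      refine ⟨w, hw, (wP w)⁻¹ * σ, by group, ?_, ?_⟩ <;>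
        show ((wP w : Equiv.Perm GolayPt)⁻¹ * (σ : Equiv.Perm GolayPt)) _ = _ <;>
        rw [Equiv.Perm.mul_apply, Equiv.Perm.inv_eq_iff_eq]
      · rw [e0]; apply idx_injective; rw [← hpt hrep 0 (by norm_num), Nat.eq_of_beq_eq_true ha, idx_pt 1 (by norm_num)]
      · rw [e1]; apply idx_injective; rw [← hpt hrep 1 (by norm_num), Nat.eq_of_beq_eq_true hb, idx_pt 0 (by norm_num)]
  -- the third point
  have hidx : ∀ (π : Equiv.Perm GolayPt) (i j : ℕ), i < 24 → j < 24 → i ≠ j → π (Spor.pt i) = Spor.pt i →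
      idx (π (Spor.pt j)) ≠ i := fun π i j hi hj hne e he => hne (by
    have := π.injective (show π (Spor.pt j) = π (Spor.pt i) by rw [e]; apply idx_injective; rw [he, idx_pt i hi])
    rw [← idx_pt j hj, this, idx_pt i hi])
  obtain ⟨w2, hw2, υ, hυ, hυ0, hυ1, hυ2⟩ : ∃ w, (∀ s ∈ w, s < 3) ∧ ∃ υ : Cfsg.M24, τ = wP w * υ ∧
      (υ : Equiv.Perm GolayPt) (Spor.pt 0) = Spor.pt 0 ∧ (υ : Equiv.Perm GolayPt) (Spor.pt 1) = Spor.pt 1 ∧
      (υ : Equiv.Perm GolayPt) (Spor.pt 2) = Spor.pt 2 := by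
    have a0 := hidx _ 0 2 (by norm_num) (by norm_num) (by norm_num) hτ0
    have a1 := hidx _ 1 2 (by norm_num) (by norm_num) (by norm_num) hτ1
    have hlt := idx_lt ((τ : Equiv.Perm GolayPt) (Spor.pt 2))
    obtain ⟨r, hr, hrj⟩ := h1' (idx ((τ : Equiv.Perm GolayPt) (Spor.pt 2)) - 2) (by omega)
    obtain ⟨⟨-, ha⟩, hb⟩ := h1 r hr
    obtain ⟨w, hw, hrep⟩ := lev_word (j := 1) (r := r) (by norm_num) hr
    have hc : r.getD 2 0 = idx ((τ : Equiv.Perm GolayPt) (Spor.pt 2)) := by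
      have := Nat.eq_of_beq_eq_true hrj
      rw [this]
      show idx ((τ : Equiv.Perm GolayPt) (Spor.pt 2)) - 2 + 2 = _
      omega
    refine ⟨w, hw, (wP w)⁻¹ * τ, by group, ?_, ?_, ?_⟩ <;>
      show ((wP w : Equiv.Perm GolayPt)⁻¹ * (τ : Equiv.Perm GolayPt)) _ = _ <;>
      rw [Equiv.Perm.mul_apply, Equiv.Perm.inv_eq_iff_eq] <;> apply idx_injective
    · rw [hτ0, ← hpt hrep 0 (by norm_num), Nat.eq_of_beq_eq_true ha, idx_pt 0 (by norm_num)]
    · rw [hτ1, ← hpt hrep 1 (by norm_num), Nat.eq_of_beq_eq_true hb, idx_pt 1 (by norm_num)]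
    · rw [← hpt hrep 2 (by norm_num), hc]
  -- the fourth point
  obtain ⟨w3, hw3, χ, hχ, hχfix⟩ : ∃ w, (∀ s ∈ w, s < 3) ∧ ∃ χ : Cfsg.M24, υ = wP w * χ ∧
      ∀ i, i < 4 → (χ : Equiv.Perm GolayPt) (Spor.pt i) = Spor.pt i := by
    have a0 := hidx _ 0 3 (by norm_num) (by norm_num) (by norm_num) hυ0
    have a1 := hidx _ 1 3 (by norm_num) (by norm_num) (by norm_num) hυ1
    have a2 := hidx _ 2 3 (by norm_num) (by norm_num) (by norm_num) hυ2
    have hlt := idx_lt ((υ : Equiv.Perm GolayPt) (Spor.pt 3))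
    obtain ⟨r, hr, hrj⟩ := h2' (idx ((υ : Equiv.Perm GolayPt) (Spor.pt 3)) - 3) (by omega)
    obtain ⟨⟨⟨-, ha⟩, hb⟩, hb'⟩ := h2 r hr
    obtain ⟨w, hw, hrep⟩ := lev_word (j := 2) (r := r) (by norm_num) hr
    refine ⟨w, hw, (wP w)⁻¹ * υ, by group, fun i hi => ?_⟩
    show ((wP w : Equiv.Perm GolayPt)⁻¹ * (υ : Equiv.Perm GolayPt)) _ = _
    rw [Equiv.Perm.mul_apply, Equiv.Perm.inv_eq_iff_eq]
    apply idx_injective
    interval_cases i
    · rw [hυ0, ← hpt hrep 0 (by norm_num), Nat.eq_of_beq_eq_true ha, idx_pt 0 (by norm_num)]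
    · rw [hυ1, ← hpt hrep 1 (by norm_num), Nat.eq_of_beq_eq_true hb, idx_pt 1 (by norm_num)]
    · rw [hυ2, ← hpt hrep 2 (by norm_num), Nat.eq_of_beq_eq_true hb', idx_pt 2 (by norm_num)]
    · rw [← hpt hrep 3 (by norm_num), Nat.eq_of_beq_eq_true hrj]
      show _ = idx ((υ : Equiv.Perm GolayPt) (Spor.pt 3)) - 3 + 3
      omega
  obtain ⟨l, hl, hrep⟩ := fix4_rep (σ := (χ : Equiv.Perm GolayPt)) (mem_fixL.2 ⟨χ.2, fun p hp => by
    have hp4 : idx p ∈ [0, 1, 2, 3] := hp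
    simp only [List.mem_cons, List.not_mem_nil, or_false] at hp4
    rw [← pt_idx p]
    exact hχfix _ (by omega)⟩)
  rw [fix4List, List.mem_flatMap] at hl
  obtain ⟨a, ha, hl⟩ := hl
  obtain ⟨bc, hbc, rfl⟩ := List.mem_map.1 hl
  obtain ⟨b, hb, hbc⟩ := List.mem_flatMap.1 hbc
  obtain ⟨c, hc, rfl⟩ := List.mem_map.1 hbc
  obtain ⟨wa, hwa, ra⟩ := lev_word (j := 3) (r := a) (by norm_num) ha
  obtain ⟨wb, hwb, rb⟩ := lev_word (j := 4) (r := b) (by norm_num) hb
  obtain ⟨wc, hwc, rc⟩ := lev_word (j := 5) (r := c) (by norm_num) hc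
  have hχw : χ = wP wa * (wP wb * wP wc) := Subtype.ext (rep_unique hrep (ra.mul (rb.mul rc)))
  refine ⟨w0 ++ (w2 ++ (w3 ++ (wa ++ (wb ++ wc)))), ?_, ?_⟩
  · simp only [List.mem_append]
    rintro s (h | h | h | h | h | h)
    exacts [hw0 s h, hw2 s h, hw3 s h, hwa s h, hwb s h, hwc s h]
  · simp only [wP_append, hτ, hυ, hχ, hχw]

/-! ### the section -/

theorem idM_get : ∀ i < 11, idM.getD i 0 = 2 ^ i := by decide +kernel

theorem app_def (A : List ℕ) (k : ℕ) : Chk.app A k = Chk.appA A k 0 := by with_unfolding_all rfl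

theorem idM_app : ∀ n : Fin 2048, Chk.app idM n.val = n.val := by with_unfolding_all decide +kernel

theorem appA_lt' : ∀ {A : List ℕ}, (∀ c ∈ A, c < 2048) → ∀ k, Chk.appA A k 0 < 2048
  | [], _, _ => by norm_num [Chk.appA]
  | c :: A, hA, k => by
    show Chk.appA A (k >>> 1) (bif Chk.tb k 0 then 0 ^^^ c else 0) < 2048
    rw [appA_acc]
    refine Nat.xor_lt_two_pow (n := 11) ?_ (appA_lt' (fun d hd => hA d (List.mem_cons_of_mem _ hd)) _)
    cases Chk.tb k 0
    · norm_num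
    · simpa using hA c List.mem_cons_self

theorem app_lt' {A : List ℕ} (hA : ∀ c ∈ A, c < 2048) (k : ℕ) : Chk.app A k < 2048 := by
  with_unfolding_all exact appA_lt' hA k

universe u

variable {G : Type u} [Group G] [Finite G] {z : G}

theorem app_hom {f g : ℕ → G} (hf : ∀ a b, a < 2048 → b < 2048 → f (a ^^^ b) = f a * f b)
    (hg : ∀ a b, a < 2048 → b < 2048 → g (a ^^^ b) = g a * g b) :
    ∀ A B : List ℕ, A.length = B.length → (∀ c ∈ A, c < 2048) → (∀ c ∈ B, c < 2048) →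
      (∀ p ∈ List.zip A B, f p.1 = g p.2) → ∀ k, f (Chk.appA A k 0) = g (Chk.appA B k 0) := by
  have hf0 : f 0 = 1 := left_eq_mul.1 (hf 0 0 (by norm_num) (by norm_num))
  have hg0 : g 0 = 1 := left_eq_mul.1 (hg 0 0 (by norm_num) (by norm_num))
  intro A
  induction A with
  | nil =>
    intro B hl _ _ _ k
    rw [List.eq_nil_of_length_eq_zero hl.symm]
    exact hf0.trans hg0.symm
  | cons a A ih =>
    intro B hl hA hB h k
    obtain ⟨b, B, rfl⟩ : ∃ b B', B = b :: B' := by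
      cases B with
      | nil => simp at hl
      | cons b B' => exact ⟨b, B', rfl⟩
    have hA' : ∀ c ∈ A, c < 2048 := fun c hc => hA c (List.mem_cons_of_mem _ hc)
    have hB' : ∀ c ∈ B, c < 2048 := fun c hc => hB c (List.mem_cons_of_mem _ hc)
    have e := ih B (Nat.succ.inj hl) hA' hB' (fun p hp => h p (List.mem_cons_of_mem _ hp)) (k >>> 1)
    show f (Chk.appA A (k >>> 1) (bif Chk.tb k 0 then 0 ^^^ a else 0)) =
      g (Chk.appA B (k >>> 1) (bif Chk.tb k 0 then 0 ^^^ b else 0))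
    rw [appA_acc A, appA_acc B]
    cases Chk.tb k 0
    · simp only [cond_false, Nat.zero_xor]
      exact e
    · simp only [cond_true, Nat.zero_xor]
      rw [hf _ _ (hA a List.mem_cons_self) (appA_lt' hA' _), hg _ _ (hB b List.mem_cons_self) (appA_lt' hB' _), e,
        show f a = g b from h (a, b) List.mem_cons_self]

/-- a section of the normaliser over the Mathieu group -/
structure Sect (z : G) (V : Subgroup G) (ψ : ℕ → G) where
  /-- the model -/
  pm : PointModel z V ψ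
  /-- the section -/
  s : Cfsg.M24 →* G
  norm : ∀ σ, s σ ∈ Subgroup.normalizer (V : Set G)
  des : ∀ σ : Cfsg.M24, Des ψ (s σ) (σ : Equiv.Perm GolayPt)
  dec : ∀ y ∈ Subgroup.normalizer (V : Set G), ∃ r ∈ V, ∃ σ, y = r * s σ
  disj : ∀ σ, s σ ∈ V → σ = 1

variable {Q N : Subgroup G} {x : G}

theorem Big.exists_sect (S : Big z Q N x) (f : Frame z Q x) {V : Subgroup G}
    (hVe : Cfsg.IsElementaryAbelian 2 V) (hVc : Nat.card V = 2 ^ 11) : ∃ ψ, Nonempty (Sect z V ψ) := by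
  set H := Subgroup.normalizer (V : Set G) with hH
  obtain ⟨K, hKN, hKV, hKsup, -⟩ := S.split_any f hVe hVc
  obtain ⟨-, ψ, m, ρ, hsur, hker, hdes⟩ := S.model_any f hVe hVc
  have hVH : V ≤ H := Subgroup.le_normalizer
  haveI : (V.subgroupOf H).Normal := hker ▸ inferInstance
  have hsup' : K.subgroupOf H ⊔ V.subgroupOf H = ⊤ := by
    rw [← Subgroup.subgroupOf_sup hKN hVH, hKsup, Subgroup.subgroupOf_self]
  have hinj : Function.Injective (ρ.comp (K.subgroupOf H).subtype) := by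
    rw [← MonoidHom.ker_eq_bot_iff, eq_bot_iff]
    intro k hk
    have h1 : (k : H) ∈ ρ.ker := hk
    rw [hker] at h1
    have h2 : ((k : H) : G) ∈ K ⊓ V := ⟨k.2, h1⟩
    rw [hKV, Subgroup.mem_bot] at h2
    exact Subgroup.mem_bot.2 (Subtype.ext (Subtype.ext h2))
  have hsurj : Function.Surjective (ρ.comp (K.subgroupOf H).subtype) := fun σ => by
    obtain ⟨y, rfl⟩ := hsur σ
    obtain ⟨k, hk, a, ha, rfl⟩ := Subgroup.mem_sup_of_normal_right.1 (hsup' ▸ Subgroup.mem_top y)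
    refine ⟨⟨k, hk⟩, ?_⟩
    show ρ k = ρ (k * a)
    rw [map_mul, show ρ a = 1 from MonoidHom.mem_ker.1 (hker ▸ ha), mul_one]
  set e := MulEquiv.ofBijective _ ⟨hinj, hsurj⟩
  set s : Cfsg.M24 →* G := (H.subtype.comp (K.subgroupOf H).subtype).comp e.symm.toMonoidHom
  have hρ : ∀ σ, ρ (e.symm σ : H) = σ := fun σ => e.apply_symm_apply σ
  refine ⟨ψ, ⟨⟨m, s, fun σ => ((e.symm σ : K.subgroupOf H) : H).2, fun σ => ?_, fun y hy => ?_, fun σ hσ => ?_⟩⟩⟩
  · have h := hdes (e.symm σ : H)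
    rw [hρ] at h
    exact h
  · set k : H := ((e.symm (ρ ⟨y, hy⟩) : K.subgroupOf H) : H)
    have hk : (⟨y, hy⟩ : H) * k⁻¹ ∈ V.subgroupOf H := by
      rw [← hker, MonoidHom.mem_ker, map_mul, map_inv, hρ, mul_inv_cancel]
    exact ⟨(((⟨y, hy⟩ : H) * k⁻¹ : H) : G), hk, ρ ⟨y, hy⟩, by
      show y = y * ((k : G))⁻¹ * (k : G)
      rw [inv_mul_cancel_right]⟩
  · have h1 : (e.symm σ : H) ∈ ρ.ker := hker ▸ hσ
    rw [← hρ σ, MonoidHom.mem_ker.1 h1]

/-- an element in coordinates -/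
noncomputable def ec {V : Subgroup G} {ψ : ℕ → G} (T : Sect z V ψ) (v : ℕ) (σ : Cfsg.M24) : G := ψ v * T.s σ

variable {V : Subgroup G} {ψ : ℕ → G} (T : Sect z V ψ)

include T

theorem Sect.conj (σ : Cfsg.M24) {n : ℕ} (hn : n < 2048) :
    T.s σ * ψ n * (T.s σ)⁻¹ = ψ (Chk.app (matS σ) n) := by
  obtain ⟨hlen, hlt⟩ := matS_good σ
  have key := app_hom (f := fun a => T.s σ * ψ a * (T.s σ)⁻¹) (g := ψ)
    (fun a b ha hb => by simp only [T.pm.mul a b ha hb, conj_mul]) T.pm.mul idM (matS σ) (hlen.trans rfl).symm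
    (by decide +kernel) hlt (fun p hp => by
      obtain ⟨i, hi, rfl⟩ := List.mem_iff_getElem.1 hp
      have hi' : i < 11 := by rw [List.length_zip, hlen] at hi; exact (lt_min_iff.1 hi).2
      obtain ⟨he, hN, -⟩ := uS_facts hi'
      have e1 : ∀ (h : i < idM.length), idM[i] = 2 ^ i := fun h => by
        rw [← List.getD_eq_getElem _ 0 h, idM_get i hi']
      simp only [List.getElem_zip, matS, List.getElem_map, List.getElem_range, e1]
      rw [← hN]
      exact T.pm.des_even (T.des σ) he) n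
  have h1 : Chk.app idM n = n := idM_app ⟨n, hn⟩
  rw [← app_def, ← app_def, h1] at key
  exact key

theorem Sect.mat_inj {σ τ : Cfsg.M24} (h : matS σ = matS τ) : σ = τ := by
  refine Subtype.ext (T.pm.des_unique (T.des σ) fun s hs => ?_)
  rw [T.conj σ (phN_lt s), h, ← T.conj τ (phN_lt s)]
  exact T.des τ s hs

theorem Sect.mat_mul (σ τ : Cfsg.M24) : matS (σ * τ) = Chk.cmul (matS σ) (matS τ) := by
  refine List.ext_getElem (by rw [Chk.cmul, List.length_map, (matS_good _).1, (matS_good _).1]) fun i h1 h2 => ?_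
  have hi : i < 11 := (matS_good _).1 ▸ h1
  obtain ⟨he, hN, -⟩ := uS_facts hi
  simp only [Chk.cmul, List.getElem_map, matS, List.getElem_range]
  show phN _ = Chk.app (matS σ) (phN ((τ : Equiv.Perm GolayPt) • uSC i))
  refine T.pm.inj _ _ (phN_lt _) (app_lt' (matS_good σ).2 _) ?_
  rw [← T.conj σ (phN_lt _), ← T.pm.des_even (T.des τ) he, ← T.pm.des_even (T.des (σ * τ)) he, map_mul]
  group

theorem Sect.mat_word : ∀ w : List ℕ, (∀ s ∈ w, s < 3) → matS (wP w) = evM w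
  | [], _ => by with_unfolding_all decide +kernel
  | s :: w, hw => by
    rw [show wP (s :: w) = pM (gnP s) * wP w from rfl, T.mat_mul, (gn_facts (hw s List.mem_cons_self)).2.2,
      Sect.mat_word w fun t ht => hw t (List.mem_cons_of_mem _ ht)]
    rfl

theorem Sect.app_mul (σ τ : Cfsg.M24) (n : ℕ) :
    Chk.app (matS (σ * τ)) n = Chk.app (matS σ) (Chk.app (matS τ) n) := by
  rw [T.mat_mul, app_cmul]

theorem Sect.mat_one : matS (1 : Cfsg.M24) = idM := T.mat_word [] (by simp)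

theorem Sect.fix_pair {σ : Cfsg.M24} : StPr σ ↔ Chk.app (matS σ) ntC = ntC := by
  constructor
  · intro h
    refine T.pm.inj _ _ (app_lt' (matS_good σ).2 _) ntC_lt ?_
    rw [← T.conj σ ntC_lt, ← phN_pairP, T.des σ pairP pairP_card, h]
  · intro h
    refine pair_inj _ _ (by rw [Finset.card_smul_finset, pairP_card]) pairP_card (T.pm.inj _ _ (phN_lt _) (phN_lt _) ?_)
    rw [← T.des σ pairP pairP_card, phN_pairP, T.conj σ ntC_lt, h]

theorem Sect.ec_mul {v w : ℕ} (hv : v < 2048) (hw : w < 2048) (σ τ : Cfsg.M24) :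
    ec T v σ * ec T w τ = ec T (v ^^^ Chk.app (matS σ) w) (σ * τ) := by
  rw [ec, ec, ec, T.pm.mul _ _ hv (app_lt' (matS_good σ).2 _), ← T.conj σ hw, map_mul]
  group

theorem Sect.ec_inj {v w : ℕ} (hv : v < 2048) (hw : w < 2048) {σ τ : Cfsg.M24} (h : ec T v σ = ec T w τ) :
    v = w ∧ σ = τ := by
  have e : σ = τ := by
    have h1 : T.s (σ * τ⁻¹) ∈ V := by
      have e1 : T.s (σ * τ⁻¹) = (ψ v)⁻¹ * ψ w := by
        rw [map_mul, map_inv, mul_inv_eq_iff_eq_mul, mul_assoc, eq_inv_mul_iff_mul_eq]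
        exact h
      rw [e1]
      exact mul_mem (inv_mem (T.pm.mem v hv)) (T.pm.mem w hw)
    exact mul_inv_eq_one.1 (T.disj _ h1)
  subst e
  exact ⟨T.pm.inj _ _ hv hw (mul_right_cancel h), rfl⟩

theorem Sect.ec_one : ec T 0 1 = 1 := by rw [ec, T.pm.one, map_one, one_mul]

theorem Sect.ec_id (v : ℕ) : ec T v 1 = ψ v := by rw [ec, map_one, mul_one]

theorem Sect.pair_iT : iT z (ψ ntC) := by
  rw [← phN_pairP]; exact Cfsg.Agent.Spor.JFour.pair_iT T.pm pairP_card

/-- the centraliser of the pair involution in coordinates -/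
theorem Sect.ec_cen {v : ℕ} (hv : v < 2048) (σ : Cfsg.M24) :
    ec T v σ ∈ Subgroup.centralizer ({ψ ntC} : Set G) ↔ StPr σ := by
  rw [Subgroup.mem_centralizer_singleton_iff, ← T.ec_id ntC, T.ec_mul hv ntC_lt, T.ec_mul ntC_lt hv, mul_one, one_mul,
    T.mat_one, show Chk.app idM v = v from idM_app ⟨v, hv⟩, T.fix_pair]
  refine ⟨fun h => ?_, fun h => by rw [h, Nat.xor_comm]⟩
  have e := (T.ec_inj (Nat.xor_lt_two_pow (n := 11) hv (app_lt' (matS_good σ).2 _))
    (Nat.xor_lt_two_pow (n := 11) ntC_lt hv) h).1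
  rw [Nat.xor_comm ntC v] at e
  exact Nat.xor_right_injective e

theorem Sect.cen_exists (S : Big z Q N x) (f : Frame z Q x) (hVe : Cfsg.IsElementaryAbelian 2 V)
    (hVc : Nat.card V = 2 ^ 11) {y : G} (hy : y ∈ Subgroup.centralizer ({ψ ntC} : Set G)) :
    ∃ v < 2048, ∃ σ, StPr σ ∧ y = ec T v σ := by
  have hyN := S.cen_pair f hVe hVc (T.pm.mem _ ntC_lt) T.pair_iT (Subgroup.mem_centralizer_singleton_iff.1 hy)
  obtain ⟨r, hr, σ, rfl⟩ := T.dec y hyN
  obtain ⟨v, hv, rfl⟩ := T.pm.surj r hr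
  exact ⟨v, hv, σ, (T.ec_cen hv σ).1 hy, rfl⟩

end Cfsg.Agent.Spor.JFour
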