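import Cfsg.Agent.Lib.Spor.JFourOrder.HDefs
import Cfsg.Agent.Lib.Spor.JFourOrder.HTableData

/-!
Janko four type: the list is closed, part 1.
-/

set_option autoImplicit false
set_option maxRecDepth 100000
set_option Elab.async false

namespace Cfsg.Agent.Spor.JFour.OChk4

theorem list_ok_4 : ((List.range 394).all fun i => listAt (Nat.add 1576 i)) = true := by
  decide +kernel

theorem list_ok_5 : ((List.range 394).all fun i => listAt (Nat.add 1970 i)) = true := by
  decide +kernel

theorem list_ok_6 : ((List.range 394).all fun i => listAt (Nat.add 2364 i)) = true := by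
  decide +kernel

theorem list_ok_7 : ((List.range 394).all fun i => listAt (Nat.add 2758 i)) = true := by
  decide +kernel


end Cfsg.Agent.Spor.JFour.OChk4
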