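import Cfsg.Agent.Lib.Spor.JFourOrder.HDefs
import Cfsg.Agent.Lib.Spor.JFourOrder.HTableData

/-!
Janko four type: roots of forest 0.
-/

set_option autoImplicit false
set_option maxRecDepth 100000
set_option Elab.async false

namespace Cfsg.Agent.Spor.JFour.OChk4

theorem roots_ok_0 : rootsAt 0 = true := by decide +kernel

end Cfsg.Agent.Spor.JFour.OChk4
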