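import Cfsg.Agent.Lib.Spor.JFourOrder.HDefs
import Cfsg.Agent.Lib.Spor.JFourOrder.HTableData

/-!
Janko four type: tables of case 0.
-/

set_option autoImplicit false
set_option maxRecDepth 100000
set_option Elab.async false

namespace Cfsg.Agent.Spor.JFour.OChk4

theorem tabs_ok_0_0 : ((List.zip (((ODt.roots.getD 0 []).drop 0).take 1) ((ODt.htab0.drop 0).take 1)).all
    fun q => rootTab 0 q.1 q.2) = true := by
  decide +kernel

theorem tabs_ok_0_1 : ((List.zip (((ODt.roots.getD 0 []).drop 1).take 1) ((ODt.htab0.drop 1).take 1)).all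
    fun q => rootTab 0 q.1 q.2) = true := by
  decide +kernel

theorem tabs_ok_0_2 : ((List.zip (((ODt.roots.getD 0 []).drop 2).take 1) ((ODt.htab0.drop 2).take 1)).all
    fun q => rootTab 0 q.1 q.2) = true := by
  decide +kernel

theorem tabs_ok_0_3 : ((List.zip (((ODt.roots.getD 0 []).drop 3).take 1) ((ODt.htab0.drop 3).take 1)).all
    fun q => rootTab 0 q.1 q.2) = true := by
  decide +kernel

theorem tabs_ok_0_4 : ((List.zip (((ODt.roots.getD 0 []).drop 4).take 1) ((ODt.htab0.drop 4).take 1)).all
    fun q => rootTab 0 q.1 q.2) = true := by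
  decide +kernel

theorem tabs_ok_0_5 : ((List.zip (((ODt.roots.getD 0 []).drop 5).take 1) ((ODt.htab0.drop 5).take 1)).all
    fun q => rootTab 0 q.1 q.2) = true := by
  decide +kernel

theorem tabs_ok_0_6 : ((List.zip (((ODt.roots.getD 0 []).drop 6).take 1) ((ODt.htab0.drop 6).take 1)).all
    fun q => rootTab 0 q.1 q.2) = true := by
  decide +kernel

theorem tabs_ok_0_7 : ((List.zip (((ODt.roots.getD 0 []).drop 7).take 1) ((ODt.htab0.drop 7).take 1)).all
    fun q => rootTab 0 q.1 q.2) = true := by
  decide +kernel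

theorem tabs_len_0 : (ODt.roots.getD 0 []).length = 31 ∧ ODt.htab0.length = 31 := by decide +kernel

end Cfsg.Agent.Spor.JFour.OChk4
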