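import Cfsg.Agent.Lib.Spor.JFourOrder.HDefs
import Cfsg.Agent.Lib.Spor.JFourOrder.HTableData

/-!
Janko four type: tables of case 0.
-/

set_option autoImplicit false
set_option maxRecDepth 100000
set_option Elab.async false

namespace Cfsg.Agent.Spor.JFour.OChk4

theorem tabs_ok_0_8 : ((List.zip (((ODt.roots.getD 0 []).drop 8).take 1) ((ODt.htab0.drop 8).take 1)).all
    fun q => rootTab 0 q.1 q.2) = true := by
  decide +kernel

theorem tabs_ok_0_9 : ((List.zip (((ODt.roots.getD 0 []).drop 9).take 1) ((ODt.htab0.drop 9).take 1)).all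
    fun q => rootTab 0 q.1 q.2) = true := by
  decide +kernel

theorem tabs_ok_0_10 : ((List.zip (((ODt.roots.getD 0 []).drop 10).take 1) ((ODt.htab0.drop 10).take 1)).all
    fun q => rootTab 0 q.1 q.2) = true := by
  decide +kernel

theorem tabs_ok_0_11 : ((List.zip (((ODt.roots.getD 0 []).drop 11).take 1) ((ODt.htab0.drop 11).take 1)).all
    fun q => rootTab 0 q.1 q.2) = true := by
  decide +kernel

theorem tabs_ok_0_12 : ((List.zip (((ODt.roots.getD 0 []).drop 12).take 1) ((ODt.htab0.drop 12).take 1)).all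
    fun q => rootTab 0 q.1 q.2) = true := by
  decide +kernel

theorem tabs_ok_0_13 : ((List.zip (((ODt.roots.getD 0 []).drop 13).take 1) ((ODt.htab0.drop 13).take 1)).all
    fun q => rootTab 0 q.1 q.2) = true := by
  decide +kernel

theorem tabs_ok_0_14 : ((List.zip (((ODt.roots.getD 0 []).drop 14).take 1) ((ODt.htab0.drop 14).take 1)).all
    fun q => rootTab 0 q.1 q.2) = true := by
  decide +kernel

theorem tabs_ok_0_15 : ((List.zip (((ODt.roots.getD 0 []).drop 15).take 1) ((ODt.htab0.drop 15).take 1)).all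
    fun q => rootTab 0 q.1 q.2) = true := by
  decide +kernel


end Cfsg.Agent.Spor.JFour.OChk4
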