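import Cfsg.Agent.Lib.Spor.JFourOrder.HDefs
import Cfsg.Agent.Lib.Spor.JFourOrder.HTableData

/-!
Janko four type: tables of case 0.
-/

set_option autoImplicit false
set_option maxRecDepth 100000
set_option Elab.async false

namespace Cfsg.Agent.Spor.JFour.OChk4

theorem tabs_ok_0_16 : ((List.zip (((ODt.roots.getD 0 []).drop 16).take 1) ((ODt.htab0.drop 16).take 1)).all
    fun q => rootTab 0 q.1 q.2) = true := by
  decide +kernel

theorem tabs_ok_0_17 : ((List.zip (((ODt.roots.getD 0 []).drop 17).take 1) ((ODt.htab0.drop 17).take 1)).all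
    fun q => rootTab 0 q.1 q.2) = true := by
  decide +kernel

theorem tabs_ok_0_18 : ((List.zip (((ODt.roots.getD 0 []).drop 18).take 1) ((ODt.htab0.drop 18).take 1)).all
    fun q => rootTab 0 q.1 q.2) = true := by
  decide +kernel

theorem tabs_ok_0_19 : ((List.zip (((ODt.roots.getD 0 []).drop 19).take 1) ((ODt.htab0.drop 19).take 1)).all
    fun q => rootTab 0 q.1 q.2) = true := by
  decide +kernel

theorem tabs_ok_0_20 : ((List.zip (((ODt.roots.getD 0 []).drop 20).take 1) ((ODt.htab0.drop 20).take 1)).all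
    fun q => rootTab 0 q.1 q.2) = true := by
  decide +kernel

theorem tabs_ok_0_21 : ((List.zip (((ODt.roots.getD 0 []).drop 21).take 1) ((ODt.htab0.drop 21).take 1)).all
    fun q => rootTab 0 q.1 q.2) = true := by
  decide +kernel

theorem tabs_ok_0_22 : ((List.zip (((ODt.roots.getD 0 []).drop 22).take 1) ((ODt.htab0.drop 22).take 1)).all
    fun q => rootTab 0 q.1 q.2) = true := by
  decide +kernel

theorem tabs_ok_0_23 : ((List.zip (((ODt.roots.getD 0 []).drop 23).take 1) ((ODt.htab0.drop 23).take 1)).all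
    fun q => rootTab 0 q.1 q.2) = true := by
  decide +kernel


end Cfsg.Agent.Spor.JFour.OChk4
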