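import Cfsg.Agent.Lib.Spor.JFourOrder.HDefs
import Cfsg.Agent.Lib.Spor.JFourOrder.HTableData

/-!
Janko four type: tables of case 2.
-/

set_option autoImplicit false
set_option maxRecDepth 100000
set_option Elab.async false

namespace Cfsg.Agent.Spor.JFour.OChk4

theorem tabs_ok_2_0 : ((List.zip (((ODt.roots.getD 2 []).drop 0).take 6) ((ODt.htab2.drop 0).take 6)).all
    fun q => rootTab 2 q.1 q.2) = true := by
  decide +kernel

theorem tabs_ok_2_6 : ((List.zip (((ODt.roots.getD 2 []).drop 6).take 6) ((ODt.htab2.drop 6).take 6)).all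
    fun q => rootTab 2 q.1 q.2) = true := by
  decide +kernel

theorem tabs_ok_2_12 : ((List.zip (((ODt.roots.getD 2 []).drop 12).take 6) ((ODt.htab2.drop 12).take 6)).all
    fun q => rootTab 2 q.1 q.2) = true := by
  decide +kernel

theorem tabs_ok_2_18 : ((List.zip (((ODt.roots.getD 2 []).drop 18).take 6) ((ODt.htab2.drop 18).take 6)).all
    fun q => rootTab 2 q.1 q.2) = true := by
  decide +kernel

theorem tabs_ok_2_24 : ((List.zip (((ODt.roots.getD 2 []).drop 24).take 6) ((ODt.htab2.drop 24).take 6)).all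
    fun q => rootTab 2 q.1 q.2) = true := by
  decide +kernel

theorem tabs_ok_2_30 : ((List.zip (((ODt.roots.getD 2 []).drop 30).take 6) ((ODt.htab2.drop 30).take 6)).all
    fun q => rootTab 2 q.1 q.2) = true := by
  decide +kernel

theorem tabs_ok_2_36 : ((List.zip (((ODt.roots.getD 2 []).drop 36).take 6) ((ODt.htab2.drop 36).take 6)).all
    fun q => rootTab 2 q.1 q.2) = true := by
  decide +kernel

theorem tabs_ok_2_42 : ((List.zip (((ODt.roots.getD 2 []).drop 42).take 1) ((ODt.htab2.drop 42).take 1)).all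
    fun q => rootTab 2 q.1 q.2) = true := by
  decide +kernel

theorem tabs_len_2 : (ODt.roots.getD 2 []).length = 43 ∧ ODt.htab2.length = 43 := by decide +kernel

end Cfsg.Agent.Spor.JFour.OChk4
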