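import Cfsg.Agent.Lib.Spor.JFourOrder.HDefs
import Cfsg.Agent.Lib.Spor.JFourOrder.HTableData

/-!
Janko four type: tables of case 3.
-/

set_option autoImplicit false
set_option maxRecDepth 100000
set_option Elab.async false

namespace Cfsg.Agent.Spor.JFour.OChk4

theorem tabs_ok_3_0 : ((List.zip (((ODt.roots.getD 3 []).drop 0).take 8) ((ODt.htab3.drop 0).take 8)).all
    fun q => rootTab 3 q.1 q.2) = true := by
  decide +kernel

theorem tabs_ok_3_8 : ((List.zip (((ODt.roots.getD 3 []).drop 8).take 8) ((ODt.htab3.drop 8).take 8)).all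
    fun q => rootTab 3 q.1 q.2) = true := by
  decide +kernel

theorem tabs_ok_3_16 : ((List.zip (((ODt.roots.getD 3 []).drop 16).take 8) ((ODt.htab3.drop 16).take 8)).all
    fun q => rootTab 3 q.1 q.2) = true := by
  decide +kernel

theorem tabs_len_3 : (ODt.roots.getD 3 []).length = 24 ∧ ODt.htab3.length = 24 := by decide +kernel

end Cfsg.Agent.Spor.JFour.OChk4
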