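import Cfsg.Agent.Lib.Spor.JFourOrder.HDefs
import Cfsg.Agent.Lib.Spor.JFourOrder.HTableData

/-!
Janko four type: orbit forest 0.
-/

set_option autoImplicit false
set_option maxRecDepth 100000
set_option Elab.async false

namespace Cfsg.Agent.Spor.JFour.OChk4

theorem tree_ok_0_0 : ((List.range 394).all fun i => treeAt 0 (Nat.add 0 i)) = true := by
  decide +kernel

theorem tree_ok_0_1 : ((List.range 394).all fun i => treeAt 0 (Nat.add 394 i)) = true := by
  decide +kernel

theorem tree_ok_0_2 : ((List.range 394).all fun i => treeAt 0 (Nat.add 788 i)) = true := by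
  decide +kernel

theorem tree_ok_0_3 : ((List.range 394).all fun i => treeAt 0 (Nat.add 1182 i)) = true := by
  decide +kernel

theorem tree_ok_0_4 : ((List.range 394).all fun i => treeAt 0 (Nat.add 1576 i)) = true := by
  decide +kernel

theorem tree_ok_0_5 : ((List.range 394).all fun i => treeAt 0 (Nat.add 1970 i)) = true := by
  decide +kernel

theorem tree_ok_0_6 : ((List.range 394).all fun i => treeAt 0 (Nat.add 2364 i)) = true := by
  decide +kernel

theorem tree_ok_0_7 : ((List.range 394).all fun i => treeAt 0 (Nat.add 2758 i)) = true := by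
  decide +kernel

theorem tree_ok_0_8 : ((List.range 394).all fun i => treeAt 0 (Nat.add 3152 i)) = true := by
  decide +kernel

theorem tree_ok_0_9 : ((List.range 394).all fun i => treeAt 0 (Nat.add 3546 i)) = true := by
  decide +kernel

theorem tree_ok_0_10 : ((List.range 394).all fun i => treeAt 0 (Nat.add 3940 i)) = true := by
  decide +kernel

theorem tree_ok_0_11 : ((List.range 394).all fun i => treeAt 0 (Nat.add 4334 i)) = true := by
  decide +kernel

theorem tree_ok_0_12 : ((List.range 394).all fun i => treeAt 0 (Nat.add 4728 i)) = true := by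
  decide +kernel

theorem tree_ok_0_13 : ((List.range 394).all fun i => treeAt 0 (Nat.add 5122 i)) = true := by
  decide +kernel

theorem tree_ok_0_14 : ((List.range 394).all fun i => treeAt 0 (Nat.add 5516 i)) = true := by
  decide +kernel

theorem tree_ok_0_15 : ((List.range 394).all fun i => treeAt 0 (Nat.add 5910 i)) = true := by
  decide +kernel

theorem word_ok_0 : rootWordAt 0 = true := by decide +kernel

end Cfsg.Agent.Spor.JFour.OChk4
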