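import Cfsg.Agent.Lib.Spor.JFourOrder.HChkSmall
import Cfsg.Agent.Lib.Spor.JFourOrder.HChkList0
import Cfsg.Agent.Lib.Spor.JFourOrder.HChkList1
import Cfsg.Agent.Lib.Spor.JFourOrder.HChkList2
import Cfsg.Agent.Lib.Spor.JFourOrder.HChkList3
import Cfsg.Agent.Lib.Spor.JFourOrder.HChkTree0
import Cfsg.Agent.Lib.Spor.JFourOrder.HChkTree1
import Cfsg.Agent.Lib.Spor.JFourOrder.HChkTree2
import Cfsg.Agent.Lib.Spor.JFourOrder.HChkTree3
import Cfsg.Agent.Lib.Spor.JFourOrder.HChkRoots0
import Cfsg.Agent.Lib.Spor.JFourOrder.HChkRoots1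
import Cfsg.Agent.Lib.Spor.JFourOrder.HChkRoots2
import Cfsg.Agent.Lib.Spor.JFourOrder.HChkRoots3
import Cfsg.Agent.Lib.Spor.JFourOrder.HChkTab0a
import Cfsg.Agent.Lib.Spor.JFourOrder.HChkTab0b
import Cfsg.Agent.Lib.Spor.JFourOrder.HChkTab0c
import Cfsg.Agent.Lib.Spor.JFourOrder.HChkTab0d
import Cfsg.Agent.Lib.Spor.JFourOrder.HChkTab1
import Cfsg.Agent.Lib.Spor.JFourOrder.HChkTab2
import Cfsg.Agent.Lib.Spor.JFourOrder.HChkTab3

/-!
Janko four type: the pieces of the checks put together.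
-/

set_option autoImplicit false
set_option maxRecDepth 100000

namespace Cfsg.Agent.Spor.JFour.OChk4

theorem all_chunk {p : ℕ → Bool} (h : ∀ j < 16, ((List.range 394).all fun i => p (Nat.add (Nat.mul 394 j) i)) = true)
    {i : ℕ} (hi : i < 6304) : p i = true := by
  have h' := h (i / 394) (by omega)
  simp only [List.all_eq_true, List.mem_range] at h'
  have := h' (i % 394) (Nat.mod_lt _ (by norm_num))
  rwa [show Nat.add (Nat.mul 394 (i / 394)) (i % 394) = i from Nat.div_add_mod i 394] at this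

theorem list_ok {i : ℕ} (hi : i < 6304) : listAt i = true := by
  refine all_chunk ?_ hi
  intro j hj
  match j, hj with
  | 0, _ => exact list_ok_0
  | 1, _ => exact list_ok_1
  | 2, _ => exact list_ok_2
  | 3, _ => exact list_ok_3
  | 4, _ => exact list_ok_4
  | 5, _ => exact list_ok_5
  | 6, _ => exact list_ok_6
  | 7, _ => exact list_ok_7
  | 8, _ => exact list_ok_8
  | 9, _ => exact list_ok_9
  | 10, _ => exact list_ok_10
  | 11, _ => exact list_ok_11
  | 12, _ => exact list_ok_12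
  | 13, _ => exact list_ok_13
  | 14, _ => exact list_ok_14
  | 15, _ => exact list_ok_15
  | j + 16, h => omega

theorem tree_ok0 {i : ℕ} (hi : i < 6304) : treeAt 0 i = true := by
  refine all_chunk (p := treeAt 0) ?_ hi
  intro j hj
  match j, hj with
  | 0, _ => exact tree_ok_0_0
  | 1, _ => exact tree_ok_0_1
  | 2, _ => exact tree_ok_0_2
  | 3, _ => exact tree_ok_0_3
  | 4, _ => exact tree_ok_0_4
  | 5, _ => exact tree_ok_0_5
  | 6, _ => exact tree_ok_0_6
  | 7, _ => exact tree_ok_0_7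
  | 8, _ => exact tree_ok_0_8
  | 9, _ => exact tree_ok_0_9
  | 10, _ => exact tree_ok_0_10
  | 11, _ => exact tree_ok_0_11
  | 12, _ => exact tree_ok_0_12
  | 13, _ => exact tree_ok_0_13
  | 14, _ => exact tree_ok_0_14
  | 15, _ => exact tree_ok_0_15
  | j + 16, h => omega

theorem tree_ok1 {i : ℕ} (hi : i < 6304) : treeAt 1 i = true := by
  refine all_chunk (p := treeAt 1) ?_ hi
  intro j hj
  match j, hj with
  | 0, _ => exact tree_ok_1_0
  | 1, _ => exact tree_ok_1_1
  | 2, _ => exact tree_ok_1_2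
  | 3, _ => exact tree_ok_1_3
  | 4, _ => exact tree_ok_1_4
  | 5, _ => exact tree_ok_1_5
  | 6, _ => exact tree_ok_1_6
  | 7, _ => exact tree_ok_1_7
  | 8, _ => exact tree_ok_1_8
  | 9, _ => exact tree_ok_1_9
  | 10, _ => exact tree_ok_1_10
  | 11, _ => exact tree_ok_1_11
  | 12, _ => exact tree_ok_1_12
  | 13, _ => exact tree_ok_1_13
  | 14, _ => exact tree_ok_1_14
  | 15, _ => exact tree_ok_1_15
  | j + 16, h => omega

theorem tree_ok2 {i : ℕ} (hi : i < 6304) : treeAt 2 i = true := by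
  refine all_chunk (p := treeAt 2) ?_ hi
  intro j hj
  match j, hj with
  | 0, _ => exact tree_ok_2_0
  | 1, _ => exact tree_ok_2_1
  | 2, _ => exact tree_ok_2_2
  | 3, _ => exact tree_ok_2_3
  | 4, _ => exact tree_ok_2_4
  | 5, _ => exact tree_ok_2_5
  | 6, _ => exact tree_ok_2_6
  | 7, _ => exact tree_ok_2_7
  | 8, _ => exact tree_ok_2_8
  | 9, _ => exact tree_ok_2_9
  | 10, _ => exact tree_ok_2_10
  | 11, _ => exact tree_ok_2_11
  | 12, _ => exact tree_ok_2_12
  | 13, _ => exact tree_ok_2_13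
  | 14, _ => exact tree_ok_2_14
  | 15, _ => exact tree_ok_2_15
  | j + 16, h => omega

theorem tree_ok3 {i : ℕ} (hi : i < 6304) : treeAt 3 i = true := by
  refine all_chunk (p := treeAt 3) ?_ hi
  intro j hj
  match j, hj with
  | 0, _ => exact tree_ok_3_0
  | 1, _ => exact tree_ok_3_1
  | 2, _ => exact tree_ok_3_2
  | 3, _ => exact tree_ok_3_3
  | 4, _ => exact tree_ok_3_4
  | 5, _ => exact tree_ok_3_5
  | 6, _ => exact tree_ok_3_6
  | 7, _ => exact tree_ok_3_7
  | 8, _ => exact tree_ok_3_8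
  | 9, _ => exact tree_ok_3_9
  | 10, _ => exact tree_ok_3_10
  | 11, _ => exact tree_ok_3_11
  | 12, _ => exact tree_ok_3_12
  | 13, _ => exact tree_ok_3_13
  | 14, _ => exact tree_ok_3_14
  | 15, _ => exact tree_ok_3_15
  | j + 16, h => omega

theorem tree_ok {k i : ℕ} (hk : k < 4) (hi : i < 6304) : treeAt k i = true := by
  match k, hk with
  | 0, _ => exact tree_ok0 hi
  | 1, _ => exact tree_ok1 hi
  | 2, _ => exact tree_ok2 hi
  | 3, _ => exact tree_ok3 hi
  | k + 4, h => omega

theorem roots_ok {k : ℕ} (hk : k < 4) : rootsAt k = true ∧ rootWordAt k = true := by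
  match k, hk with
  | 0, _ => exact ⟨roots_ok_0, word_ok_0⟩
  | 1, _ => exact ⟨roots_ok_1, word_ok_1⟩
  | 2, _ => exact ⟨roots_ok_2, word_ok_2⟩
  | 3, _ => exact ⟨roots_ok_3, word_ok_3⟩
  | k + 4, h => omega

/-- the tables of a case -/
def htabOf (k : ℕ) : List (ℕ × List ℕ) := [ODt.htab0, ODt.htab1, ODt.htab2, ODt.htab3].getD k []

theorem drop_take {α β : Type} {A : List α} {B : List β} {P : α × β → Bool} (lo m : ℕ)
    (h : ((List.zip ((A.drop lo).take m) ((B.drop lo).take m)).all P) = true) {i : ℕ}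
    (h1 : lo ≤ i) (h2 : i < lo + m) (hA : i < A.length) (hB : i < B.length) : P (A[i], B[i]) = true := by
  rw [List.all_eq_true] at h
  refine h _ (List.mem_iff_getElem.2 ⟨i - lo, ?_, ?_⟩)
  · simp only [List.length_zip, List.length_take, List.length_drop]; omega
  · simp only [List.getElem_zip, List.getElem_take, List.getElem_drop, show lo + (i - lo) = i by omega]

theorem tabs_ok0 {i : ℕ} (hA : i < (ODt.roots.getD 0 []).length) (hB : i < ODt.htab0.length) :
    rootTab 0 (ODt.roots.getD 0 [])[i] ODt.htab0[i] = true := by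
  have hn := tabs_len_0.1
  by_cases c0 : i < 1
  · exact drop_take 0 1 tabs_ok_0_0 (by omega) (by omega) hA hB
  by_cases c1 : i < 2
  · exact drop_take 1 1 tabs_ok_0_1 (by omega) (by omega) hA hB
  by_cases c2 : i < 3
  · exact drop_take 2 1 tabs_ok_0_2 (by omega) (by omega) hA hB
  by_cases c3 : i < 4
  · exact drop_take 3 1 tabs_ok_0_3 (by omega) (by omega) hA hB
  by_cases c4 : i < 5
  · exact drop_take 4 1 tabs_ok_0_4 (by omega) (by omega) hA hB
  by_cases c5 : i < 6
  · exact drop_take 5 1 tabs_ok_0_5 (by omega) (by omega) hA hB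
  by_cases c6 : i < 7
  · exact drop_take 6 1 tabs_ok_0_6 (by omega) (by omega) hA hB
  by_cases c7 : i < 8
  · exact drop_take 7 1 tabs_ok_0_7 (by omega) (by omega) hA hB
  by_cases c8 : i < 9
  · exact drop_take 8 1 tabs_ok_0_8 (by omega) (by omega) hA hB
  by_cases c9 : i < 10
  · exact drop_take 9 1 tabs_ok_0_9 (by omega) (by omega) hA hB
  by_cases c10 : i < 11
  · exact drop_take 10 1 tabs_ok_0_10 (by omega) (by omega) hA hB
  by_cases c11 : i < 12
  · exact drop_take 11 1 tabs_ok_0_11 (by omega) (by omega) hA hB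
  by_cases c12 : i < 13
  · exact drop_take 12 1 tabs_ok_0_12 (by omega) (by omega) hA hB
  by_cases c13 : i < 14
  · exact drop_take 13 1 tabs_ok_0_13 (by omega) (by omega) hA hB
  by_cases c14 : i < 15
  · exact drop_take 14 1 tabs_ok_0_14 (by omega) (by omega) hA hB
  by_cases c15 : i < 16
  · exact drop_take 15 1 tabs_ok_0_15 (by omega) (by omega) hA hB
  by_cases c16 : i < 17
  · exact drop_take 16 1 tabs_ok_0_16 (by omega) (by omega) hA hB
  by_cases c17 : i < 18
  · exact drop_take 17 1 tabs_ok_0_17 (by omega) (by omega) hA hB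
  by_cases c18 : i < 19
  · exact drop_take 18 1 tabs_ok_0_18 (by omega) (by omega) hA hB
  by_cases c19 : i < 20
  · exact drop_take 19 1 tabs_ok_0_19 (by omega) (by omega) hA hB
  by_cases c20 : i < 21
  · exact drop_take 20 1 tabs_ok_0_20 (by omega) (by omega) hA hB
  by_cases c21 : i < 22
  · exact drop_take 21 1 tabs_ok_0_21 (by omega) (by omega) hA hB
  by_cases c22 : i < 23
  · exact drop_take 22 1 tabs_ok_0_22 (by omega) (by omega) hA hB
  by_cases c23 : i < 24
  · exact drop_take 23 1 tabs_ok_0_23 (by omega) (by omega) hA hB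
  by_cases c24 : i < 25
  · exact drop_take 24 1 tabs_ok_0_24 (by omega) (by omega) hA hB
  by_cases c25 : i < 26
  · exact drop_take 25 1 tabs_ok_0_25 (by omega) (by omega) hA hB
  by_cases c26 : i < 27
  · exact drop_take 26 1 tabs_ok_0_26 (by omega) (by omega) hA hB
  by_cases c27 : i < 28
  · exact drop_take 27 1 tabs_ok_0_27 (by omega) (by omega) hA hB
  by_cases c28 : i < 29
  · exact drop_take 28 1 tabs_ok_0_28 (by omega) (by omega) hA hB
  by_cases c29 : i < 30
  · exact drop_take 29 1 tabs_ok_0_29 (by omega) (by omega) hA hB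
  by_cases c30 : i < 31
  · exact drop_take 30 1 tabs_ok_0_30 (by omega) (by omega) hA hB
  omega

theorem tabs_ok1 {i : ℕ} (hA : i < (ODt.roots.getD 1 []).length) (hB : i < ODt.htab1.length) :
    rootTab 1 (ODt.roots.getD 1 [])[i] ODt.htab1[i] = true := by
  have hn := tabs_len_1.1
  by_cases c0 : i < 5
  · exact drop_take 0 5 tabs_ok_1_0 (by omega) (by omega) hA hB
  by_cases c5 : i < 10
  · exact drop_take 5 5 tabs_ok_1_5 (by omega) (by omega) hA hB
  by_cases c10 : i < 15
  · exact drop_take 10 5 tabs_ok_1_10 (by omega) (by omega) hA hB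
  by_cases c15 : i < 20
  · exact drop_take 15 5 tabs_ok_1_15 (by omega) (by omega) hA hB
  by_cases c20 : i < 25
  · exact drop_take 20 5 tabs_ok_1_20 (by omega) (by omega) hA hB
  by_cases c25 : i < 27
  · exact drop_take 25 2 tabs_ok_1_25 (by omega) (by omega) hA hB
  omega

theorem tabs_ok2 {i : ℕ} (hA : i < (ODt.roots.getD 2 []).length) (hB : i < ODt.htab2.length) :
    rootTab 2 (ODt.roots.getD 2 [])[i] ODt.htab2[i] = true := by
  have hn := tabs_len_2.1
  by_cases c0 : i < 6
  · exact drop_take 0 6 tabs_ok_2_0 (by omega) (by omega) hA hB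
  by_cases c6 : i < 12
  · exact drop_take 6 6 tabs_ok_2_6 (by omega) (by omega) hA hB
  by_cases c12 : i < 18
  · exact drop_take 12 6 tabs_ok_2_12 (by omega) (by omega) hA hB
  by_cases c18 : i < 24
  · exact drop_take 18 6 tabs_ok_2_18 (by omega) (by omega) hA hB
  by_cases c24 : i < 30
  · exact drop_take 24 6 tabs_ok_2_24 (by omega) (by omega) hA hB
  by_cases c30 : i < 36
  · exact drop_take 30 6 tabs_ok_2_30 (by omega) (by omega) hA hB
  by_cases c36 : i < 42
  · exact drop_take 36 6 tabs_ok_2_36 (by omega) (by omega) hA hB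
  by_cases c42 : i < 43
  · exact drop_take 42 1 tabs_ok_2_42 (by omega) (by omega) hA hB
  omega

theorem tabs_ok3 {i : ℕ} (hA : i < (ODt.roots.getD 3 []).length) (hB : i < ODt.htab3.length) :
    rootTab 3 (ODt.roots.getD 3 [])[i] ODt.htab3[i] = true := by
  have hn := tabs_len_3.1
  by_cases c0 : i < 8
  · exact drop_take 0 8 tabs_ok_3_0 (by omega) (by omega) hA hB
  by_cases c8 : i < 16
  · exact drop_take 8 8 tabs_ok_3_8 (by omega) (by omega) hA hB
  by_cases c16 : i < 24
  · exact drop_take 16 8 tabs_ok_3_16 (by omega) (by omega) hA hB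
  omega

end Cfsg.Agent.Spor.JFour.OChk4
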