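import Cfsg.Agent.Lib.Spor.JFourOrder.HDefs
import Cfsg.Agent.Lib.Spor.JFourOrder.HTableData

/-!
Janko four type: small checks.
-/

set_option autoImplicit false
set_option maxRecDepth 100000

namespace Cfsg.Agent.Spor.JFour.OChk4

theorem fix_ok : fixOK = true := by decide +kernel

theorem gx_ok : gxOK = true := by decide +kernel

theorem tab_ok : tabOK = true := by decide +kernel

theorem mem_ok_zero : memOK 0 = true := by decide +kernel

theorem mem_ok_one : memOK 1 = true := by decide +kernel

theorem mem_ok_two : memOK 2 = true := by decide +kernel

theorem link_ok : linkOK = true := by decide +kernel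

end Cfsg.Agent.Spor.JFour.OChk4
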