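import Cfsg.Agent.Lib.Spor.JFourOrder.HModel

/-!
Janko four type: the type of an involution of the centraliser is a function of its class label.
-/

set_option autoImplicit false
set_option maxRecDepth 100000
set_option linter.unusedSectionVars false

namespace Cfsg.Agent.Spor.JFour

open Cfsg.Agent.Spor.SUSix (V6 code code_lt vecOf_code)
open Cfsg.Agent.Spor.LFT (iT iT_conj)
open OChk4

attribute [local irreducible] Gam Kp Chk.app

/-- representing lift of a class: representative and code -/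
def clsRep : ℕ → ℕ × ℕ
  | 3 => (2, 0)
  | 4 => (1, 0)
  | 5 => (1, 1)
  | 6 => (0, 0)
  | 7 => (0, 1)
  | 8 => (0, 214)
  | _ => (0, 132)

/-- the class of the other lift -/
def swC : ℕ → ℕ
  | 4 => 5
  | 5 => 4
  | 6 => 7
  | 7 => 6
  | c => c

/-- classes match representatives and are permuted by the central involution -/
def classAt (k : ℕ) : Bool :=
  let U := ODt.urep.getD k []
  let M := ODt.mems.getD k []
  (List.range U.length).all (fun j =>
    let u := U.getD j (0, 0)
    Nat.blt u.1 8192 && Nat.ble 3 u.2 && Nat.ble u.2 9 && Nat.beq (clsRep u.2).1 k &&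
      Nat.beq (clsRep u.2).2 (U.getD ((ODt.linkW.getD k []).getD j (0, [])).1 (0, 0)).1) &&
    M.all fun m => M.any fun m' => Nat.beq m'.1 (Nat.xor m.1 1) && Nat.beq (memC k m') (swC (memC k m))

theorem class_ok : ((List.range 3).all classAt) = true := by decide +kernel

theorem mem_ok {k : ℕ} (hk : k < 3) : memOK k = true := by
  rcases (show k = 0 ∨ k = 1 ∨ k = 2 by omega) with rfl | rfl | rfl
  exacts [mem_ok_zero, mem_ok_one, mem_ok_two]

universe u

variable {G : Type u} [Group G] [Finite G] {z : G} {Q N : Subgroup G} {x : G}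

/-- the involution is in the class of the central one -/
noncomputable def tz (q : Subgroup.centralizer ({z} : Set G)) : Bool := by classical exact decide (IsConj z (q : G))

theorem tz_true {q : Subgroup.centralizer ({z} : Set G)} : tz q = true ↔ IsConj z (q : G) := by simp [tz]

theorem tz_conj (g q : Subgroup.centralizer ({z} : Set G)) : tz (g * q * g⁻¹) = tz q := by
  refine Bool.eq_iff_iff.2 ?_
  rw [tz_true, tz_true]
  have h : IsConj (q : G) ((g * q * g⁻¹ : Subgroup.centralizer ({z} : Set G)) : G) :=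
    isConj_iff.2 ⟨g, by simp only [Subgroup.coe_mul, Subgroup.coe_inv]⟩
  exact ⟨fun e => e.trans h.symm, fun e => e.trans h⟩

variable (S : Big z Q N x) (f : Frame z Q x) (R : Reps S f)

/-- the type of a class -/
noncomputable def tc {S : Big z Q N x} {f : Frame z Q x} (R : Reps S f) (c : ℕ) : Bool :=
  bif Nat.blt c 2 then true else bif Nat.beq c 2 then false else tz (phiH R (clsRep c).1 (clsRep c).2)

theorem outP_wd (f : Frame z Q x) : ∀ w : List ℕ, (∀ s ∈ w, s < 5) →
    outP (wd w) = (w.countP (Nat.beq 4) % 2 == 1)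
  | [], _ => by simp [wd, outP_one]
  | s :: w, hw => by
    have hs := hw s List.mem_cons_self
    have hm : wd [s] ∈ Gam := wd_memG _
    have e : wd (s :: w) = wd [s] * wd w := wd_append [s] w
    have hc : cols (wd [s]) = Chk.gn s := by
      have hfin : ((Fin.ofNat 5 s : Fin 5) : ℕ) = s := by simp [Nat.mod_eq_of_lt hs]
      rw [show wd [s] = gP (Fin.ofNat 5 s) by simp [wd], (gP_spec _).2.1, hfin]
    have key : ∀ s < 5, Chk.linL (Chk.gn s) = !Nat.beq 4 s := by decide +kernel
    have ho : outP (wd [s]) = Nat.beq 4 s := by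
      have h := linL_iff hm
      rw [hc, key s hs] at h
      cases e4 : Nat.beq 4 s <;> rw [e4] at h
      · exact outP_false.2 (h.1 rfl)
      · exact outP_true.2 fun hK => Bool.false_ne_true (h.2 hK)
    rw [e, outP_map hm (wd_memG w) f, ho, outP_wd f w fun t ht => hw t (List.mem_cons_of_mem _ ht), List.countP_cons]
    cases Nat.beq 4 s
    · simp
    · simp only [if_true, Bool.true_bne]
      rcases Nat.mod_two_eq_zero_or_one (w.countP (Nat.beq 4)) with h | h <;> rw [h] <;>
        simp [Nat.add_mod, h]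

include S f

/-- elements of the extraspecial subgroup -/
theorem Big.tz_Q {n : ℕ} (hn : n ∈ codesK 3) : tz (phiH R 3 n) = tc R (qCls n) := by
  have hlt : n < 8192 := List.mem_range.1 (List.mem_filter.1 hn).1
  obtain ⟨h2, h1⟩ := (S.mem_codes f R (by norm_num) hlt).1 hn
  set a := cvV n
  have hco : (phiH R 3 n : G) = sec f a * zp z (ce n) := by
    rw [phiH, R.three, S.elC_one f]; rfl
  obtain ⟨hs, hv, -⟩ := S.sec_spec f a
  have hQ : (phiH R 3 n : G) ∈ Q := hco ▸ mul_mem hs (S.zp_mem _)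
  have hvec : f.vec (phiH R 3 n : G) = a := by
    rw [hco, f.vec_mul _ hs _ (S.zp_mem _), f.vec_zp S, add_zero, hv]
  have hsq : (phiH R 3 n : G) * phiH R 3 n = 1 := congrArg Subtype.val h2
  have hne : (phiH R 3 n : G) ≠ 1 := fun e => h1 (Subtype.ext e)
  by_cases h0 : cv n = 0
  · have ha : a = 0 := code_inj (by rw [code_cvV hlt, h0, code_zero])
    have : (phiH R 3 n : G) = z := by
      cases e : ce n
      · exact absurd (by rw [hco, ha, S.sec_zero f, e, zp_false, one_mul]) hne
      · rw [hco, ha, S.sec_zero f, e, zp_true, one_mul]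
    rw [show tc R (qCls n) = true by rw [qCls, h0]; rfl]
    exact tz_true.2 (by rw [this])
  have hz : (phiH R 3 n : G) ≠ z := fun e => h0 (by
    rw [← code_cvV hlt, show cvV n = a from rfl, ← hvec, e, f.vec_z S.base, code_zero])
  have hcls := S.Q_class f hQ hsq hne hz
  rw [hvec, PA, code_cvV hlt] at hcls
  rw [qCls, show Nat.beq (cv n) 0 = false from Bool.eq_false_iff.2 fun e => h0 (Nat.eq_of_beq_eq_true e), cond_false]
  cases e : Chk.isA (cv n) <;> rw [e] at hcls
  · refine Bool.eq_false_iff.2 fun ht => ?_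
    exact (hcls.2 (by simp)).2 (tz_true.1 ht)
  · refine tz_true.2 ?_
    by_contra hn'
    exact (hcls.1 ⟨hne, hn'⟩) rfl

theorem Big.tz_trans {k n v : ℕ} (hk : k < 3) (hn : n < 8192) (hv : v < 4096) :
    tz (phiH R k (OChk4.trans k v n)) = tz (phiH R k n) := by
  rw [← S.phi_trans f R hk hn hv, tz_conj]

theorem Big.word_fix : ∀ w : List ℕ, (∀ s ∈ w, s < 3) → ∃ g, NXs x g ∧ Commute (f.π g) (f.π (R.n 0)) ∧
    ∀ a : V6, code (f.π g a) = w.foldr (fun s y => Chk.app (gX 0 s) y) (code a)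
  | [], _ => ⟨1, NXs.one, by rw [map_one]; exact Commute.one_left _, fun a => by rw [map_one]; rfl⟩
  | s :: w, hw => by
    obtain ⟨g, hg, hgc, hga⟩ := Big.word_fix w fun t ht => hw t (List.mem_cons_of_mem _ ht)
    obtain ⟨hc, hR, -⟩ := gx_facts (k := 0) (by norm_num) (hw s List.mem_cons_self)
    obtain ⟨l, hl, hlπ⟩ := S.lift_NX f (wd_memG (gXw 0 s))
    have hlA := Gam_addP (f.pi_mem l)
    have hlc : cols (f.π l) = gX 0 s := hlπ ▸ hc
    have hnA := Gam_addP (f.pi_mem (R.n 0))
    refine ⟨l * g, hl.mul hg, ?_, fun a => ?_⟩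
    · rw [map_mul]
      refine Commute.mul_left (eq_of_cols (hlA.mul hnA) (hnA.mul hlA) ?_) hgc
      rw [cols_mul hlA, cols_mul hnA, hlc, R.cols 0 (by norm_num)]
      exact hR (by norm_num)
    · rw [map_mul, Equiv.Perm.mul_apply, app_cols hlA, hlc, hga]
      rfl

/-- the class of a member determines the type -/
theorem Big.tz_member {k : ℕ} (hk : k < 3) {m : ℕ × ℕ × ℕ} (hm : m ∈ ODt.mems.getD k []) :
    m.1 < 8192 ∧ tz (phiH R k m.1) = tc R (memC k m) := by
  have hmem := mem_ok hk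
  simp only [OChk4.memOK, Bool.and_eq_true, leq_iff, List.all_eq_true] at hmem
  obtain ⟨hlist, hall⟩ := hmem
  obtain ⟨⟨hj, hv⟩, htr⟩ := hall m hm
  have hjU : m.2.1 < (ODt.urep.getD k []).length := Nat.le_of_ble_eq_true hj
  have hc := class_ok
  simp only [classAt, List.all_eq_true, List.mem_range, Bool.and_eq_true] at hc
  obtain ⟨⟨⟨⟨hu, h3⟩, h9⟩, hk'⟩, hcode⟩ := (hc k hk).1 m.2.1 hjU
  have hm1 : m.1 < 8192 := by
    have : m.1 ∈ (List.range 8192).filter (invAt k) := hlist ▸ List.mem_map_of_mem hm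
    exact List.mem_range.1 (List.mem_filter.1 this).1
  refine ⟨hm1, ?_⟩
  set u := (ODt.urep.getD k []).getD m.2.1 (0, 0) with hu'
  have hu1 : u.1 < 8192 := Nat.le_of_ble_eq_true hu
  rw [← Nat.eq_of_beq_eq_true htr, S.tz_trans f R hk hu1 (Nat.le_of_ble_eq_true hv)]
  have hc3 : 3 ≤ u.2 := Nat.le_of_ble_eq_true h3
  rw [show tc R (memC k m) = tz (phiH R (clsRep u.2).1 (clsRep u.2).2) by
    rw [tc, show memC k m = u.2 from rfl, show Nat.blt u.2 2 = false from Bool.eq_false_iff.2 fun e => by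
      have : u.2 < 2 := Nat.le_of_ble_eq_true e
      omega, show Nat.beq u.2 2 = false from Bool.eq_false_iff.2 fun e => by
      have := Nat.eq_of_beq_eq_true e; omega]
    rfl]
  rw [Nat.eq_of_beq_eq_true hk', Nat.eq_of_beq_eq_true hcode]
  have hl := link_ok
  simp only [OChk4.linkOK, List.all_eq_true, List.mem_range, Bool.and_eq_true, Bool.or_eq_true] at hl
  obtain ⟨⟨hlU, -⟩, hl⟩ := hl k hk m.2.1 hjU
  set l := (ODt.linkW.getD k []).getD m.2.1 (0, [])
  set b := (ODt.urep.getD k []).getD l.1 (0, 0)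
  rcases hl with e | ⟨⟨⟨⟨hk0, hw⟩, hfj⟩, -⟩, heq⟩
  · rw [hu', Nat.eq_of_beq_eq_true e]
  obtain rfl : k = 0 := Nat.eq_of_beq_eq_true hk0
  have hb1 : b.1 < 8192 := Nat.le_of_ble_eq_true ((hc 0 hk).1 l.1 (Nat.le_of_ble_eq_true hlU)).1.1.1.1
  obtain ⟨g, hg, hgc, hga⟩ := S.word_fix f R l.2 fun s hs => Nat.le_of_ble_eq_true (hw s hs)
  obtain ⟨s, hs⟩ := S.pair_NX f (R.nx 0 (by norm_num)) ((hg.mul (R.nx 0 (by norm_num))).mul hg.inv)
    (by rw [map_mul, map_mul, map_inv, hgc.eq, mul_inv_cancel_right])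
  have hconj := S.conjN f hg (cvV b.1) (ce b.1) (R.n 0)
  rw [S.elC_flip f _ _ s _ _ hs] at hconj
  have hvec : f.π g (cvV b.1) = cvV u.1 := code_inj (by
    rw [hga, code_cvV hb1, code_cvV hu1]; exact Nat.eq_of_beq_eq_true heq)
  rw [hvec] at hconj
  have hflip : tz (phiH R 0 (u.1 ^^^ 1)) = tz (phiH R 0 u.1) := by
    rw [show u.1 ^^^ 1 = Nat.xor u.1 1 from rfl, ← Nat.eq_of_beq_eq_true hfj.2]
    exact S.tz_trans f R hk hu1 (Nat.le_of_ble_eq_true hfj.1)
  have key : ∀ e, tz (elC S f (cvV u.1) e (R.n 0)) = tz (phiH R 0 u.1) := fun e => by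
    by_cases he : e = ce u.1
    · rw [he]; rfl
    · rw [← hflip]
      simp only [phiH, cvV, (cv_flip _).1, (cv_flip _).2]
      congr 2
      revert he
      cases e <;> cases ce u.1 <;> simp
  calc tz (phiH R 0 u.1) = tz (g * phiH R 0 b.1 * g⁻¹) := by
        rw [show phiH R 0 b.1 = elC S f (cvV b.1) (ce b.1) (R.n 0) from rfl, hconj, key]
    _ = tz (phiH R 0 b.1) := tz_conj _ _

/-- if the representative and its other lift have one type, so have all lifts over it -/
theorem Big.tz_flip {k : ℕ} (hk : k < 3) (h : tz (phiH R k 0) = tz (phiH R k 1)) {n : ℕ} (hn : n ∈ codesK k) :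
    n ^^^ 1 ∈ codesK k ∧ tz (phiH R k (n ^^^ 1)) = tz (phiH R k n) := by
  have hmem := mem_ok hk
  simp only [OChk4.memOK, Bool.and_eq_true, leq_iff, List.all_eq_true] at hmem
  have hb : Nat.beq k 3 = false := Bool.eq_false_iff.2 fun e => by have := Nat.eq_of_beq_eq_true e; omega
  have hcodes : codesK k = (List.range 8192).filter (invAt k) := by
    simp only [codesK, hb, cond_false]
  rw [hcodes, hmem.1] at hn ⊢
  obtain ⟨m, hm, rfl⟩ := List.mem_map.1 hn
  have hc := class_ok
  simp only [classAt, List.all_eq_true, List.mem_range, Bool.and_eq_true, List.any_eq_true] at hc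
  obtain ⟨m', hm', e1, e2⟩ := (hc k hk).2 m hm
  have e1' : m'.1 = m.1 ^^^ 1 := Nat.eq_of_beq_eq_true e1
  refine ⟨List.mem_map.2 ⟨m', hm', e1'⟩, ?_⟩
  rw [← e1', (S.tz_member f R hk hm').2, (S.tz_member f R hk hm).2, Nat.eq_of_beq_eq_true e2]
  obtain ⟨hj, -⟩ := (hmem.2 m hm).1
  obtain ⟨⟨⟨⟨-, h3⟩, h9⟩, hk'⟩, -⟩ := (hc k hk).1 m.2.1 (Nat.le_of_ble_eq_true hj)
  have h3' : 3 ≤ memC k m := Nat.le_of_ble_eq_true h3
  have h9' : memC k m ≤ 9 := Nat.le_of_ble_eq_true h9
  have hk'' : (clsRep (memC k m)).1 = k := Nat.eq_of_beq_eq_true hk'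
  revert h3' h9' hk''
  generalize memC k m = c
  intro h3' h9' hk''
  interval_cases c <;> first | rfl | (cases hk''; first | exact h | exact h.symm)

/-- the lifts over a root, with their types -/
theorem Big.root_fibre {k : ℕ} (hk : k < 4) {e : ℕ × ℕ × ℕ × List ℕ} (he : e ∈ ODt.roots.getD k []) :
    ∃ g nY : Subgroup.centralizer ({z} : Set G), e.2.2.1 < 4 ∧ NXs x g ∧ NXs x nY ∧ nY = g * R.n e.2.2.1 * g⁻¹ ∧
      cols (f.π nY) = elY e.1 ∧ outP (f.π nY) = outR e.2.2.1 ∧
      ((liftsAt e).map fun v => elC S f (SUSix.vecOf v.1) v.2.1 nY).Nodup ∧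
      (∀ v ∈ liftsAt e, v.1 < 4096 ∧ tz (elC S f (SUSix.vecOf v.1) v.2.1 nY) = tc R v.2.2) ∧
      ∀ q : Subgroup.centralizer ({z} : Set G), (f.π q = f.π nY ∧ q * q = 1 ∧ q ≠ 1) ↔
        ∃ v ∈ liftsAt e, elC S f (SUSix.vecOf v.1) v.2.1 nY = q := by
  have hkk : e.2.2.1 < 4 := by
    by_cases h3 : e.2.2.1 = 3
    · omega
    · have := ((root_word hk he).2 h3).1; omega
  -- the conjugating element and the source list
  obtain ⟨g, hg, hcY, src, hsrc, hL, htyp⟩ : ∃ g, NXs x g ∧
      cols (f.π (g * R.n e.2.2.1 * g⁻¹)) = elY e.1 ∧ ∃ src : List (ℕ × ℕ), src.map Prod.fst = codesK e.2.2.1 ∧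
        liftsAt e = (src.map fun m => (code (f.π g (cvV m.1)), xor (ce m.1) (outP (f.π g) && qB (cvV m.1)), m.2)) ∧
        ∀ m ∈ src, tz (phiH R e.2.2.1 m.1) = tc R m.2 := by
    by_cases h3 : e.2.2.1 = 3
    · refine ⟨1, NXs.one, ?_, (codesK 3).map fun n => (n, qCls n), ?_, ?_, ?_⟩
      · rw [h3, R.three, one_mul, inv_one, mul_one, map_one, cols_one]
        exact ((root_word hk he).1 h3).symm
      · rw [h3, List.map_map]; exact List.map_id' _
      · rw [List.map_map, liftsAt, h3, Nat.beq_refl, cond_true,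
          show ((List.range 8192).filter fun n => !Nat.beq n 0 && !qf (cv n)) = codesK 3 from rfl]
        refine List.map_congr_left fun n hn => ?_
        simp only [Function.comp, map_one, Equiv.Perm.one_apply, outP_one, Bool.false_and, Bool.xor_false,
          code_cvV (List.mem_range.1 (List.mem_filter.1 hn).1)]
      · intro m hm
        obtain ⟨n, hn, rfl⟩ := List.mem_map.1 hm
        rw [h3]
        exact S.tz_Q f R hn
    · obtain ⟨hr, hw, heq⟩ := (root_word hk he).2 h3
      obtain ⟨g, hg, hgπ⟩ := S.lift_NX f (wd_memG e.2.2.2)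
      have hb : Nat.beq e.2.2.1 3 = false := Bool.eq_false_iff.2 fun e' => h3 (Nat.eq_of_beq_eq_true e')
      have hmem := mem_ok hr
      simp only [OChk4.memOK, Bool.and_eq_true, leq_iff] at hmem
      have hcodes : codesK e.2.2.1 = (List.range 8192).filter (invAt e.2.2.1) := by
        simp only [codesK, hb, cond_false]
      refine ⟨g, hg, ?_, (ODt.mems.getD e.2.2.1 []).map fun m => (m.1, memC e.2.2.1 m), ?_, ?_, ?_⟩
      · rw [map_mul, map_mul, map_inv, hgπ]
        refine conj_cols (wd_memG _) (f.pi_mem _) (elY_good _) ?_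
        rw [wd_cols _ hw, R.cols _ hkk, cX, hb, cond_false, heq]
      · rw [List.map_map, hcodes, hmem.1]; rfl
      · rw [List.map_map, liftsAt, hb, cond_false]
        refine List.map_congr_left fun m hm => ?_
        have hm1 := (S.tz_member f R hr hm).1
        simp only [Function.comp, hgπ, app_cols (wd_addP e.2.2.2), wd_cols _ hw, outP_wd f _ hw, ← qB_code,
          code_cvV hm1]
      · intro m hm
        obtain ⟨m0, hm0, rfl⟩ := List.mem_map.1 hm
        exact (S.tz_member f R hr hm0).2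
  set k' := e.2.2.1
  set nY := g * R.n k' * g⁻¹ with hnY
  have hphi : ∀ n, elC S f (f.π g (cvV n)) (xor (ce n) (outP (f.π g) && qB (cvV n))) nY = g * phiH R k' n * g⁻¹ :=
    fun n => (S.conjN f hg (cvV n) (ce n) (R.n k')).symm
  have hlt : ∀ m ∈ src, m.1 ∈ codesK k' ∧ m.1 < 8192 := fun m hm => by
    have : m.1 ∈ codesK k' := hsrc ▸ List.mem_map_of_mem hm
    exact ⟨this, List.mem_range.1 (List.mem_filter.1 this).1⟩
  have hmap : ((liftsAt e).map fun v => elC S f (SUSix.vecOf v.1) v.2.1 nY) =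
      (codesK k').map fun n => g * phiH R k' n * g⁻¹ := by
    rw [hL, List.map_map, ← hsrc, List.map_map]
    refine List.map_congr_left fun m _ => ?_
    simp only [Function.comp, vecOf_code, hphi]
  refine ⟨g, nY, hkk, hg, (hg.mul (R.nx k' hkk)).mul hg.inv, hnY, hcY, ?_, ?_, ?_, fun q => ?_⟩
  · rw [hnY, outP_mul f, outP_mul f, S.rep_out f R hkk]
    have h1 : outP (f.π (g * g⁻¹)) = false := by rw [mul_inv_cancel, map_one, outP_one]
    rw [outP_mul f] at h1
    revert h1
    cases outP (f.π g) <;> cases outP (f.π g⁻¹) <;> cases outR k' <;> simp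
  · rw [hmap]
    refine List.Nodup.map_on (fun a ha b hb' h => ?_) (List.nodup_range.filter _)
    exact S.phi_inj f R (List.mem_range.1 (List.mem_filter.1 ha).1) (List.mem_range.1 (List.mem_filter.1 hb').1)
      (mul_left_cancel (mul_right_cancel h))
  · intro v hv
    rw [hL] at hv
    obtain ⟨m, hm, rfl⟩ := List.mem_map.1 hv
    refine ⟨code_lt _, ?_⟩
    rw [vecOf_code, hphi, tz_conj]
    exact htyp m hm
  · have hex : (∃ v ∈ liftsAt e, elC S f (SUSix.vecOf v.1) v.2.1 nY = q) ↔
        ∃ n ∈ codesK k', g * phiH R k' n * g⁻¹ = q := by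
      rw [← List.mem_map, hmap, List.mem_map]
    rw [hex]
    constructor
    · rintro ⟨h1, h2, h3⟩
      obtain ⟨n, hn, hq⟩ := S.phi_surj f R (q := g⁻¹ * q * g) (k := k') (by
        rw [map_mul, map_mul, h1, hnY, map_mul, map_mul, map_inv]; group)
      have hq' : g * phiH R k' n * g⁻¹ = q := by rw [← hq]; group
      refine ⟨n, (S.mem_codes f R hkk hn).2 ⟨?_, ?_⟩, hq'⟩
      · rw [← hq]
        calc g⁻¹ * q * g * (g⁻¹ * q * g) = g⁻¹ * (q * q) * g := by group
          _ = 1 := by rw [h2, mul_one, inv_mul_cancel]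
      · intro h
        rw [h, mul_one, mul_inv_cancel] at hq'
        exact h3 hq'.symm
    · rintro ⟨n, hn, rfl⟩
      obtain ⟨h2, h3⟩ := (S.mem_codes f R hkk (List.mem_range.1 (List.mem_filter.1 hn).1)).1 hn
      refine ⟨?_, by rw [conj_mul, h2, mul_one, mul_inv_cancel], fun h => h3 (conj_eq_one_iff.1 h)⟩
      rw [map_mul, map_mul, phiH, S.pi_elC f, hnY, map_mul, map_mul]

end Cfsg.Agent.Spor.JFour
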