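import Cfsg.Agent.Lib.Spor.JFourData

/-!
Janko four type: the quadratic form as a table, and scalar multiples of the units.
-/

set_option autoImplicit false

namespace Cfsg.Agent.Spor.JFour.ODt

/-- values of the form -/
def qM : ℕ := 0x111e111e111eeee1111e111e111eeee1111e111e111eeee1eee1eee1eee1111e111e111e111eeee1111e111e111eeee1111e111e111eeee1eee1eee1eee1111e111e111e111eeee1111e111e111eeee1111e111e111eeee1eee1eee1eee1111eeee1eee1eee1111eeee1eee1eee1111eeee1eee1eee1111e111e111e111eeee1111e111e111eeee1111e111e111eeee1111e111e111eeee1eee1eee1eee1111e111e111e111eeee1111e111e111eeee1111e111e111eeee1eee1eee1eee1111e111e111e111eeee1111e111e111eeee1111e111e111eeee1eee1eee1eee1111eeee1eee1eee1111eeee1eee1eee1111eeee1eee1eee1111e111e111e111eeee1111e111e111eeee1111e111e111eeee1111e111e111eeee1eee1eee1eee1111e111e111e111eeee1111e111e111eeee1111e111e111eeee1eee1eee1eee1111e111e111e111eeee1111e111e111eeee1111e111e111eeee1eee1eee1eee1111eeee1eee1eee1111eeee1eee1eee1111eeee1eee1eee1111e111e111e111eeee1eee1eee1eee1111eeee1eee1eee1111eeee1eee1eee1111e111e111e111eeee1eee1eee1eee1111eeee1eee1eee1111eeee1eee1eee1111e111e111e111eeee1eee1eee1eee1111eeee1eee1eee1111eeee1eee1eee1111e111e111e111eeee1111e111e111eeee1111e111e111eeee1111e111e111eeee1eee1eee1eee1111e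

/-- images of the units under the scalar -/
def wL : List ℕ := [2, 3, 8, 12, 32, 48, 128, 192, 512, 768, 2048, 3072]

end Cfsg.Agent.Spor.JFour.ODt
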