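import Cfsg.Agent.Lib.Spor.JFourThompDefs
import Cfsg.Agent.Lib.Spor.JFourInvolChecks
import Cfsg.Agent.Lib.Spor.JFourOrder.HConst
import Cfsg.Agent.Lib.Spor.JFourOrder.HList
import Cfsg.Agent.Lib.Spor.JFourOrder.HTrees
import Cfsg.Agent.Lib.Spor.JFourOrder.HClassData

/-!
Janko four type: checkers for the census of pairs of involutions in the centraliser.
-/

set_option autoImplicit false
set_option maxRecDepth 100000

namespace Cfsg.Agent.Spor.JFour.OChk4

open Cfsg.Agent.Spor.JFour.Chk Cfsg.Agent.Spor.CC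

/-- a matrix from its packed form -/
def unp (m : ℕ) : List ℕ :=
  [fld m 12 0, fld m 12 1, fld m 12 2, fld m 12 3, fld m 12 4, fld m 12 5,
    fld m 12 6, fld m 12 7, fld m 12 8, fld m 12 9, fld m 12 10, fld m 12 11]

/-- packed member of the list -/
def pkY (i : ℕ) : ℕ := fld (ODt.invB.getD (Nat.div i 64) 0) 144 (Nat.mod i 64)

/-- member of the list -/
def elY (i : ℕ) : List ℕ := unp (pkY i)

/-- table of neighbours -/
def nbT (s : ℕ) : List ℕ := [ODt.nb0, ODt.nb1, ODt.nb2, ODt.nb3, ODt.nb4].getD s []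

/-- neighbour -/
def nbY (s i : ℕ) : ℕ := fld ((nbT s).getD (Nat.div i 64) 0) 13 (Nat.mod i 64)

/-- forest entry -/
def trE (k i : ℕ) : ℕ :=
  fld (([ODt.tree0, ODt.tree1, ODt.tree2, ODt.tree3].getD k []).getD (Nat.div i 64) 0) 32 (Nat.mod i 64)

/-- root -/
def rootY (k i : ℕ) : ℕ := fld (trE k i) 13 0

/-- parent -/
def parY (k i : ℕ) : ℕ := fld (trE k i) 13 1

/-- generator -/
def genY (k i : ℕ) : ℕ := fld (Nat.shiftRight (trE k i) 26) 2 0

/-- depth -/
def depY (k i : ℕ) : ℕ := Nat.shiftRight (trE k i) 28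

/-- the stabiliser generators -/
def gX (k g : ℕ) : List ℕ := (ODt.gxC.getD k []).getD g []

/-- the word of a stabiliser generator -/
def gXw (k g : ℕ) : List ℕ := (ODt.gxW.getD k []).getD g []

/-- the list is increasing and closed under the five maps -/
def listAt (i : ℕ) : Bool :=
  (Nat.beq i 0 || Nat.blt (pkY (Nat.sub i 1)) (pkY i)) &&
    (List.range 5).all fun s => Nat.blt (nbY s i) 6304 && leq (cmul (gn s) (elY i)) (cmul (elY (nbY s i)) (gn s))

/-- special members -/
def fixOK : Bool :=
  (List.range 3).all (fun k => Nat.blt (ODt.fix0.getD k 0) 6304 && leq (elY (ODt.fix0.getD k 0)) (cR k)) &&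
    Nat.blt (ODt.fix0.getD 3 0) 6304 && leq (elY (ODt.fix0.getD 3 0)) idL

/-- the fixed element or vector -/
def gxOK : Bool :=
  (List.range 4).all fun k => (List.range 3).all fun g =>
    (gXw k g).all (Nat.blt · 5) && leq (evC (gXw k g)) (gX k g) &&
      (bif Nat.beq k 3 then Nat.beq (app (gX k g) kA) kA else leq (cmul (gX k g) (cR k)) (cmul (cR k) (gX k g)))

/-- an edge of a forest -/
def treeAt (k i : ℕ) : Bool :=
  bif Nat.beq (depY k i) 0 then Nat.beq (rootY k i) i
  else Nat.blt (parY k i) 6304 && Nat.blt (depY k (parY k i)) (depY k i) && Nat.beq (rootY k (parY k i)) (rootY k i) &&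
    Nat.blt (genY k i) 3 && leq (cmul (gX k (genY k i)) (elY (parY k i))) (cmul (elY i) (gX k (genY k i)))

/-- the roots with sizes -/
def rootsAt (k : ℕ) : Bool :=
  let L := ODt.roots.getD k []
  let R := (List.range 6304).map (rootY k)
  (decide (L.map Prod.fst).Nodup) &&
    L.all (fun e => Nat.blt e.1 6304 && Nat.beq (R.countP (Nat.beq e.1)) e.2.1) &&
    Nat.beq (L.map fun e => e.2.1).sum 6304

/-- the word of a root carries its representative to it -/
def rootWordAt (k : ℕ) : Bool :=
  (ODt.roots.getD k []).all fun e =>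
    bif Nat.beq e.2.2.1 3 then leq (elY e.1) idL
    else Nat.blt e.2.2.1 3 && e.2.2.2.all (Nat.blt · 5) &&
      leq (cmul (evC e.2.2.2) (cR e.2.2.1)) (cmul (elY e.1) (evC e.2.2.2))

/-- value of the form -/
def qf (k : ℕ) : Bool := tb ODt.qM k

/-- scalar multiple -/
def wf (k : ℕ) : ℕ := app ODt.wL k

/-- commutator form -/
def bf (u v : ℕ) : Bool := qf (Nat.xor u v) ^^ qf u ^^ qf v

/-- cocycle -/
def bKf (u v : ℕ) : Bool :=
  let a := wf u
  let b := wf a
  xor (bf a v) (xor (bf b v) (bf b (wf v)))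

/-- the tables are right -/
def tabOK : Bool :=
  leq ODt.wL cW && (List.range 4096).all fun k => qf k == qb k

/-- parity of the representative -/
def outR (k : ℕ) : Bool := !(Nat.beq k 0) && !(Nat.beq k 3)

/-- vector of a code of a lift -/
def cv (n : ℕ) : ℕ := Nat.shiftRight n 1

/-- label of a code of a lift -/
def ce (n : ℕ) : Bool := Nat.beq (Nat.land n 1) 1

/-- a lift which is an involution -/
def invAt (k n : ℕ) : Bool :=
  Nat.beq (app (cR k) (cv n)) (cv n) && (outR k || !qf (cv n))

/-- translate of a lift -/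
def trans (k v n : ℕ) : ℕ :=
  let a := cv n
  let av := Nat.xor v a
  let s := xor (xor (ce n) (xor (bKf v a) (bKf av (app (cR k) v)))) (bif outR k then false else qf v)
  Nat.add (Nat.mul 2 (Nat.xor av (app (cR k) v))) (bif s then 1 else 0)

/-- the members list everything -/
def memOK (k : ℕ) : Bool :=
  let M := ODt.mems.getD k []
  let U := ODt.urep.getD k []
  leq ((List.range 8192).filter (invAt k)) (M.map Prod.fst) &&
    M.all fun m => Nat.blt m.2.1 U.length && Nat.blt m.2.2 4096 &&
      Nat.beq (trans k m.2.2 (U.getD m.2.1 (0, 0)).1) m.1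

/-- class of a member -/
def memC (k : ℕ) (m : ℕ × ℕ × ℕ) : ℕ := ((ODt.urep.getD k []).getD m.2.1 (0, 0)).2

/-- representatives of one class are joined -/
def linkOK : Bool :=
  (List.range 3).all fun k =>
    let U := ODt.urep.getD k []
    (List.range U.length).all fun j =>
      let l := (ODt.linkW.getD k []).getD j (0, [])
      let u := U.getD j (0, 0)
      let b := U.getD l.1 (0, 0)
      let fl := fun i => let v := (ODt.flipV.getD k []).getD i 0
        Nat.blt v 4096 && Nat.beq (trans k v (U.getD i (0, 0)).1) (Nat.xor (U.getD i (0, 0)).1 1)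
      Nat.blt l.1 U.length && Nat.beq u.2 b.2 &&
        (Nat.beq j l.1 ||
          (Nat.beq k 0 && l.2.all (Nat.blt · 3) && fl j && fl l.1 &&
            Nat.beq (l.2.foldr (fun g y => app (gX 0 g) y) (cv b.1)) (cv u.1)))

/-- class of an element of the extraspecial subgroup -/
def qCls (n : ℕ) : ℕ :=
  bif Nat.beq (cv n) 0 then 0 else bif isA (cv n) then 1 else 2

/-- lifts over a root, with classes -/
def liftsAt (e : ℕ × ℕ × ℕ × List ℕ) : List (ℕ × Bool × ℕ) :=
  bif Nat.beq e.2.2.1 3 then
    ((List.range 8192).filter fun n => !Nat.beq n 0 && !qf (cv n)).map fun n => (cv n, ce n, qCls n)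
  else
    let g := evC e.2.2.2
    let p := (e.2.2.2.countP (Nat.beq 4)) % 2 == 1
    (ODt.mems.getD e.2.2.1 []).map fun m => (app g (cv m.1), xor (ce m.1) (p && qf (cv m.1)), memC e.2.2.1 m)

/-- representatives of the first entry of the pairs -/
def uRep (k : ℕ) : List (ℕ × ℕ) := bif Nat.beq k 3 then [(Nat.mul 2 kA, 1)] else ODt.urep.getD k []

/-- the first entry -/
def cX (k : ℕ) : List ℕ := bif Nat.beq k 3 then idL else cR k

/-- order of the product, given as a candidate -/
def ordOK (p : List ℕ) : ℕ → ℕ → List ℕ → Bool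
  | 0, _, q => leq q idL
  | n + 1, i, q => (Nat.beq i 0 || !leq q idL) && ordOK p n (Nat.succ i) (cmul p q)

/-- norm map -/
def normC (p : List ℕ) : ℕ → List ℕ
  | 0 => List.replicate 12 0
  | n + 1 => List.zipWith Nat.xor idL (cmul p (normC p n))

/-- label of a power -/
def powS (p : List ℕ) (og : Bool) : ℕ → ℕ → Bool → ℕ → Bool → Bool
  | 0, _, S, _, _ => S
  | n + 1, C, S, cc, ss =>
    let ss' := xor ss (og && qf cc)
    let cc' := app p cc
    powS p og n (Nat.xor C cc') (xor S (xor ss' (bKf C cc'))) cc' ss'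

/-- the pair generates the central involution -/
def hit (k n : ℕ) (p Np : List ℕ) (og : Bool) (u : ℕ) (v : ℕ × Bool × ℕ) : Bool :=
  let a := cv u
  let xb := app (cX k) v.1
  let c := Nat.xor a xb
  let C := app Np c
  bif qf C then true
  else bif Nat.beq C 0 then
    let s := xor (bKf a xb) (xor (ce u) (xor v.2.1 (outR k && qf v.1)))
    powS p og (Nat.sub n 1) c s c s
  else false

/-- packed counts by classes -/
def packH (k n : ℕ) (p Np : List ℕ) (og : Bool) (u : ℕ) (L : List (ℕ × Bool × ℕ)) : ℕ :=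
  L.foldl (fun acc v => bif Nat.blt 1 v.2.2 && hit k n p Np og u v then Nat.add acc (Nat.pow 2 (Nat.mul 24 v.2.2))
    else acc) 0

/-- product of the two -/
def prodAt (k : ℕ) (e : ℕ × ℕ × ℕ × List ℕ) : List ℕ := cmul (cX k) (elY e.1)

/-- table of one root: the order and the packed counts for the representatives -/
def rootTab (k : ℕ) (e : ℕ × ℕ × ℕ × List ℕ) (d : ℕ × List ℕ) : Bool :=
  let p := prodAt k e
  let Np := normC p d.1
  let og := outR k ^^ outR e.2.2.1
  let L := liftsAt e
  Nat.blt 0 d.1 && ordOK p d.1 0 idL && leq ((uRep k).map fun u => packH k d.1 p Np og u.1 L) d.2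

end Cfsg.Agent.Spor.JFour.OChk4
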