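import Cfsg.Agent.Lib.Spor.JFourOrder.HLift

/-!
Janko four type: involutions normalising the group of order three over the three representatives of the classes of
involutions of the quotient.
-/

set_option autoImplicit false
set_option maxRecDepth 100000
set_option linter.unusedSectionVars false

namespace Cfsg.Agent.Spor.JFour

open Cfsg.Agent.Spor.SUSix (V6 code code_lt vecOf_code)

attribute [local irreducible] Gam Kp Chk.app

theorem covR_sq (r : ℕ) (hr : r < 3) : Chk.cmul (Chk.cR r) (Chk.cR r) = Chk.idL := by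
  revert r
  decide +kernel

theorem covR_lin (r : ℕ) (hr : r < 3) : Chk.linL (Chk.cR r) = Nat.beq r 0 := by
  revert r
  decide +kernel

universe u

variable {G : Type u} [Group G] [Finite G] {z : G} {Q N : Subgroup G} {x : G}
variable (S : Big z Q N x) (f : Frame z Q x)

theorem linL_iff {p : PV} (hp : p ∈ Gam) : Chk.linL (cols p) = true ↔ p ∈ Kp := by
  rw [Chk.linL, leq_iff, ← comm_gW_iff hp]
  have hW : AddP gW := (gP_spec 3).1
  rw [show Chk.cW = cols gW from (gP_spec 3).2.1.symm, ← cols_mul (Gam_addP hp), ← cols_mul hW]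
  exact ⟨fun h => eq_of_cols ((Gam_addP hp).mul hW) (hW.mul (Gam_addP hp)) h, fun h => by rw [h.eq]⟩

include S f

/-- a lift of a representative is an involution -/
theorem Big.rep_lift (r : ℕ) (hr : r < 3) : ∃ n : Subgroup.centralizer ({z} : Set G),
    NXs x n ∧ cols (f.π n) = Chk.cR r ∧ n * n = 1 := by
  obtain ⟨p, hp, hc⟩ := covRep_elem r hr
  have hpG : p ∈ Gam := hp.1.1
  have hpA : AddP p := Gam_addP hpG
  obtain ⟨n, hn, hπ⟩ := S.lift_NX f hpG
  refine ⟨n, hn, by rw [hπ, hc], ?_⟩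
  have hpp : p * p = 1 :=
    eq_of_cols (hpA.mul hpA) AddP.one (by rw [cols_mul hpA, hc, covR_sq r hr, cols_one])
  by_cases h0 : r = 0
  · have hK : p ∈ Kp := (linL_iff hpG).1 (by rw [hc, covR_lin r hr, h0]; rfl)
    exact S.lift_sq f ((S.NX_comm f hn).1 (hπ ▸ hK)) (by rw [hπ, hpp])
  have hchk : Chk.covOuter r = true := by
    rcases (show r = 1 ∨ r = 2 by omega) with e | e <;> rw [e]
    exacts [Chk.covOuter_one, Chk.covOuter_two]
  obtain ⟨s, hs⟩ := S.ker_NX f (hn.mul hn) (by rw [map_mul, hπ, hpp])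
  obtain ⟨g, hgQ, hne, hv⟩ := S.exists_va f
  obtain ⟨hR, -⟩ := S.core f hgQ hne hv
  obtain ⟨d, hdE, hdπ⟩ : p ∈ f.R g := hR ▸ hp
  have hd : (d : G) ∈ Qc Q g := mem_EC.1 hdE
  have hnz : Commute (n : G) z := Subgroup.mem_centralizer_singleton_iff.1 n.2
  set q0 := ((d * n : Subgroup.centralizer ({z} : Set G)) : G) with hq0
  have hq0Q : q0 ∈ Q := (f.ker _).1 (by rw [map_mul, hdπ, hπ, hpp])
  have hcq : (n : G)⁻¹ * q0 * (n : G) ∈ Q := by
    simpa using S.base.ord.normQ _ hnz.inv_left _ hq0Q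
  have hnn : (n : G) * n = zp z s := hs
  have hdd : (d : G) * d = q0 * ((n : G)⁻¹ * q0 * n) * zp z s := by
    rw [hq0, Subgroup.coe_mul, ← S.zp_inv s, ← hnn]
    group
  have hnear : Chk.near (Chk.app (Chk.cR r) (code (f.vec q0))) (code (f.vec q0)) = true := by
    have hcv : f.vec ((n : G)⁻¹ * q0 * n) = p (f.vec q0) := by
      have h := f.vec_conj n⁻¹ q0 hq0Q
      rw [Subgroup.coe_inv, inv_inv, map_inv, hπ, inv_eq_of_mul_eq_one_right hpp] at h
      exact h
    have e1 : Nat.xor (Chk.app (Chk.cR r) (code (f.vec q0))) (code (f.vec q0)) = code (f.vec ((d : G) * d)) := by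
      rw [hdd, f.vec_mul _ (mul_mem hq0Q hcq) _ (S.zp_mem s), f.vec_zp S, add_zero, f.vec_mul _ hq0Q _ hcq, hcv,
        code_add, app_cols hpA, hc, Nat.xor_comm]
      rfl
    rw [Chk.near, e1]
    rcases (S.xtc g).sq_mem hd with e | e <;> rw [e]
    · rw [f.vec_one S.base, code_zero]; rfl
    · rw [hv, code_va, Nat.beq_refl, Bool.or_true]
  have hspan : code (f.vec q0) ∈ Chk.covSpan (cols p) := by
    simp only [Chk.covOuter, List.all_eq_true, List.mem_range, Bool.or_eq_true, Bool.not_eq_true',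
      List.any_eq_true] at hchk
    obtain ⟨k, hk, e⟩ := (hchk (code (f.vec q0)) (code_lt _)).resolve_left (by simp [hnear])
    rw [hc, Nat.eq_of_beq_eq_true e]
    exact hk
  obtain ⟨w, l, hl, e⟩ := span_decomp hpA hspan
  obtain ⟨h, -, hne', -, hmem⟩ := S.qc_move f hgQ hne hv hd (inv_mem hq0Q) hl (w := w) (by
    rw [f.vec_inv S.base hq0Q, e, hdπ])
  rw [hq0, Subgroup.coe_mul, mul_inv_rev, mul_assoc, inv_mul_cancel, mul_one] at hmem
  have hn' : (n : G) ∈ Qc Q h := inv_mem_iff.1 hmem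
  refine Subtype.ext ?_
  show (n : G) * n = 1
  rcases (S.xtc h).sq_mem hn' with e' | e'
  · exact e'
  · exfalso
    rw [hnn] at e'
    cases s
    · exact (S.xtc h).ne e'.symm
    · exact hne' e'.symm

end Cfsg.Agent.Spor.JFour
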