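import Cfsg.Agent.Lib.Spor.JFourOrder.HChkAll
import Cfsg.Agent.Lib.Spor.JFourOrder.HOuter

/-!
Janko four type: the list of involutions of the quotient, its roots and their orbits.
-/

set_option autoImplicit false
set_option maxRecDepth 100000
set_option linter.unusedSectionVars false

namespace Cfsg.Agent.Spor.JFour

open Cfsg.Agent.Spor.SUSix (V6 code code_lt vecOf_code)
open Cfsg.Agent.Spor.CC
open OChk4

attribute [local irreducible] Gam Kp Chk.app

theorem fld_lt' (v w i : ℕ) : fld v w i < 2 ^ w := by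
  have h : 1 ≤ 2 ^ w := Nat.one_le_two_pow
  exact lt_of_le_of_lt Nat.and_le_right (by show 2 ^ w - 1 < 2 ^ w; omega)

theorem unp_inj {a b : ℕ} (ha : a < 2 ^ 144) (hb : b < 2 ^ 144) (h : unp a = unp b) : a = b := by
  simp only [unp, List.cons.injEq, and_true] at h
  obtain ⟨h0, h1, h2, h3, h4, h5, h6, h7, h8, h9, h10, h11⟩ := h
  have e : ∀ (v i : ℕ), fld v 12 i = v / 2 ^ (12 * i) % 2 ^ 12 := fun v i => by
    show Nat.land (Nat.shiftRight v (12 * i)) (2 ^ 12 - 1) = _
    rw [show Nat.shiftRight v (12 * i) = v >>> (12 * i) from rfl, Nat.shiftRight_eq_div_pow]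
    exact Nat.and_two_pow_sub_one_eq_mod _ 12
  have step : ∀ (i : ℕ), fld a 12 i = fld b 12 i → a / 2 ^ (12 * (i + 1)) = b / 2 ^ (12 * (i + 1)) →
      a / 2 ^ (12 * i) = b / 2 ^ (12 * i) := fun i hf hd => by
    rw [e, e] at hf
    rw [Nat.mul_succ, pow_add, ← Nat.div_div_eq_div_mul, ← Nat.div_div_eq_div_mul] at hd
    rw [← Nat.div_add_mod (a / 2 ^ (12 * i)) (2 ^ 12), hd, hf, Nat.div_add_mod]
  have hz : a / 2 ^ (12 * 12) = b / 2 ^ (12 * 12) := by
    rw [Nat.div_eq_of_lt ha, Nat.div_eq_of_lt hb]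
  have := step 0 h0 (step 1 h1 (step 2 h2 (step 3 h3 (step 4 h4 (step 5 h5 (step 6 h6 (step 7 h7 (step 8 h8
    (step 9 h9 (step 10 h10 (step 11 h11 hz)))))))))))
  simpa using this

theorem pkY_lt (i : ℕ) : pkY i < 2 ^ 144 := fld_lt' _ _ _

theorem elY_good (i : ℕ) : (elY i).length = 12 ∧ ∀ c ∈ elY i, c < 4096 := by
  refine ⟨rfl, fun c hc => ?_⟩
  simp only [elY, unp, List.mem_cons, List.not_mem_nil, or_false] at hc
  rcases hc with rfl | rfl | rfl | rfl | rfl | rfl | rfl | rfl | rfl | rfl | rfl | rfl <;>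
    exact fld_lt' _ 12 _

theorem list_mono {i j : ℕ} (hij : i < j) (hj : j < 6304) : pkY i < pkY j := by
  induction j with
  | zero => omega
  | succ j ih =>
    have h := list_ok hj
    simp only [listAt, Bool.and_eq_true, Bool.or_eq_true] at h
    have h' : pkY j < pkY (j + 1) := by
      rcases h.1 with e | e
      · exact absurd (Nat.eq_of_beq_eq_true e) (Nat.succ_ne_zero j)
      · exact Nat.le_of_ble_eq_true e
    rcases Nat.lt_succ_iff_lt_or_eq.1 hij with e | rfl
    · exact lt_trans (ih e (by omega)) h'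
    · exact h'

theorem elY_inj {i j : ℕ} (hi : i < 6304) (hj : j < 6304) (h : elY i = elY j) : i = j := by
  have e := unp_inj (pkY_lt i) (pkY_lt j) h
  rcases lt_trichotomy i j with h' | h' | h'
  · exact absurd e (list_mono h' hj).ne
  · exact h'
  · exact absurd e (list_mono h' hi).ne'

/-- equal lists from equal maps -/
theorem eq_of_app {L M : List ℕ} (hL : L.length = 12) (hM : M.length = 12) (hLl : ∀ c ∈ L, c < 4096)
    (hMl : ∀ c ∈ M, c < 4096) (h : ∀ v : V6, Chk.app L (code v) = Chk.app M (code v)) : L = M := by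
  have hu : ∀ (N : List ℕ) (i : ℕ), N.length = 12 → i < 12 → Chk.app N (2 ^ i) = N.getD i 0 := by
    intro N i hN hi
    match N, hN with
    | [a, b, c, d, e, f, g, h', k, l, m, n], _ =>
      interval_cases i <;> with_unfolding_all exact Nat.zero_xor _
  refine List.ext_getElem (hL.trans hM.symm) fun i h1 h2 => ?_
  have hi : i < 12 := hL ▸ h1
  have h2' : 2 ^ i < 4096 := lt_of_lt_of_le (Nat.pow_lt_pow_right (by norm_num) hi) (by norm_num)
  have := h (SUSix.vecOf (2 ^ i))
  rw [code_vecOf _ h2', hu L i hL hi, hu M i hM hi, List.getD_eq_getElem _ _ h1, List.getD_eq_getElem _ _ h2] at this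
  exact this

/-- a conjugate from an equation of lists -/
theorem conj_cols {g p : PV} (hg : g ∈ Gam) (hp : p ∈ Gam) {L : List ℕ} (hL : L.length = 12 ∧ ∀ c ∈ L, c < 4096)
    (h : Chk.cmul (cols g) (cols p) = Chk.cmul L (cols g)) : cols (g * p * g⁻¹) = L := by
  have hgA := Gam_addP hg
  have hqA : AddP (g * p * g⁻¹) := Gam_addP (mul_mem (mul_mem hg hp) (inv_mem hg))
  refine eq_of_app (by rw [cols, List.length_map]; rfl) hL.1 (cols_lt _) hL.2 fun v => ?_
  obtain ⟨w, rfl⟩ := g.surjective v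
  rw [← app_cols hqA, Equiv.Perm.mul_apply, Equiv.Perm.mul_apply, Equiv.Perm.coe_inv, Equiv.symm_apply_apply, app_cols hgA,
    app_cols (Gam_addP hp), ← app_cmul, h, app_cmul, ← app_cols hgA]

theorem cols_idem {p : PV} (hp : p ∈ Gam) (h : cols p = Chk.idL) : p = 1 :=
  eq_of_cols (Gam_addP hp) AddP.one (h.trans cols_one.symm)

theorem gx_facts {k g : ℕ} (hk : k < 4) (hg : g < 3) : cols (wd (gXw k g)) = gX k g ∧
    (k < 3 → Chk.cmul (gX k g) (Chk.cR k) = Chk.cmul (Chk.cR k) (gX k g)) ∧ (k = 3 → wd (gXw k g) va = va) := by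
  have h := gx_ok
  simp only [gxOK, List.all_eq_true, List.mem_range, Bool.and_eq_true, leq_iff] at h
  obtain ⟨⟨hw, he⟩, hx⟩ := h k hk g hg
  have hc : cols (wd (gXw k g)) = gX k g :=
    (wd_cols _ fun s hs => Nat.le_of_ble_eq_true (hw s hs)).trans he
  refine ⟨hc, fun hk3 => ?_, fun hk3 => code_inj ?_⟩
  · have hb : Nat.beq k 3 = false := by
      cases e : Nat.beq k 3
      · rfl
      · exact absurd (Nat.eq_of_beq_eq_true e) (by omega)
    rw [hb] at hx
    exact leq_iff.1 hx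
  · subst hk3
    rw [Nat.beq_refl] at hx
    rw [app_cols (Gam_addP (wd_memG _)), hc, code_va]
    exact Nat.eq_of_beq_eq_true hx

theorem root_entry {k : ℕ} (hk : k < 4) {i : ℕ} (hi : i < 6304) :
    ∃ e ∈ ODt.roots.getD k [], e.1 = rootY k i := by
  have h := (roots_ok hk).1
  simp only [rootsAt, Bool.and_eq_true, List.all_eq_true, decide_eq_true_eq] at h
  obtain ⟨⟨hnd, hall⟩, hsum⟩ := h
  by_contra hne
  set L := ODt.roots.getD k [] with hL
  set R := (List.range 6304).map (rootY k) with hR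
  have hlt : (L.map fun e => e.2.1).sum < 6304 := by
    have e1 : (L.map fun e => e.2.1) = (L.map Prod.fst).map (fun r => R.count r) := by
      rw [List.map_map]
      refine List.map_congr_left fun e he => ?_
      rw [Function.comp, List.count_eq_countP, ← Nat.eq_of_beq_eq_true (hall e he).2]
      refine List.countP_congr fun a _ => ?_
      simp only [beq_iff_eq]
      exact ⟨fun h => (Nat.eq_of_beq_eq_true h).symm, fun h => by rw [h, Nat.beq_refl]⟩
    rw [e1, ← List.sum_toFinset _ hnd]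
    calc ∑ r ∈ (L.map Prod.fst).toFinset, R.count r
        < ∑ r ∈ insert (rootY k i) (L.map Prod.fst).toFinset, R.count r := by
          refine Finset.sum_lt_sum_of_subset (Finset.subset_insert _ _) (Finset.mem_insert_self _ _) ?_ ?_ ?_
          · simp only [List.mem_toFinset, List.mem_map]
            rintro ⟨e, he, h'⟩
            exact hne ⟨e, he, h'⟩
          · exact List.count_pos_iff.2 (List.mem_map.2 ⟨i, List.mem_range.2 hi, rfl⟩)
          · exact fun _ _ _ => Nat.zero_le _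
      _ ≤ R.length := by
          refine le_trans (Finset.sum_le_sum_of_subset (t := insert (rootY k i) (L.map Prod.fst).toFinset ∪ R.toFinset)
            Finset.subset_union_left) ?_
          rw [← Finset.sum_subset Finset.subset_union_right fun a _ ha => List.count_eq_zero.2 (by simpa using ha),
            List.sum_toFinset_count_eq_length]
      _ = 6304 := by rw [hR, List.length_map, List.length_range]
  rw [Nat.eq_of_beq_eq_true hsum] at hlt
  omega

theorem root_word {k : ℕ} (hk : k < 4) {e : ℕ × ℕ × ℕ × List ℕ} (he : e ∈ ODt.roots.getD k []) :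
    (e.2.2.1 = 3 → elY e.1 = Chk.idL) ∧ (e.2.2.1 ≠ 3 → e.2.2.1 < 3 ∧ (∀ s ∈ e.2.2.2, s < 5) ∧
      Chk.cmul (Chk.evC e.2.2.2) (Chk.cR e.2.2.1) = Chk.cmul (elY e.1) (Chk.evC e.2.2.2)) := by
  have h := (roots_ok hk).2
  simp only [rootWordAt, List.all_eq_true] at h
  have h' := h e he
  constructor <;> intro h3
  · rw [h3, Nat.beq_refl] at h'
    exact leq_iff.1 h'
  · have hb : Nat.beq e.2.2.1 3 = false := by
      cases e' : Nat.beq e.2.2.1 3
      · rfl
      · exact absurd (Nat.eq_of_beq_eq_true e') h3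
    rw [hb] at h'
    simp only [cond_false, Bool.and_eq_true, List.all_eq_true, leq_iff] at h'
    exact ⟨Nat.le_of_ble_eq_true h'.1.1, fun s hs => Nat.le_of_ble_eq_true (h'.1.2 s hs), h'.2⟩

theorem root_elem {k : ℕ} (hk : k < 4) {e : ℕ × ℕ × ℕ × List ℕ} (he : e ∈ ODt.roots.getD k []) :
    ∃ p ∈ Gam, cols p = elY e.1 := by
  by_cases h3 : e.2.2.1 = 3
  · exact ⟨1, one_mem _, by rw [cols_one, (root_word hk he).1 h3]⟩
  obtain ⟨hr, hw, heq⟩ := (root_word hk he).2 h3
  obtain ⟨R, hR, hRc⟩ := covRep_elem _ hr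
  refine ⟨_, mul_mem (mul_mem (wd_memG e.2.2.2) hR.1.1) (inv_mem (wd_memG e.2.2.2)),
    conj_cols (wd_memG _) hR.1.1 (elY_good _) ?_⟩
  rw [wd_cols _ hw, hRc, heq]

/-- a member is a conjugate of its root by a stabilising element -/
theorem tree_conj {k : ℕ} (hk : k < 4) : ∀ i < 6304, ∃ g ∈ Gam,
    (k < 3 → Chk.cmul (cols g) (Chk.cR k) = Chk.cmul (Chk.cR k) (cols g)) ∧ (k = 3 → g va = va) ∧
    rootY k i < 6304 ∧ ∃ p ∈ Gam, cols p = elY (rootY k i) ∧ cols (g * p * g⁻¹) = elY i := by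
  suffices h : ∀ d i, i < 6304 → depY k i ≤ d → ∃ g ∈ Gam,
      (k < 3 → Chk.cmul (cols g) (Chk.cR k) = Chk.cmul (Chk.cR k) (cols g)) ∧ (k = 3 → g va = va) ∧
      rootY k i < 6304 ∧ ∃ p ∈ Gam, cols p = elY (rootY k i) ∧ cols (g * p * g⁻¹) = elY i from
    fun i hi => h _ i hi le_rfl
  intro d
  induction d with
  | zero =>
    intro i hi hd
    have h := tree_ok hk hi
    rw [treeAt, Nat.le_zero.1 hd] at h
    have hr : rootY k i = i := Nat.eq_of_beq_eq_true h
    obtain ⟨e, he, hei⟩ := root_entry hk hi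
    obtain ⟨p, hp, hc⟩ := root_elem hk he
    rw [hei] at hc
    refine ⟨1, one_mem _, fun hk3 => ?_, fun _ => rfl, by rw [hr]; exact hi, p, hp, hc, ?_⟩
    · obtain ⟨R, hR, hRc⟩ := covRep_elem k hk3
      rw [← hRc, ← cols_mul AddP.one, ← cols_mul (Gam_addP hR.1.1), one_mul, mul_one]
    · rw [one_mul, inv_one, mul_one, hc, hr]
  | succ d ih =>
    intro i hi hd
    by_cases h0 : depY k i ≤ d
    · exact ih i hi h0
    have h := tree_ok hk hi
    have hb : Nat.beq (depY k i) 0 = false := by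
      cases e : Nat.beq (depY k i) 0
      · rfl
      · exact absurd (Nat.eq_of_beq_eq_true e) (by omega)
    simp only [treeAt, hb, cond_false, Bool.and_eq_true, leq_iff] at h
    obtain ⟨⟨⟨⟨hpar, hdep⟩, hroot⟩, hgen⟩, heq⟩ := h
    have hdep' : depY k (parY k i) < depY k i := Nat.le_of_ble_eq_true hdep
    have hroot' : rootY k (parY k i) = rootY k i := Nat.eq_of_beq_eq_true hroot
    obtain ⟨g, hg, hgR, hgv, hlt, p, hp, hpc, hc⟩ := ih _ (Nat.le_of_ble_eq_true hpar) (by omega)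
    obtain ⟨hwc, hwR, hwv⟩ := gx_facts hk (Nat.le_of_ble_eq_true hgen)
    set w := wd (gXw k (genY k i))
    have hw : w ∈ Gam := wd_memG _
    have hcon : g * p * g⁻¹ ∈ Gam := mul_mem (mul_mem hg hp) (inv_mem hg)
    refine ⟨w * g, mul_mem hw hg, fun hk3 => ?_, fun hk3 => ?_, hroot' ▸ hlt, p, hp, by rw [← hroot']; exact hpc,
      ?_⟩
    · obtain ⟨R, hR, hRc⟩ := covRep_elem k hk3
      have hRA := Gam_addP hR.1.1
      have e1 := hgR hk3
      have e2 := hwR hk3
      rw [← hRc, ← cols_mul (Gam_addP hg), ← cols_mul hRA] at e1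
      rw [← hRc, ← hwc, ← cols_mul (Gam_addP hw), ← cols_mul hRA] at e2
      have f1 := eq_of_cols ((Gam_addP hg).mul hRA) (hRA.mul (Gam_addP hg)) e1
      have f2 := eq_of_cols ((Gam_addP hw).mul hRA) (hRA.mul (Gam_addP hw)) e2
      rw [← hRc, ← cols_mul (Gam_addP (mul_mem hw hg)), ← cols_mul hRA, mul_assoc, f1, ← mul_assoc, f2, mul_assoc]
    · rw [Equiv.Perm.mul_apply, hgv hk3, hwv hk3]
    · rw [show w * g * p * (w * g)⁻¹ = w * (g * p * g⁻¹) * w⁻¹ by group]
      exact conj_cols hw hcon (elY_good i) (by rw [hwc, hc, heq])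

theorem elY_mem {i : ℕ} (hi : i < 6304) : ∃ p ∈ Gam, cols p = elY i := by
  obtain ⟨g, hg, -, -, -, p, hp, -, hc⟩ := tree_conj (k := 3) (by norm_num) i hi
  exact ⟨_, mul_mem (mul_mem hg hp) (inv_mem hg), hc⟩

/-- a member of the list -/
noncomputable def elP (i : ℕ) : PV :=
  haveI := Classical.propDecidable (i < 6304)
  if h : i < 6304 then (elY_mem h).choose else 1

theorem elP_spec {i : ℕ} (hi : i < 6304) : elP i ∈ Gam ∧ cols (elP i) = elY i := by
  rw [elP, dif_pos hi]
  exact (elY_mem hi).choose_spec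

theorem elP_inj {i j : ℕ} (hi : i < 6304) (hj : j < 6304) (h : elP i = elP j) : i = j :=
  elY_inj hi hj (by rw [← (elP_spec hi).2, ← (elP_spec hj).2, h])

theorem elP_eq {i : ℕ} (hi : i < 6304) {p : PV} (hp : p ∈ Gam) (h : cols p = elY i) : p = elP i :=
  eq_of_cols (Gam_addP hp) (Gam_addP (elP_spec hi).1) (by rw [h, (elP_spec hi).2])

/-- the list is closed under conjugation by words -/
theorem list_closed : ∀ (w : List ℕ), (∀ s ∈ w, s < 5) → ∀ i < 6304,
    ∃ j < 6304, wd w * elP i * (wd w)⁻¹ = elP j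
  | [], _, i, hi => ⟨i, hi, by simp [wd]⟩
  | s :: w, hw, i, hi => by
    obtain ⟨j, hj, e⟩ := list_closed w (fun t ht => hw t (List.mem_cons_of_mem _ ht)) i hi
    have hs := hw s List.mem_cons_self
    have h := list_ok hj
    simp only [listAt, Bool.and_eq_true, List.all_eq_true, List.mem_range, leq_iff] at h
    obtain ⟨hlt, heq⟩ := h.2 s hs
    have hl : nbY s j < 6304 := Nat.le_of_ble_eq_true hlt
    refine ⟨nbY s j, hl, ?_⟩
    have hfin : ((Fin.ofNat 5 s : Fin 5) : ℕ) = s := by simp [Nat.mod_eq_of_lt hs]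
    set g := gP (Fin.ofNat 5 s) with hgd
    have hgG : g ∈ Gam := by
      have := wd_memG [s]
      rwa [show wd [s] = g by simp [wd, hgd]] at this
    rw [show wd (s :: w) = g * wd w by simp [wd, hgd], show g * wd w * elP i * (g * wd w)⁻¹ =
      g * (wd w * elP i * (wd w)⁻¹) * g⁻¹ by group, e]
    refine elP_eq hl (mul_mem (mul_mem hgG (elP_spec hj).1) (inv_mem hgG))
      (conj_cols hgG (elP_spec hj).1 (elY_good _) ?_)
    rw [(gP_spec _).2.1, hfin, (elP_spec hj).2]
    exact heq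

theorem wd_append : ∀ a b : List ℕ, wd (a ++ b) = wd a * wd b
  | [], b => by simp [wd]
  | s :: a, b => by
    have := wd_append a b
    simp only [wd] at this
    simp [wd, mul_assoc]

/-- members of the quotient are words -/
theorem Gam_word {p : PV} (hp : p ∈ Gam) : ∃ w, (∀ s ∈ w, s < 5) ∧ p = wd w := by
  have hK : ∀ q ∈ Kp, ∃ w, (∀ s ∈ w, s < 5) ∧ q = wd w := by
    have hg : ∀ s : Fin 5, ∃ w, (∀ t ∈ w, t < 5) ∧ gP s = wd w := fun s =>
      ⟨[s.val], by simp, by simp [wd]⟩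
    intro q hq
    rw [Kp] at hq
    induction hq using Subgroup.closure_induction with
    | mem a ha =>
      simp only [Set.mem_insert_iff, Set.mem_singleton_iff] at ha
      rcases ha with rfl | rfl | rfl | rfl
      exacts [hg 0, hg 1, hg 2, hg 3]
    | one => exact ⟨[], by simp, by simp [wd]⟩
    | mul a b _ _ iha ihb =>
      obtain ⟨v, hv, rfl⟩ := iha
      obtain ⟨w, hw, rfl⟩ := ihb
      exact ⟨v ++ w, fun s hs => (List.mem_append.1 hs).elim (hv s) (hw s), (wd_append v w).symm⟩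
    | inv a _ iha =>
      obtain ⟨v, hv, rfl⟩ := iha
      haveI : Fintype PV := Fintype.ofFinite _
      have key : ∀ n : ℕ, ∃ w, (∀ s ∈ w, s < 5) ∧ wd v ^ n = wd w := by
        intro n
        induction n with
        | zero => exact ⟨[], by simp, by simp [wd]⟩
        | succ n ih =>
          obtain ⟨w, hw, e⟩ := ih
          exact ⟨w ++ v, fun s hs => (List.mem_append.1 hs).elim (hw s) (hv s),
            by rw [pow_succ, e, wd_append]⟩
      have hpos := orderOf_pos (wd v)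
      obtain ⟨w, hw, e⟩ := key (orderOf (wd v) - 1)
      refine ⟨w, hw, ?_⟩
      rw [← e]
      exact inv_eq_of_mul_eq_one_right (by rw [← pow_succ', Nat.sub_add_cancel hpos, pow_orderOf_eq_one])
  rcases (show p ∈ Kp ∨ eo * p ∈ Kp by unfold Gam at hp; exact hp) with h | h
  · exact hK p h
  · obtain ⟨w, hw, e⟩ := hK _ h
    refine ⟨4 :: w, ?_, ?_⟩
    · intro s hs
      rcases List.mem_cons.1 hs with rfl | hs
      · norm_num
      · exact hw s hs
    · rw [show wd (4 :: w) = eo * wd w by simp [wd, eo], ← e, ← mul_assoc, eo_sq, one_mul]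

universe u

variable {G : Type u} [Group G] [Finite G] {z : G} {Q N : Subgroup G} {x : G}
variable (S : Big z Q N x) (f : Frame z Q x)

include S f

/-- every involution of the quotient is listed -/
theorem Big.list_all {p : PV} (hp : p ∈ Gam) (h2 : p * p = 1) : ∃ i < 6304, p = elP i := by
  haveI : Fact (Nat.Prime 2) := ⟨Nat.prime_two⟩
  have hfix := fix_ok
  simp only [OChk4.fixOK, Bool.and_eq_true, List.all_eq_true, List.mem_range, leq_iff] at hfix
  obtain ⟨⟨hR, hI⟩, hIc⟩ := hfix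
  by_cases h1 : p = 1
  · refine ⟨_, Nat.le_of_ble_eq_true hI, ?_⟩
    exact elP_eq (Nat.le_of_ble_eq_true hI) hp (by rw [h1, cols_one, hIc])
  obtain ⟨j, hj, hπ⟩ := S.lift_NX f hp
  obtain ⟨s, hs⟩ := S.ker_NX f (hj.mul hj) (by rw [map_mul, hπ, h2])
  have hj4 : j ^ 4 = 1 := by
    refine Subtype.ext ?_
    rw [show j ^ 4 = (j * j) * (j * j) by simp [pow_succ, mul_assoc], Subgroup.coe_mul, hs, S.zp_mul, Bool.xor_self]
    rfl
  have hjp : IsPGroup 2 (Subgroup.zpowers j) := fun a => by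
    obtain ⟨n, hn⟩ := Subgroup.mem_zpowers_iff.1 a.2
    refine ⟨2, Subtype.ext ?_⟩
    show (a : Subgroup.centralizer ({z} : Set G)) ^ 2 ^ 2 = 1
    rw [← hn, show (2 ^ 2 : ℕ) = 4 from rfl, ← zpow_natCast, ← zpow_mul, mul_comm, zpow_mul, zpow_natCast, hj4,
      one_zpow]
  set T0 := TS.comap f.π
  obtain ⟨TC, hTC⟩ := (S.card_T0 f).2.exists_le_sylow
  have hT0 : (TC : Subgroup (Subgroup.centralizer ({z} : Set G))) = T0 := by
    obtain ⟨k, hk⟩ := IsPGroup.iff_card.1 TC.isPGroup'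
    have hd : 2 ^ k ∣ 2 ^ 13 * 2661120 := by
      rw [← hk, ← f.card_C S.base]; exact Subgroup.card_subgroup_dvd_card _
    have hk21 : k ≤ 21 := (Nat.pow_dvd_pow_iff_le_right (le_refl 2)).1
      ((Nat.Coprime.pow_left k (by norm_num : Nat.Coprime 2 10395)).dvd_of_dvd_mul_right hd)
    exact (Subgroup.eq_of_le_of_card_ge hTC (by
      rw [hk, (S.card_T0 f).1]; exact Nat.pow_le_pow_right (by norm_num) hk21)).symm
  obtain ⟨P, hP⟩ := hjp.exists_le_sylow
  obtain ⟨c, hc⟩ := MulAction.exists_smul_eq (Subgroup.centralizer ({z} : Set G)) P TC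
  have hT : f.π c * p * (f.π c)⁻¹ ∈ TS := by
    have : c * j * c⁻¹ ∈ (TC : Subgroup (Subgroup.centralizer ({z} : Set G))) := by
      rw [← hc, Sylow.coe_subgroup_smul]
      exact ⟨j, hP (Subgroup.mem_zpowers j), rfl⟩
    rw [hT0] at this
    have h' : f.π (c * j * c⁻¹) ∈ TS := this
    rwa [map_mul, map_mul, map_inv, hπ] at h'
  set p' := f.π c * p * (f.π c)⁻¹ with hp'
  have hp'2 : p' * p' = 1 := by rw [hp', conj_mul, h2, mul_one, mul_inv_cancel]
  obtain ⟨a, ha, hcols⟩ := inv_index hT hp'2 (fun e => h1 (conj_eq_one_iff.1 e))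
  have htab := Chk.covTab_ok
  simp only [Chk.covTabOK, List.all_eq_true, List.mem_range, Bool.and_eq_true, leq_iff] at htab
  obtain ⟨⟨hr, hw⟩, heq⟩ := htab a ha
  set r := (Dat.covT.getD a (0, [])).1
  set w := (Dat.covT.getD a (0, [])).2
  have hr3 : r < 3 := Nat.le_of_ble_eq_true hr
  obtain ⟨hRlt, hRc⟩ := hR r hr3
  have hil : ODt.fix0.getD r 0 < 6304 := Nat.le_of_ble_eq_true hRlt
  have hw5 : ∀ s ∈ w, s < 5 := fun s hs => Nat.le_of_ble_eq_true (hw s hs)
  have hwc : cols (wd w) = Chk.evC w := wd_cols w hw5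
  -- the member of the Sylow subgroup is listed
  obtain ⟨i1, hi1, e1⟩ := list_closed w hw5 _ hil
  have hp'G : p' ∈ Gam := TS_le hT
  have e2 : p' = elP i1 := by
    rw [← e1, eq_mul_inv_iff_mul_eq]
    refine eq_of_cols ((Gam_addP hp'G).mul (wd_addP w)) ((wd_addP w).mul (Gam_addP (elP_spec hil).1)) ?_
    rw [cols_mul (Gam_addP hp'G), cols_mul (wd_addP w), hcols, hwc, (elP_spec hil).2, hRc]
    exact heq.symm
  -- come back along a word
  obtain ⟨w', hw', hwe⟩ := Gam_word (inv_mem (f.pi_mem c))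
  obtain ⟨i2, hi2, e3⟩ := list_closed w' hw' i1 hi1
  refine ⟨i2, hi2, ?_⟩
  rw [← e3, ← e2, ← hwe, hp']
  group

end Cfsg.Agent.Spor.JFour
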