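import Cfsg.Agent.Lib.Spor.JFourOrder.HClass

/-!
Janko four type: when the product of two involutions of the centraliser generates the central involution.
-/

set_option autoImplicit false
set_option maxRecDepth 100000
set_option linter.unusedSectionVars false

namespace Cfsg.Agent.Spor.JFour

open Cfsg.Agent.Spor.SUSix (V6 code code_lt vecOf_code)
open OChk4

attribute [local irreducible] Gam Kp Chk.app

/-- sum along the powers of a map -/
def sumP (p : List ℕ) : ℕ → ℕ → ℕ
  | 0, _ => 0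
  | m + 1, v => v ^^^ sumP p m (Chk.app p v)

theorem appA_zip : ∀ (A B : List ℕ), A.length = B.length → ∀ k,
    Chk.appA (List.zipWith Nat.xor A B) k 0 = Chk.appA A k 0 ^^^ Chk.appA B k 0
  | [], [], _, _ => (Nat.xor_self 0).symm
  | a :: A, b :: B, h, k => by
    show Chk.appA (List.zipWith Nat.xor A B) (k >>> 1) (bif Chk.tb k 0 then 0 ^^^ (a ^^^ b) else 0) =
      Chk.appA A (k >>> 1) (bif Chk.tb k 0 then 0 ^^^ a else 0) ^^^
        Chk.appA B (k >>> 1) (bif Chk.tb k 0 then 0 ^^^ b else 0)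
    rw [appA_acc (List.zipWith Nat.xor A B), appA_acc A, appA_acc B, appA_zip A B (Nat.succ.inj h)]
    cases Chk.tb k 0 <;> simp [Nat.xor_assoc, Nat.xor_comm, Nat.xor_left_comm]

theorem app_zip {A B : List ℕ} (h : A.length = B.length) (k : ℕ) :
    Chk.app (List.zipWith Nat.xor A B) k = Chk.app A k ^^^ Chk.app B k := by
  with_unfolding_all exact appA_zip A B h k

theorem app_rep (k : ℕ) : ∀ m, Chk.app (List.replicate m 0) k = 0 := by
  intro m
  induction m generalizing k with
  | zero => with_unfolding_all rfl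
  | succ m ih => rw [List.replicate_succ, app_cons, ih]; cases Chk.tb k 0 <;> rfl

theorem normC_len (p : List ℕ) : ∀ m, (normC p m).length = 12
  | 0 => List.length_replicate
  | m + 1 => by
    show (List.zipWith Nat.xor Chk.idL (Chk.cmul p (normC p m))).length = 12
    rw [List.length_zipWith, Chk.cmul, List.length_map, normC_len p m]
    rfl

theorem sumP_app (p : List ℕ) : ∀ m v, Chk.app p (sumP p m v) = sumP p m (Chk.app p v)
  | 0, _ => app_zero p
  | m + 1, v => by rw [sumP, sumP, app_xor, sumP_app p m]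

theorem app_normC {p : List ℕ} : ∀ (m v : ℕ), v < 4096 → Chk.app (normC p m) v = sumP p m v
  | 0, v, _ => app_rep v 12
  | m + 1, v, hv => by
    show Chk.app (List.zipWith Nat.xor Chk.idL (Chk.cmul p (normC p m))) v = _
    rw [app_zip (by rw [Chk.cmul, List.length_map, normC_len]; rfl), app_idL v hv, app_cmul, app_normC m v hv,
      sumP_app]
    rfl

theorem ord_spec {P : PV} (hP : AddP P) : ∀ m i, ordOK (cols P) m i (cols (P ^ i)) = true →
    P ^ (i + m) = 1 ∧ ∀ j, i ≤ j → j < i + m → j ≠ 0 → P ^ j ≠ 1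
  | 0, i, h => by
    refine ⟨eq_of_cols (cols_pow hP i).2 AddP.one ?_, fun j h1 h2 => by omega⟩
    rw [cols_one]; exact leq_iff.1 h
  | m + 1, i, h => by
    simp only [OChk4.ordOK, Bool.and_eq_true, Bool.or_eq_true, Bool.not_eq_true'] at h
    have h' := ord_spec hP m (i + 1) (by
      rw [pow_succ', cols_mul hP]; exact h.2)
    refine ⟨by rw [show i + (m + 1) = i + 1 + m by omega]; exact h'.1, fun j h1 h2 h0 => ?_⟩
    rcases Nat.eq_or_lt_of_le h1 with rfl | h1
    · intro e
      rcases h.1 with e' | e'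
      · exact h0 (Nat.eq_of_beq_eq_true e')
      · rw [e, cols_one, leq_iff.2 rfl] at e'
        simp at e'
    · exact h'.2 j h1 (by omega) h0

/-- odd orders join roots of the own kind only -/
def oddAt (k : ℕ) : Bool :=
  (List.zip (ODt.roots.getD k []) ([ODt.htab0, ODt.htab1, ODt.htab2, ODt.htab3].getD k [])).all fun q =>
    Nat.beq (Nat.mod q.2.1 2) 0 || Nat.beq q.1.2.2.1 k

theorem odd_ok : ((List.range 4).all oddAt) = true := by decide +kernel

universe u

variable {G : Type u} [Group G] [Finite G] {z : G} {Q N : Subgroup G} {x : G}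

theorem NXs.pow {c : Subgroup.centralizer ({z} : Set G)} (hc : NXs x c) : ∀ m : ℕ, NXs x (c ^ m)
  | 0 => by rw [pow_zero]; exact NXs.one
  | m + 1 => by rw [pow_succ]; exact (NXs.pow hc m).mul hc

variable (S : Big z Q N x) (f : Frame z Q x) (R : Reps S f)

include S f

/-- powers in coordinates -/
theorem Big.elC_pow {h : Subgroup.centralizer ({z} : Set G)} (hh : NXs x h) {p : List ℕ} (hp : cols (f.π h) = p)
    {og : Bool} (hog : outP (f.π h) = og) (c : V6) (s : Bool) : ∀ (m j : ℕ) (C : V6) (S' : Bool),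
    elC S f c s h ^ (j + 1) = elC S f C S' (h ^ (j + 1)) →
    ∃ C' : V6, code C' = code C ^^^ sumP p m (Chk.app p (code (f.π (h ^ j) c))) ∧
      elC S f c s h ^ (j + 1 + m) = elC S f C' (powS p og m (code C) S' (code (f.π (h ^ j) c))
        (xor s (outP (f.π (h ^ j)) && qB c))) (h ^ (j + 1 + m))
  | 0, j, C, S', e => ⟨C, (Nat.xor_zero _).symm, e⟩
  | m + 1, j, C, S', e => by
    set cc := f.π (h ^ j) c with hcc
    set ss := xor s (outP (f.π (h ^ j)) && qB c)
    have hA := Gam_addP (f.pi_mem h)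
    have hw : f.π (h ^ (j + 1)) c = f.π h cc := by rw [pow_succ', map_mul]; rfl
    have hwc : code (f.π h cc) = Chk.app p (code cc) := by rw [app_cols hA, hp]
    have hss : xor s (outP (f.π (h ^ (j + 1))) && qB c) = xor ss (og && qB cc) := by
      rw [pow_succ', outP_mul f, hog, hcc, S.qB_pi f]
      show xor s ((xor og (outP (f.π (h ^ j)))) && qB c) = xor (xor s (outP (f.π (h ^ j)) && qB c)) _
      cases s <;> cases og <;> cases outP (f.π (h ^ j)) <;> cases qB c <;> rfl
    have hnext : elC S f c s h ^ (j + 1 + 1) = elC S f (C + f.π h cc)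
        (xor S' (xor (xor ss (og && qB cc)) (bB C (f.π h cc)))) (h ^ (j + 1 + 1)) := by
      rw [pow_succ, e, S.elC_mul f (hh.pow _), ← pow_succ, hw, ← hss]
      congr 1
      cases S' <;> cases s <;> cases bB C (f.π h cc) <;> cases outP (f.π (h ^ (j + 1))) <;> cases qB c <;> rfl
    obtain ⟨C', hC, hpw⟩ := Big.elC_pow hh hp hog c s m (j + 1) _ _ hnext
    rw [hw, hwc] at hC
    rw [hw, hss, hwc] at hpw
    refine ⟨C', ?_, ?_⟩
    · rw [hC, code_add, hwc, sumP, Nat.xor_assoc]
    · rw [show j + 1 + (m + 1) = j + 1 + 1 + m by omega, hpw, code_add, hwc, powS]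
      simp only [qB_code, ← bB_code, hwc]
      rfl

theorem Big.elC_pow_total {h : Subgroup.centralizer ({z} : Set G)} (hh : NXs x h) {p : List ℕ}
    (hp : cols (f.π h) = p) {og : Bool} (hog : outP (f.π h) = og) (c : V6) (s : Bool) {n : ℕ} (hn : 0 < n) :
    ∃ C : V6, code C = Chk.app (normC p n) (code c) ∧
      elC S f c s h ^ n = elC S f C (powS p og (n - 1) (code c) s (code c) s) (h ^ n) := by
  obtain ⟨m, rfl⟩ : ∃ m, n = m + 1 := ⟨n - 1, by omega⟩
  obtain ⟨C, hC, hpw⟩ := S.elC_pow f hh hp hog c s m 0 c s (by rw [pow_one, pow_one])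
  rw [pow_zero, map_one, Equiv.Perm.one_apply] at hC hpw
  rw [outP_one, Bool.false_and, Bool.xor_false] at hpw
  refine ⟨C, by rw [hC, app_normC _ _ (code_lt _)]; rfl, ?_⟩
  rw [show m + 1 = 0 + 1 + m by omega, hpw, show 0 + 1 + m - 1 = m by omega]

/-- the criterion -/
theorem Big.z_mem {r : Subgroup.centralizer ({z} : Set G)} {n : ℕ} (hn : 0 < n)
    (hmin : ∀ j, j < n → j ≠ 0 → f.π r ^ j ≠ 1) (h1 : f.π r ^ n = 1) {C : V6} {s : Bool}
    (h : r ^ n = qC S f C s) :
    z ∈ Subgroup.zpowers (r : G) ↔ qB C = true ∨ (code C = 0 ∧ s = true) := by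
  have hzero : ∀ {b : Bool}, (qC S f 0 b : G) = zp z b := fun {b} => by
    show sec f 0 * zp z b = _
    rw [S.sec_zero f, one_mul]
  have hsq : qC S f C s * qC S f C s = qC S f 0 (qB C) := by
    rw [S.qC_mul f, S.bB_self f, show C + C = 0 from code_inj (by rw [code_add, Nat.xor_self, code_zero])]
    congr 1
    cases s <;> cases qB C <;> rfl
  constructor
  · intro hz
    obtain ⟨m, hm⟩ := mem_powers_iff_mem_zpowers.2 hz
    simp only at hm
    by_cases hq : qB C = true
    · exact Or.inl hq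
    rw [Bool.not_eq_true] at hq
    have hπ : f.π (r ^ m) = 1 := (f.ker _).2 (by rw [Subgroup.coe_pow, hm]; exact S.base.ord.xt.mem)
    rw [map_pow, ← Nat.div_add_mod m n, pow_add, pow_mul, h1, one_pow, one_mul] at hπ
    have hm0 : m % n = 0 := by
      by_contra h0
      exact hmin _ (Nat.mod_lt _ hn) h0 hπ
    have e : (r : G) ^ m = ((qC S f C s ^ (m / n) : Subgroup.centralizer ({z} : Set G)) : G) := by
      rw [← h, ← pow_mul, Subgroup.coe_pow]
      congr 1
      have := Nat.div_add_mod m n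
      omega
    rw [hm] at e
    have hodd : qC S f C s ^ (m / n) = qC S f C s ^ (m / n % 2) := by
      conv_lhs => rw [← Nat.div_add_mod (m / n) 2, pow_add, pow_mul, pow_two, hsq, hq, S.qC_zero f, one_pow, one_mul]
    rw [hodd] at e
    rcases Nat.mod_two_eq_zero_or_one (m / n) with h0 | h0 <;> rw [h0] at e
    · rw [pow_zero] at e
      exact absurd e S.base.ord.xt.ne
    · rw [pow_one] at e
      have e' : elc f 0 true (1 : Subgroup.centralizer ({z} : Set G)) = elc f C s 1 := by
        rw [← S.coe_elC f, ← S.coe_elC f, S.elC_one f, S.elC_one f, hzero, zp_true]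
        exact e
      obtain ⟨h2, h3⟩ := S.elc_inj f e'
      exact Or.inr ⟨by rw [← h2, code_zero], h3.symm⟩
  · rintro (hq | ⟨hC, hs⟩)
    · refine mem_powers_iff_mem_zpowers.1 ⟨n * 2, ?_⟩
      show (r : G) ^ (n * 2) = z
      rw [← Subgroup.coe_pow, pow_mul, h, pow_two, hsq, hq, hzero, zp_true]
    · refine mem_powers_iff_mem_zpowers.1 ⟨n, ?_⟩
      show (r : G) ^ n = z
      rw [← Subgroup.coe_pow, h, show C = 0 from code_inj (hC.trans code_zero.symm), hs, hzero, zp_true]

/-- lifts normalising the group of order three of involutions are involutions -/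
theorem Big.sq_NX {u : Subgroup.centralizer ({z} : Set G)} (hu : NXs x u) (h : f.π u * f.π u = 1) : u * u = 1 := by
  obtain ⟨R⟩ := S.exists_reps f
  obtain ⟨i, hi, e⟩ := S.list_all f (f.pi_mem u) h
  obtain ⟨g', hg', -, -, hlt, p, hp, hpc, hc⟩ := tree_conj (k := 3) (by norm_num) i hi
  obtain ⟨ent, he, hee⟩ := root_entry (k := 3) (by norm_num) hi
  obtain ⟨g, nY, hkk, hg, hnY, hYe, hYc, -⟩ := S.root_fibre f R (by norm_num) he
  obtain ⟨L, hL, hLπ⟩ := S.lift_NX f hg'
  have hp' : p = f.π nY := eq_of_cols (Gam_addP hp) (Gam_addP (f.pi_mem _)) (by rw [hpc, hYc, hee])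
  have hu' : f.π (L * nY * L⁻¹) = f.π u := by
    rw [map_mul, map_mul, map_inv, hLπ, ← hp', e]
    exact elP_eq hi (mul_mem (mul_mem hg' hp) (inv_mem hg')) hc
  obtain ⟨s, hs⟩ := S.pair_NX f ((hL.mul hnY).mul hL.inv) hu hu'
  have h2 : (L * nY * L⁻¹) * (L * nY * L⁻¹) = 1 := by
    rw [conj_mul, hYe, conj_mul, R.sq _ hkk, mul_one, mul_inv_cancel, mul_one, mul_inv_cancel]
  set w := L * nY * L⁻¹
  refine Subtype.ext ?_
  show (u : G) * u = 1
  have hwz : Commute (w : G) z := Subgroup.mem_centralizer_singleton_iff.1 w.2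
  have h2' : (w : G) * w = 1 := congrArg Subtype.val h2
  rw [hs]
  calc (w : G) * zp z s * ((w : G) * zp z s) = (w : G) * (zp z s * (w : G)) * zp z s := by group
    _ = (w : G) * w * (zp z s * zp z s) := by rw [← (S.zp_comm s hwz).eq]; group
    _ = 1 := by rw [h2', S.zp_mul, Bool.xor_self, zp_false, mul_one]

/-- the product of two lifts to the power of the order -/
theorem Big.sigma {k : ℕ} (hk : k < 4) {e : ℕ × ℕ × ℕ × List ℕ} {n : ℕ} (hn : 0 < n)
    (hodd : n % 2 = 1 → e.2.2.1 = k) {g nY : Subgroup.centralizer ({z} : Set G)} (hkk : e.2.2.1 < 4)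
    (hY : NXs x nY) (hYe : nY = g * R.n e.2.2.1 * g⁻¹)
    (h1 : f.π (R.n k * nY) ^ n = 1) :
    (R.n k * nY) ^ n = 1 ∨
      (k < 3 ∧ e.2.2.1 = k ∧ tz (phiH R k 0) = tz (phiH R k 1) ∧ (R.n k * (nY * qC S f 0 true)) ^ n = 1) := by
  set nX := R.n k
  have hX : NXs x nX := R.nx k hk
  set h := nX * nY
  have hh : NXs x h := hX.mul hY
  have hX2 : nX * nX = 1 := R.sq k hk
  have hY2 : nY * nY = 1 := by rw [hYe, conj_mul, R.sq _ hkk, mul_one, mul_inv_cancel]
  rcases Nat.mod_two_eq_zero_or_one n with h2 | h2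
  · refine Or.inl ?_
    have e2 : n = n / 2 + n / 2 := by omega
    rw [e2, pow_add]
    refine S.sq_NX f (hh.pow _) ?_
    rw [← map_mul, ← pow_add, ← e2, map_pow, h1]
  obtain ⟨s, hs⟩ := S.ker_NX f (hh.pow n) (by rw [map_pow, h1])
  cases s
  · exact Or.inl (Subtype.ext hs)
  rw [zp_true] at hs
  have hk3 : k < 3 := by
    by_contra h3
    obtain rfl : k = 3 := by omega
    have : h = 1 := by
      show nX * nY = 1
      rw [hYe, hodd h2, show nX = R.n 3 from rfl, R.three, one_mul, mul_one, mul_inv_cancel]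
    rw [this, one_pow] at hs
    exact S.base.ord.xt.ne hs.symm
  refine Or.inr ⟨hk3, hodd h2, ?_, ?_⟩
  · -- the two lifts are conjugate
    have hinv : ∀ m : ℕ, nX * h ^ m = (h ^ m)⁻¹ * nX := by
      intro m
      induction m with
      | zero => simp
      | succ m ih =>
        have e1 : nX * h = h⁻¹ * nX := by
          show nX * (nX * nY) = (nX * nY)⁻¹ * nX
          rw [mul_inv_rev, inv_eq_of_mul_eq_one_right hX2, inv_eq_of_mul_eq_one_right hY2, ← mul_assoc, hX2, one_mul,
            mul_assoc, hX2, mul_one]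
        rw [pow_succ, ← mul_assoc, ih, mul_assoc, e1, ← mul_assoc, ← mul_inv_rev, ← pow_succ', pow_succ]
    obtain ⟨m, rfl⟩ : ∃ m, n = 2 * m + 1 := ⟨n / 2, by omega⟩
    have hconj : h ^ m * nX * (h ^ m)⁻¹ = nY * (h ^ (2 * m + 1))⁻¹ := by
      have e1 : nY = nX * h := by show nY = nX * (nX * nY); rw [← mul_assoc, hX2, one_mul]
      have e2 : h ^ m * nX = nX * (h ^ m)⁻¹ := by
        have := hinv m
        calc h ^ m * nX = h ^ m * (nX * h ^ m) * (h ^ m)⁻¹ := by group
          _ = _ := by rw [this]; group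
      rw [e2, e1, two_mul, pow_succ', pow_add, mul_inv_rev, mul_inv_rev]
      group
    have hz1 : (h ^ (2 * m + 1))⁻¹ = qC S f 0 true := by
      refine inv_eq_of_mul_eq_one_right (Subtype.ext ?_)
      show ((h ^ (2 * m + 1) : Subgroup.centralizer ({z} : Set G)) : G) * (sec f 0 * zp z true) = 1
      rw [hs, S.sec_zero f, one_mul, zp_true, ← pow_two, pow_two, S.base.ord.xt.sq]
    have hp0 : phiH R k 0 = nX := by
      rw [phiH, show cvV 0 = 0 from code_inj ((code_cvV (by norm_num)).trans code_zero.symm), elC,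
        show ce 0 = false from rfl, S.qC_zero f, one_mul]
    have hp1 : phiH R k 1 = qC S f 0 true * nX := by
      rw [phiH, show cvV 1 = 0 from code_inj ((code_cvV (by norm_num)).trans code_zero.symm), elC,
        show ce 1 = true from rfl]
    rw [hp0, ← tz_conj (h ^ m) nX, hconj, hz1, hYe, hodd h2, hp1, ← tz_conj g (qC S f 0 true * nX)]
    congr 1
    have hc : ∀ w : Subgroup.centralizer ({z} : Set G), w * qC S f 0 true = qC S f 0 true * w := fun w => by
      refine Subtype.ext ?_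
      show (w : G) * (sec f 0 * zp z true) = sec f 0 * zp z true * (w : G)
      rw [S.sec_zero f, one_mul, zp_true, (Subgroup.mem_centralizer_singleton_iff.1 w.2 : (w : G) * z = z * w)]
    calc g * R.n k * g⁻¹ * qC S f 0 true = g * (R.n k * qC S f 0 true) * g⁻¹ := by
          rw [mul_assoc (g * R.n k), hc g⁻¹]; group
      _ = _ := by rw [hc]
  · have hc : Commute h (qC S f 0 true) := Subtype.ext (by
      show (h : G) * (sec f 0 * zp z true) = sec f 0 * zp z true * (h : G)
      rw [S.sec_zero f, one_mul, zp_true, (Subgroup.mem_centralizer_singleton_iff.1 h.2 : (h : G) * z = z * h)])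
    rw [← mul_assoc, hc.mul_pow]
    refine Subtype.ext ?_
    show ((h ^ n : Subgroup.centralizer ({z} : Set G)) : G) * ((qC S f 0 true ^ n : Subgroup.centralizer ({z} : Set G)) : G) = 1
    rw [hs, Subgroup.coe_pow, show (qC S f 0 true : G) = z by show sec f 0 * zp z true = z; rw [S.sec_zero f, one_mul, zp_true],
      ← Nat.div_add_mod n 2, h2, pow_succ, pow_mul, pow_two, S.base.ord.xt.sq, one_pow, one_mul, S.base.ord.xt.sq]

/-- the computed criterion is right -/
theorem Big.hit_spec {k : ℕ} (hk : k < 4) {e : ℕ × ℕ × ℕ × List ℕ} {d : ℕ × List ℕ}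
    (hord : ordOK (prodAt k e) d.1 0 Chk.idL = true) (hn : 0 < d.1)
    {nY : Subgroup.centralizer ({z} : Set G)} (hYc : cols (f.π nY) = elY e.1)
    (hYo : outP (f.π nY) = outR e.2.2.1) (hY : NXs x nY) (hpow : (R.n k * nY) ^ d.1 = 1) {u : ℕ} (hu : u < 8192)
    {v : ℕ × Bool × ℕ} (hv : v.1 < 4096) :
    z ∈ Subgroup.zpowers ((phiH R k u * elC S f (SUSix.vecOf v.1) v.2.1 nY : Subgroup.centralizer ({z} : Set G)) : G) ↔
      hit k d.1 (prodAt k e) (normC (prodAt k e) d.1) (outR k ^^ outR e.2.2.1) u v = true := by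
  have hXA := Gam_addP (f.pi_mem (R.n k))
  have hp : cols (f.π (R.n k * nY)) = prodAt k e := by
    rw [map_mul, cols_mul hXA, R.cols k hk, hYc]; rfl
  have hog : outP (f.π (R.n k * nY)) = (outR k ^^ outR e.2.2.1) := by rw [outP_mul f, S.rep_out f R hk, hYo]
  obtain ⟨-, hmin⟩ := ord_spec (Gam_addP (f.pi_mem (R.n k * nY))) d.1 0 (by rw [hp, pow_zero, cols_one]; exact hord)
  set b := SUSix.vecOf v.1
  have hb : code b = v.1 := code_vecOf _ hv
  have hπr : f.π (phiH R k u * elC S f b v.2.1 nY) = f.π (R.n k * nY) := by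
    rw [map_mul, phiH, S.pi_elC f, S.pi_elC f, map_mul]
  have h1 : f.π (R.n k * nY) ^ d.1 = 1 := by rw [← map_pow, hpow, map_one]
  set a := cvV u
  have hXb : code (f.π (R.n k) b) = Chk.app (cX k) v.1 := by rw [S.rep_app f R hk, hb]
  have hr : phiH R k u * elC S f b v.2.1 nY = elC S f (a + f.π (R.n k) b)
      (xor (bKf (cv u) (Chk.app (cX k) v.1)) (xor (ce u) (xor v.2.1 (outR k && qf v.1)))) (R.n k * nY) := by
    rw [phiH, S.elC_mul f (R.nx k hk), S.rep_out f R hk, ← bB_code, ← qB_code, hXb, code_cvV hu, hb]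
    congr 1
    cases ce u <;> cases v.2.1 <;> cases bKf (cv u) (Chk.app (cX k) v.1) <;> cases outR k <;> cases qf v.1 <;> rfl
  have hc : code (a + f.π (R.n k) b) = Nat.xor (cv u) (Chk.app (cX k) v.1) := by
    rw [code_add, hXb, code_cvV hu]; rfl
  obtain ⟨C, hC, hpw⟩ := S.elC_pow_total f ((R.nx k hk).mul hY) hp hog (a + f.π (R.n k) b)
    (xor (bKf (cv u) (Chk.app (cX k) v.1)) (xor (ce u) (xor v.2.1 (outR k && qf v.1)))) hn
  rw [← hr, hpow, S.elC_one f] at hpw
  rw [S.z_mem f hn (fun j hj h0 => by rw [hπr]; exact hmin j (Nat.zero_le _) (by omega) h0) (by rw [hπr, h1]) hpw,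
    ← qB_code, hC, hc]
  simp only [hit]
  cases hq : qf (Chk.app (normC (prodAt k e) d.1) (Nat.xor (cv u) (Chk.app (cX k) v.1)))
  · simp only [cond_false, Bool.false_eq_true, false_or]
    by_cases h0 : Chk.app (normC (prodAt k e) d.1) (Nat.xor (cv u) (Chk.app (cX k) v.1)) = 0
    · rw [h0, Nat.beq_refl, cond_true]
      exact ⟨fun h => h.2, fun h => ⟨rfl, h⟩⟩
    · rw [show Nat.beq (Chk.app (normC (prodAt k e) d.1) (Nat.xor (cv u) (Chk.app (cX k) v.1))) 0 = false from
        Bool.eq_false_iff.2 fun e' => h0 (Nat.eq_of_beq_eq_true e'), cond_false]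
      exact iff_of_false (fun h => h0 h.1) Bool.false_ne_true
  · simp

end Cfsg.Agent.Spor.JFour
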