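import Cfsg.Agent.Lib.Spor.JFourInvol
import Cfsg.Agent.Lib.Spor.JFourOuter

/-!
Janko four type: lifts normalising the group of order three, and multiplication of the centraliser in coordinates.
-/

set_option autoImplicit false
set_option maxRecDepth 100000
set_option linter.unusedSectionVars false

namespace Cfsg.Agent.Spor.JFour

open Cfsg.Agent.Spor.SUSix (V6 code code_lt vecOf_code)
open Cfsg.Agent.Spor.SpFour (F4)

attribute [local irreducible] Gam Kp Chk.app

universe u

variable {G : Type u} [Group G] [Finite G] {z : G} {Q N : Subgroup G} {x : G}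

/-- elements of the centraliser normalising the group of order three -/
def NXs (x : G) (c : Subgroup.centralizer ({z} : Set G)) : Prop :=
  (c : G) * x * (c : G)⁻¹ = x ∨ (c : G) * x * (c : G)⁻¹ = x⁻¹

/-- the outer flag of a permutation -/
noncomputable def outP (p : PV) : Bool := by classical exact decide (p ∉ Kp)

theorem outP_true {p : PV} : outP p = true ↔ p ∉ Kp := by simp [outP]

theorem outP_false {p : PV} : outP p = false ↔ p ∈ Kp := by simp [outP]

theorem NXs.one : NXs x (1 : Subgroup.centralizer ({z} : Set G)) := Or.inl (by simp)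

theorem NXs.mul {c d : Subgroup.centralizer ({z} : Set G)} (hc : NXs x c) (hd : NXs x d) : NXs x (c * d) := by
  have hcd : ((c * d : Subgroup.centralizer ({z} : Set G)) : G) * x *
      ((c * d : Subgroup.centralizer ({z} : Set G)) : G)⁻¹ = (c : G) * ((d : G) * x * (d : G)⁻¹) * (c : G)⁻¹ := by
    rw [Subgroup.coe_mul]; group
  have hi : ∀ y, (c : G) * y⁻¹ * (c : G)⁻¹ = ((c : G) * y * (c : G)⁻¹)⁻¹ := fun y => by group
  rcases hc with hc | hc <;> rcases hd with hd | hd <;> simp only [NXs, hcd, hd, hi, hc, inv_inv] <;>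
    first
      | exact Or.inl trivial
      | exact Or.inr trivial
      | simp

theorem NXs.inv {c : Subgroup.centralizer ({z} : Set G)} (hc : NXs x c) : NXs x c⁻¹ := by
  rcases hc with hc | hc
  · refine Or.inl ?_
    conv_lhs => rw [← hc]
    rw [Subgroup.coe_inv]; group
  · refine Or.inr ?_
    have h2 : (c : G) * x⁻¹ * (c : G)⁻¹ = x := by
      rw [show (c : G) * x⁻¹ * (c : G)⁻¹ = ((c : G) * x * (c : G)⁻¹)⁻¹ by group, hc, inv_inv]
    conv_lhs => rw [← h2]
    rw [Subgroup.coe_inv]; group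

variable (S : Big z Q N x) (f : Frame z Q x)

include S f

theorem Big.gW_ne_inv : gW⁻¹ ≠ gW := fun h => gW_facts.2 (by
  have h2 : gW ^ 2 = 1 := by rw [pow_two]; nth_rewrite 1 [← h]; exact inv_mul_cancel _
  have h3 := gW_facts.1
  rwa [pow_succ, h2, one_mul] at h3)

theorem Big.NX_comm {c : Subgroup.centralizer ({z} : Set G)} (hc : NXs x c) :
    f.π c ∈ Kp ↔ Commute c S.base.xC := by
  refine ⟨fun hK => ?_, fun h => S.Kp_of_comm f h⟩
  rcases hc with hc | hc
  · exact Subtype.ext (mul_inv_eq_iff_eq_mul.1 hc)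
  · exfalso
    have h1 : f.π (c * S.base.xC * c⁻¹) = gW := by
      rw [map_mul, map_mul, map_inv, f.pi_x S.base.xC rfl, ((f.mem_Kp c).1 hK).eq, mul_inv_cancel_right]
    rw [show c * S.base.xC * c⁻¹ = S.base.xC⁻¹ from Subtype.ext hc, map_inv, f.pi_x S.base.xC rfl] at h1
    exact S.gW_ne_inv f h1

theorem Big.lift_NX {p : PV} (hp : p ∈ Gam) : ∃ c, NXs x c ∧ f.π c = p := by
  by_cases hK : p ∈ Kp
  · obtain ⟨c, hc, hπ⟩ := S.lift f hK
    exact ⟨c, Or.inl (mul_inv_eq_iff_eq_mul.2 (congrArg Subtype.val hc.eq)), hπ⟩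
  obtain ⟨n0, hn0z, hn0x⟩ := S.base.inv
  set nC : Subgroup.centralizer ({z} : Set G) := ⟨n0, Subgroup.mem_centralizer_singleton_iff.2 hn0z⟩
  have hn0K : f.π nC ∉ Kp := fun h => by
    have h1 : f.π (nC * S.base.xC * nC⁻¹) = gW := by
      rw [map_mul, map_mul, map_inv, f.pi_x S.base.xC rfl, ((f.mem_Kp nC).1 h).eq, mul_inv_cancel_right]
    rw [show nC * S.base.xC * nC⁻¹ = S.base.xC⁻¹ from Subtype.ext hn0x, map_inv, f.pi_x S.base.xC rfl] at h1
    exact S.gW_ne_inv f h1
  have hG : f.π nC ∈ Gam := (f.range _).2 ⟨nC, rfl⟩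
  have hq : p * (f.π nC)⁻¹ ∈ Kp := by
    have h := Subgroup.mul_mem_iff_of_index_two (index_Gam) (a := (⟨p, hp⟩ : Gam))
      (b := (⟨(f.π nC)⁻¹, inv_mem hG⟩ : Gam))
    simp only [Subgroup.mem_subgroupOf, Subgroup.coe_mul] at h
    exact h.2 (iff_of_false hK fun h' => hn0K (inv_inv (f.π nC) ▸ inv_mem h'))
  obtain ⟨k, hk, hkπ⟩ := S.lift f hq
  exact ⟨k * nC, (show NXs x k from Or.inl (mul_inv_eq_iff_eq_mul.2 (congrArg Subtype.val hk.eq))).mul
    (Or.inr hn0x), by rw [map_mul, hkπ, inv_mul_cancel_right]⟩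

theorem Big.ker_NX {c : Subgroup.centralizer ({z} : Set G)} (hc : NXs x c) (h : f.π c = 1) :
    ∃ s, (c : G) = zp z s := by
  have hx : Commute c S.base.xC := (S.NX_comm f hc).1 (h ▸ one_mem _)
  rcases S.ker f ((f.ker c).1 h) (congrArg Subtype.val hx.eq) with e | e
  · exact ⟨false, e⟩
  · exact ⟨true, e⟩

theorem Big.pair_NX {c d : Subgroup.centralizer ({z} : Set G)} (hc : NXs x c) (hd : NXs x d)
    (h : f.π c = f.π d) : ∃ s, (d : G) = (c : G) * zp z s := by
  obtain ⟨s, hs⟩ := S.ker_NX f (hc.inv.mul hd) (by rw [map_mul, map_inv, h, inv_mul_cancel])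
  exact ⟨s, eq_mul_of_inv_mul_eq hs⟩

omit S in
theorem Frame.pi_mem (c : Subgroup.centralizer ({z} : Set G)) : f.π c ∈ Gam := (f.range _).2 ⟨c, rfl⟩

omit S in
theorem outP_mul (c d : Subgroup.centralizer ({z} : Set G)) :
    outP (f.π (c * d)) = xor (outP (f.π c)) (outP (f.π d)) := by
  have h := Subgroup.mul_mem_iff_of_index_two (index_Gam) (a := (⟨f.π c, f.pi_mem c⟩ : Gam))
    (b := (⟨f.π d, f.pi_mem d⟩ : Gam))
  simp only [Subgroup.mem_subgroupOf, Subgroup.coe_mul] at h
  rw [map_mul]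
  cases ec : outP (f.π c) <;> cases ed : outP (f.π d) <;> simp only [outP_true, outP_false] at ec ed
  · exact outP_false.2 (h.2 (iff_of_true ec ed))
  · exact outP_true.2 fun e => ed ((h.1 e).1 ec)
  · exact outP_true.2 fun e => ec ((h.1 e).2 ed)
  · exact outP_false.2 (h.2 (iff_of_false ec ed))

/-- conjugating the section by a normalising element -/
theorem Big.sec_conjN {c : Subgroup.centralizer ({z} : Set G)} (hc : NXs x c) (v : V6) :
    (c : G) * sec f v * (c : G)⁻¹ = sec f (f.π c v) * zp z (outP (f.π c) && qB v) := by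
  by_cases hK : f.π c ∈ Kp
  · rw [outP_false.2 hK, Bool.false_and, zp_false, mul_one, S.sec_conj f ((S.NX_comm f hc).1 hK)]
  rw [outP_true.2 hK, Bool.true_and]
  have hinv : (c : G) * x * (c : G)⁻¹ = x⁻¹ := hc.resolve_left fun h =>
    hK ((S.NX_comm f hc).2 (Subtype.ext (mul_inv_eq_iff_eq_mul.1 h)))
  obtain ⟨hq, hqv, hqe⟩ := S.sec_spec f v
  set q := sec f v
  have hcz : Commute (c : G) z := Subgroup.mem_centralizer_singleton_iff.1 c.2
  have hxz : Commute x z := S.base.ord.xz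
  set q1 := x * q * x⁻¹ with hq1
  set q2 := x * q1 * x⁻¹ with hq2
  have h1 : q1 ∈ Q := S.base.ord.normQ x hxz q hq
  have h2 : q2 ∈ Q := S.base.ord.normQ x hxz q1 h1
  have v1 : f.vec q1 = F4.w • v := by rw [hq1, f.vec_xc S.base hq, hqv]
  have v2 : f.vec q2 = F4.w • (F4.w • v) := by rw [hq2, f.vec_xc S.base h1, v1]
  have hsum : F4.w • v + F4.w • (F4.w • v) = v := by
    have key : ∀ a : F4, F4.w * a + F4.w * (F4.w * a) = a := by decide +kernel
    exact funext fun i => key _
  have hkeep : ∀ w : V6, qB (F4.w • w) = qB w := fun w => by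
    show Chk.qb (code (F4.w • w)) = Chk.qb (code w)
    rw [← code_vecOf (code w) (code_lt w), vecOf_code]
    exact (herm_eq_iff _ _).1 (by rw [← gW_apply]; exact (gP_lin 3 (by norm_num)).form w)
  have hcm : q2 * q1 = q1 * q2 * zp z (qB v) := by
    have h := f.comm_zp S h1 h2
    rw [v1, v2, tB_eq, hsum] at h
    simp only [hkeep] at h
    rw [h]
    cases qB v <;> rfl
  have hcube : x * x * x = 1 := by
    rw [← pow_two, ← pow_succ]; exact S.base.ord.cube
  have hm : ∀ w : G, x * ((c : G) * w * (c : G)⁻¹) * x⁻¹ = (c : G) * (x⁻¹ * w * x) * (c : G)⁻¹ := fun w => by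
    have e : x = (c : G) * x⁻¹ * (c : G)⁻¹ := by
      rw [show (c : G) * x⁻¹ * (c : G)⁻¹ = ((c : G) * x * (c : G)⁻¹)⁻¹ by group, hinv, inv_inv]
    calc x * ((c : G) * w * (c : G)⁻¹) * x⁻¹
        = ((c : G) * x⁻¹ * (c : G)⁻¹) * ((c : G) * w * (c : G)⁻¹) * ((c : G) * x⁻¹ * (c : G)⁻¹)⁻¹ := by rw [← e]
      _ = _ := by group
  have hback : x⁻¹ * q * x = q2 := by
    rw [hq2, hq1, show x⁻¹ = x * x from inv_eq_of_mul_eq_one_right (by rw [← mul_assoc, hcube])]
    rw [show x * (x * q * (x * x)) * (x * x) = x * x * q * (x * (x * x * x)) by group, hcube, mul_one]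
  have hback2 : x⁻¹ * q2 * x = q1 := by rw [hq2]; group
  have hcq : (c : G) * q * (c : G)⁻¹ ∈ Q := S.base.ord.normQ _ hcz _ hq
  have hcv : f.vec ((c : G) * q * (c : G)⁻¹) = f.π c v := by rw [f.vec_conj c q hq, hqv]
  have heta : eta x ((c : G) * q * (c : G)⁻¹) = zp z (qB v) := by
    rw [eta, hm q, hback, hm q2, hback2]
    have hqe' : q * q1 * q2 = 1 := hqe
    calc (c : G) * q * (c : G)⁻¹ * ((c : G) * q2 * (c : G)⁻¹) * ((c : G) * q1 * (c : G)⁻¹)
        = (c : G) * (q * (q2 * q1)) * (c : G)⁻¹ := by group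
      _ = (c : G) * (q * q1 * q2 * zp z (qB v)) * (c : G)⁻¹ := by rw [hcm]; group
      _ = _ := by rw [hqe', one_mul, (S.zp_comm (qB v) hcz).eq, mul_inv_cancel_right]
  have key := S.sec_eq f (mul_mem hcq (S.zp_mem (qB v))) (v := f.π c v)
    (by rw [f.vec_mul _ hcq _ (S.zp_mem _), f.vec_zp S, add_zero, hcv])
    (by rw [S.eta_add_zp f hcq, heta, S.zp_mul, Bool.xor_self, zp_false])
  rw [key, mul_assoc _ (zp z (qB v)), S.zp_mul, Bool.xor_self, zp_false, mul_one]

omit S in
/-- an element in coordinates -/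
noncomputable def elc (a : V6) (e : Bool) (k : Subgroup.centralizer ({z} : Set G)) : G :=
  sec f a * zp z e * (k : G)

theorem Big.elc_mul {c : Subgroup.centralizer ({z} : Set G)} (hc : NXs x c) (d : Subgroup.centralizer ({z} : Set G))
    (a b : V6) (e r : Bool) : elc f a e c * elc f b r d =
      elc f (a + f.π c b) (xor e (xor r (xor (bB a (f.π c b)) (outP (f.π c) && qB b)))) (c * d) := by
  have hcz : Commute (c : G) z := Subgroup.mem_centralizer_singleton_iff.1 c.2
  set w := f.π c b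
  set o := outP (f.π c) && qB b
  have hcb : (c : G) * sec f b = sec f w * zp z o * (c : G) := mul_inv_eq_iff_eq_mul.1 (S.sec_conjN f hc b)
  have hw := (S.sec_spec f w).1
  calc sec f a * zp z e * (c : G) * (sec f b * zp z r * (d : G))
      = sec f a * zp z e * ((c : G) * sec f b) * zp z r * (d : G) := by group
    _ = sec f a * (zp z e * sec f w) * zp z o * ((c : G) * zp z r) * (d : G) := by rw [hcb]; group
    _ = sec f a * (sec f w * zp z e) * zp z o * (zp z r * (c : G)) * (d : G) := by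
        rw [← (S.zp_commQ e hw).eq, (S.zp_comm r hcz).eq]
    _ = sec f a * sec f w * (zp z e * (zp z o * zp z r)) * ((c : G) * (d : G)) := by group
    _ = sec f (a + w) * (zp z (bB a w) * (zp z e * (zp z o * zp z r))) * ((c : G) * (d : G)) := by
        rw [S.sec_mul f]; group
    _ = _ := by
        rw [S.zp_mul, S.zp_mul, S.zp_mul, elc, Subgroup.coe_mul]
        congr 2
        cases e <;> cases r <;> cases bB a w <;> cases o <;> rfl

theorem Big.elc_inj {a b : V6} {e r : Bool} {c : Subgroup.centralizer ({z} : Set G)}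
    (h : elc f a e c = elc f b r c) : a = b ∧ e = r := by
  have h' : sec f a * zp z e = sec f b * zp z r := mul_right_cancel h
  obtain ⟨ha, hav, -⟩ := S.sec_spec f a
  obtain ⟨hb, hbv, -⟩ := S.sec_spec f b
  have hv := congrArg f.vec h'
  rw [f.vec_mul _ ha _ (S.zp_mem e), f.vec_mul _ hb _ (S.zp_mem r), f.vec_zp S, f.vec_zp S, hav, hbv, add_zero,
    add_zero] at hv
  subst hv
  exact ⟨rfl, S.zp_inj (mul_left_cancel h')⟩

theorem Big.elc_exists {j c : Subgroup.centralizer ({z} : Set G)} (h : f.π j = f.π c) :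
    ∃ a e, (j : G) = elc f a e c := by
  have hq : ((j * c⁻¹ : Subgroup.centralizer ({z} : Set G)) : G) ∈ Q :=
    (f.ker _).1 (by rw [map_mul, map_inv, h, mul_inv_cancel])
  obtain ⟨hs, hsv, -⟩ := S.sec_spec f (f.vec ((j * c⁻¹ : Subgroup.centralizer ({z} : Set G)) : G))
  set q := ((j * c⁻¹ : Subgroup.centralizer ({z} : Set G)) : G) with hqdef
  have hj : (j : G) = q * (c : G) := by rw [hqdef, Subgroup.coe_mul, Subgroup.coe_inv, inv_mul_cancel_right]
  rcases (f.vec_eq _ hs _ hq).1 hsv with e | e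
  · exact ⟨f.vec q, false, by show _ = sec f (f.vec q) * zp z false * (c : G); rw [zp_false, mul_one, ← e, hj]⟩
  · exact ⟨f.vec q, true, by show _ = sec f (f.vec q) * zp z true * (c : G); rw [zp_true, ← e, hj]⟩

/-- the projection of a product in coordinates -/
theorem Big.elc_mem (a : V6) (e : Bool) (c : Subgroup.centralizer ({z} : Set G)) :
    ∃ j : Subgroup.centralizer ({z} : Set G), (j : G) = elc f a e c ∧ f.π j = f.π c := by
  have h1 : sec f a * zp z e ∈ Q := mul_mem (S.sec_spec f a).1 (S.zp_mem e)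
  refine ⟨⟨sec f a * zp z e, S.base.mem_C h1⟩ * c, by simp [elc], ?_⟩
  rw [map_mul, (f.ker ⟨sec f a * zp z e, S.base.mem_C h1⟩).2 h1, one_mul]

end Cfsg.Agent.Spor.JFour
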