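import Cfsg.Agent.Lib.Spor.JFourOrder.HFacts

/-!
Janko four type: coordinates of the involutions of the centraliser over a representative, and their classes.
-/

set_option autoImplicit false
set_option maxRecDepth 100000
set_option linter.unusedSectionVars false

namespace Cfsg.Agent.Spor.JFour

open Cfsg.Agent.Spor.SUSix (V6 code code_lt vecOf_code)
open Cfsg.Agent.Spor.SpFour (F4)
open Cfsg.Agent.Spor.LFT (iT)
open OChk4

attribute [local irreducible] Gam Kp Chk.app

/-! ### the tables -/

theorem qf_eq {k : ℕ} (hk : k < 4096) : qf k = Chk.qb k := by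
  have h := tab_ok
  simp only [OChk4.tabOK, Bool.and_eq_true, List.all_eq_true, List.mem_range, beq_iff_eq] at h
  exact h.2 k hk

theorem wL_eq : ODt.wL = Chk.cW := by
  have h := tab_ok
  simp only [OChk4.tabOK, Bool.and_eq_true, leq_iff] at h
  exact h.1

theorem qB_code (v : V6) : qf (code v) = qB v := qf_eq (code_lt v)

theorem bB_code (u v : V6) : bKf (code u) (code v) = bB u v := by
  have hw : ∀ k, wf k = Chk.app Chk.cW k := fun k => by rw [wf, wL_eq]
  have hl : ∀ w : V6, Chk.app Chk.cW (code w) = code (F4.w • w) := fun w => (code_smw w).symm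
  have hb : ∀ a b : V6, bf (code a) (code b) = Chk.bb (code a) (code b) := fun a b => by
    show (qf (code a ^^^ code b) ^^ qf (code a) ^^ qf (code b)) = _
    rw [qf_eq (xor_lt (code_lt a) (code_lt b)), qf_eq (code_lt a), qf_eq (code_lt b)]
    rfl
  rw [bB_eq]
  simp only [bKf, hw, hl, hb, tB]

/-- vector of a code of a lift -/
def cvV (n : ℕ) : V6 := SUSix.vecOf (cv n)

theorem cv_lt {n : ℕ} (h : n < 8192) : cv n < 4096 := by
  rw [cv, show Nat.shiftRight n 1 = n >>> 1 from rfl, Nat.shiftRight_eq_div_pow]; omega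

theorem code_cvV {n : ℕ} (h : n < 8192) : code (cvV n) = cv n := code_vecOf _ (cv_lt h)

theorem cv_mk (a : ℕ) (e : Bool) : cv (2 * a + (bif e then 1 else 0)) = a ∧ ce (2 * a + (bif e then 1 else 0)) = e := by
  have h1 : ∀ n, cv n = n / 2 := fun n => by
    rw [cv, show Nat.shiftRight n 1 = n >>> 1 from rfl, Nat.shiftRight_eq_div_pow]
  have h2 : ∀ n, ce n = Nat.beq (n % 2) 1 := fun n => by
    rw [ce, show Nat.land n 1 = n % 2 from Nat.and_two_pow_sub_one_eq_mod n 1]
  rw [h1, h2]
  cases e <;> simp only [cond_true, cond_false]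
  · exact ⟨by omega, by rw [show (2 * a + 0) % 2 = 0 by omega]; rfl⟩
  · exact ⟨by omega, by rw [show (2 * a + 1) % 2 = 1 by omega]; rfl⟩

theorem mk_cv (n : ℕ) : 2 * cv n + (bif ce n then 1 else 0) = n := by
  rw [cv, ce, show Nat.shiftRight n 1 = n >>> 1 from rfl, Nat.shiftRight_eq_div_pow,
    show Nat.land n 1 = n % 2 from Nat.and_two_pow_sub_one_eq_mod n 1]
  rcases Nat.mod_two_eq_zero_or_one n with h | h <;> rw [h]
  · show 2 * (n / 2) + 0 = n; omega
  · show 2 * (n / 2) + 1 = n; omega

theorem cv_flip (n : ℕ) : cv (n ^^^ 1) = cv n ∧ ce (n ^^^ 1) = !ce n := by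
  obtain ⟨a, e, rfl⟩ : ∃ a e, n = 2 * a + (bif e then 1 else 0) := ⟨_, _, (mk_cv n).symm⟩
  have h : (2 * a + (bif e then 1 else 0)) ^^^ 1 = 2 * a + (bif !e then 1 else 0) := by
    cases e <;> simp [Nat.xor_one_of_even, Nat.xor_one_of_odd, parity_simps]
  rw [h, (cv_mk _ _).1, (cv_mk _ _).1, (cv_mk _ _).2, (cv_mk _ _).2]
  exact ⟨rfl, rfl⟩

universe u

variable {G : Type u} [Group G] [Finite G] {z : G} {Q N : Subgroup G} {x : G}

/-- an element of the extraspecial subgroup in coordinates -/
noncomputable def qC (S : Big z Q N x) (f : Frame z Q x) (a : V6) (e : Bool) : Subgroup.centralizer ({z} : Set G) :=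
  ⟨sec f a * zp z e, S.base.mem_C (mul_mem (S.sec_spec f a).1 (S.zp_mem e))⟩

/-- an element of the centraliser in coordinates -/
noncomputable def elC (S : Big z Q N x) (f : Frame z Q x) (a : V6) (e : Bool)
    (c : Subgroup.centralizer ({z} : Set G)) : Subgroup.centralizer ({z} : Set G) :=
  qC S f a e * c

variable (S : Big z Q N x) (f : Frame z Q x)

theorem outP_map {p q : PV} (hp : p ∈ Gam) (hq : q ∈ Gam) (f : Frame z Q x) :
    outP (p * q) = xor (outP p) (outP q) := by
  obtain ⟨c, rfl⟩ := (f.range p).1 hp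
  obtain ⟨d, rfl⟩ := (f.range q).1 hq
  rw [← map_mul, outP_mul f]

theorem outP_one : outP (1 : PV) = false := outP_false.2 (one_mem _)

include S f

theorem Big.coe_elC (a : V6) (e : Bool) (c : Subgroup.centralizer ({z} : Set G)) :
    (elC S f a e c : G) = elc f a e c := rfl

theorem Big.pi_qC (a : V6) (e : Bool) : f.π (qC S f a e) = 1 :=
  (f.ker _).2 (mul_mem (S.sec_spec f a).1 (S.zp_mem e))

theorem Big.pi_elC (a : V6) (e : Bool) (c : Subgroup.centralizer ({z} : Set G)) : f.π (elC S f a e c) = f.π c := by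
  rw [elC, map_mul, S.pi_qC f, one_mul]

theorem Big.qC_zero : qC S f 0 false = 1 := Subtype.ext (by
  show sec f 0 * zp z false = 1
  rw [S.sec_zero f, zp_false, one_mul])

theorem Big.elC_one (a : V6) (e : Bool) : elC S f a e 1 = qC S f a e := mul_one _

theorem Big.elC_mul {c : Subgroup.centralizer ({z} : Set G)} (hc : NXs x c)
    (d : Subgroup.centralizer ({z} : Set G)) (a b : V6) (e r : Bool) : elC S f a e c * elC S f b r d =
      elC S f (a + f.π c b) (xor e (xor r (xor (bB a (f.π c b)) (outP (f.π c) && qB b)))) (c * d) :=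
  Subtype.ext (S.elc_mul f hc d a b e r)

theorem Big.qC_mul (a b : V6) (e r : Bool) : qC S f a e * qC S f b r = qC S f (a + b) (xor e (xor r (bB a b))) := by
  have h := S.elC_mul f NXs.one 1 a b e r
  simp only [S.elC_one f, map_one, Equiv.Perm.one_apply, outP_one, Bool.false_and, Bool.xor_false, mul_one] at h
  exact h

theorem Big.bB_self (v : V6) : bB v v = qB v := by
  obtain ⟨hs, hv, -⟩ := S.sec_spec f v
  have h := f.sq_zp S hs
  have e : v + v = 0 := code_inj (by rw [code_add, Nat.xor_self, code_zero])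
  rw [S.sec_mul f, e, S.sec_zero f, one_mul, hv] at h
  exact S.zp_inj h

theorem Big.qC_inv (a : V6) (e : Bool) : (qC S f a e)⁻¹ = qC S f a (xor e (qB a)) := by
  refine inv_eq_of_mul_eq_one_right ?_
  rw [S.qC_mul f, S.bB_self f, show a + a = 0 from code_inj (by rw [code_add, Nat.xor_self, code_zero]),
    ← S.qC_zero f]
  congr 1
  cases e <;> cases qB a <;> rfl

theorem Big.qC_elC (a b : V6) (e r : Bool) (d : Subgroup.centralizer ({z} : Set G)) :
    qC S f a e * elC S f b r d = elC S f (a + b) (xor e (xor r (bB a b))) d := by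
  rw [elC, ← mul_assoc, S.qC_mul f]; rfl

theorem Big.elC_flip (a : V6) (e s : Bool) (c d : Subgroup.centralizer ({z} : Set G)) (h : (d : G) = (c : G) * zp z s) :
    elC S f a e d = elC S f a (xor e s) c := by
  refine Subtype.ext ?_
  show sec f a * zp z e * (d : G) = sec f a * zp z (xor e s) * (c : G)
  rw [h, ← S.zp_mul, (S.zp_comm s (Subgroup.mem_centralizer_singleton_iff.1 c.2)).eq]
  group

/-- conjugation by a normalising element -/
theorem Big.conjN {g : Subgroup.centralizer ({z} : Set G)} (hg : NXs x g) (a : V6) (e : Bool)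
    (c : Subgroup.centralizer ({z} : Set G)) :
    g * elC S f a e c * g⁻¹ = elC S f (f.π g a) (xor e (outP (f.π g) && qB a)) (g * c * g⁻¹) := by
  refine Subtype.ext ?_
  have hgz : Commute (g : G) z := Subgroup.mem_centralizer_singleton_iff.1 g.2
  show (g : G) * (sec f a * zp z e * (c : G)) * (g : G)⁻¹ =
    sec f (f.π g a) * zp z (xor e (outP (f.π g) && qB a)) * ((g : G) * c * (g : G)⁻¹)
  calc (g : G) * (sec f a * zp z e * (c : G)) * (g : G)⁻¹
      = ((g : G) * sec f a * (g : G)⁻¹) * ((g : G) * zp z e) * (g : G)⁻¹ * ((g : G) * c * (g : G)⁻¹) := by group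
    _ = sec f (f.π g a) * (zp z (outP (f.π g) && qB a) * zp z e) * ((g : G) * c * (g : G)⁻¹) := by
        rw [(S.zp_comm e hgz).eq, S.sec_conjN f hg]; group
    _ = _ := by rw [S.zp_mul, Bool.xor_comm]

/-- conjugation by an element of the extraspecial subgroup -/
theorem Big.conjQ (v a : V6) (s e : Bool) {c : Subgroup.centralizer ({z} : Set G)} (hc : NXs x c) :
    qC S f v s * elC S f a e c * (qC S f v s)⁻¹ = elC S f (v + a + f.π c v)
      (xor (xor e (xor (bB v a) (bB (v + a) (f.π c v)))) (!outP (f.π c) && qB v)) c := by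
  rw [S.qC_elC f, S.qC_inv f, ← S.elC_one f v, S.elC_mul f hc, mul_one]
  congr 1
  cases s <;> cases e <;> cases bB v a <;> cases bB (v + a) (f.π c v) <;> cases outP (f.π c) <;> cases qB v <;> rfl

theorem Big.qB_pi (c : Subgroup.centralizer ({z} : Set G)) (v : V6) : qB (f.π c v) = qB v := by
  obtain ⟨hs, hv, -⟩ := S.sec_spec f v
  have hcz : Commute (c : G) z := Subgroup.mem_centralizer_singleton_iff.1 c.2
  have hq := S.base.ord.normQ _ hcz _ hs
  have h1 := f.sq_zp S hq
  rw [f.vec_conj c _ hs, hv, conj_mul, f.sq_zp S hs, hv, (S.zp_comm _ hcz).eq, mul_inv_cancel_right] at h1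
  exact (S.zp_inj h1).symm

omit S f

/-- lifts of the representatives -/
structure Reps (S : Big z Q N x) (f : Frame z Q x) where
  /-- the lifts -/
  n : ℕ → Subgroup.centralizer ({z} : Set G)
  nx : ∀ k, k < 4 → NXs x (n k)
  cols : ∀ k, k < 4 → cols (f.π (n k)) = cX k
  sq : ∀ k, k < 4 → n k * n k = 1
  three : n 3 = 1

include S f

theorem Big.exists_reps : Nonempty (Reps S f) := by
  choose n hn hc hs using S.rep_lift f
  refine ⟨⟨fun k => if h : k < 3 then n k h else 1, fun k _ => ?_, fun k hk => ?_, fun k _ => ?_, rfl⟩⟩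
  · by_cases h : k < 3
    · rw [dif_pos h]; exact hn k h
    · rw [dif_neg h]; exact NXs.one
  · by_cases h : k < 3
    · rw [dif_pos h, hc k h, cX, show Nat.beq k 3 = false from Bool.eq_false_iff.2 fun e => by
        have := Nat.eq_of_beq_eq_true e; omega]
      rfl
    · rw [dif_neg h, map_one, cols_one, show k = 3 by omega]; rfl
  · by_cases h : k < 3
    · rw [dif_pos h]; exact hs k h
    · rw [dif_neg h, one_mul]

variable (R : Reps S f)

theorem Big.rep_app {k : ℕ} (hk : k < 4) (v : V6) : code (f.π (R.n k) v) = Chk.app (cX k) (code v) := by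
  rw [app_cols (Gam_addP (f.pi_mem _)), R.cols k hk]

theorem Big.rep_out {k : ℕ} (hk : k < 4) : outP (f.π (R.n k)) = outR k := by
  by_cases h3 : k = 3
  · rw [h3, R.three, map_one, outP_one]; rfl
  have hk3 : k < 3 := by omega
  have hl := linL_iff (f.pi_mem (R.n k))
  rw [R.cols k hk, cX, show Nat.beq k 3 = false from Bool.eq_false_iff.2 fun e => h3 (Nat.eq_of_beq_eq_true e),
    cond_false, covR_lin k hk3] at hl
  rw [outR, show Nat.beq k 3 = false from Bool.eq_false_iff.2 fun e => h3 (Nat.eq_of_beq_eq_true e), Bool.not_false,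
    Bool.and_true]
  cases e : Nat.beq k 0
  · exact outP_true.2 fun h => by rw [hl.2 h] at e; simp at e
  · exact outP_false.2 (hl.1 e)

/-- a lift over a representative -/
noncomputable def phiH {S : Big z Q N x} {f : Frame z Q x} (R : Reps S f) (k n : ℕ) :
    Subgroup.centralizer ({z} : Set G) :=
  elC S f (cvV n) (ce n) (R.n k)

/-- codes of the involutions over a representative -/
def codesK (k : ℕ) : List ℕ :=
  (List.range 8192).filter fun n => bif Nat.beq k 3 then !Nat.beq n 0 && !qf (cv n) else invAt k n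

theorem Big.phi_surj {k : ℕ} {q : Subgroup.centralizer ({z} : Set G)} (h : f.π q = f.π (R.n k)) :
    ∃ n < 8192, q = phiH R k n := by
  obtain ⟨a, e, he⟩ := S.elc_exists f h
  refine ⟨2 * code a + (bif e then 1 else 0), ?_, Subtype.ext ?_⟩
  · have := code_lt a
    cases e <;> simp <;> omega
  · rw [phiH, cvV, (cv_mk _ _).1, (cv_mk _ _).2, vecOf_code, he, S.coe_elC f]

theorem Big.phi_inj {k n m : ℕ} (hn : n < 8192) (hm : m < 8192) (h : phiH R k n = phiH R k m) : n = m := by
  obtain ⟨h1, h2⟩ := S.elc_inj f (congrArg Subtype.val h)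
  rw [← mk_cv n, ← mk_cv m, ← code_cvV hn, h1, code_cvV hm, h2]

theorem Big.phi_sq {k n : ℕ} (hk : k < 4) (hn : n < 8192) : phiH R k n * phiH R k n = 1 ↔
    Chk.app (cX k) (cv n) = cv n ∧ (outR k || !qf (cv n)) = true := by
  rw [phiH, S.elC_mul f (R.nx k hk), R.sq k hk, S.elC_one f, ← S.qC_zero f, S.rep_out f R hk]
  set a := cvV n with ha
  have hP : code (f.π (R.n k) a) = Chk.app (cX k) (cv n) := by rw [S.rep_app f R hk, code_cvV hn]
  have hq : qB a = qf (cv n) := by rw [← qB_code, code_cvV hn]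
  constructor
  · intro h
    obtain ⟨h1, h2⟩ := S.elc_inj f (c := 1) (congrArg (fun c : Subgroup.centralizer ({z} : Set G) => (c : G) * ((1 :
      Subgroup.centralizer ({z} : Set G)) : G)) h)
    have h3 : f.π (R.n k) a = a := code_inj (Nat.xor_eq_zero_iff.1 (by rw [← code_add, add_comm, h1, code_zero]))
    rw [h3, S.bB_self f, hq] at h2
    refine ⟨by rw [← hP, h3, code_cvV hn], ?_⟩
    revert h2
    cases ce n <;> cases qf (cv n) <;> cases outR k <;> decide
  · rintro ⟨h1, h2⟩
    have h3 : f.π (R.n k) a = a := code_inj (by rw [hP, h1, code_cvV hn])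
    rw [h3, S.bB_self f, hq, show a + a = 0 from code_inj (by rw [code_add, Nat.xor_self, code_zero])]
    congr 1
    revert h2
    cases ce n <;> cases qf (cv n) <;> cases outR k <;> decide

/-- the involutions over a representative -/
theorem Big.mem_codes {k n : ℕ} (hk : k < 4) (hn : n < 8192) :
    n ∈ codesK k ↔ phiH R k n * phiH R k n = 1 ∧ phiH R k n ≠ 1 := by
  rw [S.phi_sq f R hk hn, codesK, List.mem_filter, List.mem_range]
  by_cases h3 : k = 3
  · subst h3
    have h0 : phiH R 3 n ≠ 1 ↔ n ≠ 0 := by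
      have e : phiH R 3 0 = 1 := by
        rw [phiH, R.three, S.elC_one f, ← S.qC_zero f, cvV, show cv 0 = 0 from rfl, show ce 0 = false from rfl]
        congr 1
        exact code_inj ((code_vecOf 0 (by norm_num)).trans code_zero.symm)
      exact not_congr ⟨fun h => S.phi_inj f R hn (by norm_num) (h.trans e.symm), fun h => h ▸ e⟩
    rw [h0, cX, Nat.beq_refl, cond_true, cond_true, app_idL _ (cv_lt hn)]
    simp only [outR, Nat.beq_refl, Bool.not_true, Bool.and_false, Bool.false_or, Bool.and_eq_true, Bool.not_eq_true',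
      true_and, hn]
    refine ⟨fun h => ⟨h.2, fun e => ?_⟩, fun h => ⟨Bool.eq_false_iff.2 fun e => h.2 (Nat.eq_of_beq_eq_true e), h.1⟩⟩
    rw [e] at h
    exact absurd h.1 (by simp)
  · have hb : Nat.beq k 3 = false := Bool.eq_false_iff.2 fun e => h3 (Nat.eq_of_beq_eq_true e)
    have hne : phiH R k n ≠ 1 := by
      intro e
      have h := congrArg f.π e
      rw [phiH, S.pi_elC f, map_one] at h
      have hc := R.cols k hk
      rw [h, cols_one, cX, hb, cond_false] at hc
      have key : ∀ r < 3, Chk.idL ≠ Chk.cR r := by decide +kernel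
      exact key k (by omega) hc
    simp only [hb, cond_false, cX, invAt, Bool.and_eq_true, hn, true_and, and_iff_left hne]
    exact and_congr_left' ⟨Nat.eq_of_beq_eq_true, fun h => by rw [h]; exact Nat.beq_refl _⟩

/-- translation -/
theorem Big.phi_trans {k n v : ℕ} (hk : k < 3) (hn : n < 8192) (hv : v < 4096) :
    qC S f (SUSix.vecOf v) false * phiH R k n * (qC S f (SUSix.vecOf v) false)⁻¹ = phiH R k (OChk4.trans k v n) := by
  have hk4 : k < 4 := by omega
  have hX : cX k = Chk.cR k := by
    rw [cX, show Nat.beq k 3 = false from Bool.eq_false_iff.2 fun e => by have := Nat.eq_of_beq_eq_true e; omega]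
    rfl
  rw [phiH, S.conjQ f _ _ _ _ (R.nx k hk4), S.rep_out f R hk4, phiH]
  set V := SUSix.vecOf v
  have hV : code V = v := code_vecOf _ hv
  have hPV : code (f.π (R.n k) V) = Chk.app (Chk.cR k) v := by rw [S.rep_app f R hk4, hV, hX]
  have hlt : Nat.xor (Nat.xor v (cv n)) (Chk.app (Chk.cR k) v) < 4096 :=
    xor_lt (xor_lt hv (cv_lt hn)) (hPV ▸ code_lt _)
  simp only [OChk4.trans, Nat.add_eq, Nat.mul_eq]
  rw [show ∀ a e, cvV (2 * a + (bif e then 1 else 0)) = SUSix.vecOf a from fun a e => by rw [cvV, (cv_mk a e).1],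
    show ∀ a e, ce (2 * a + (bif e then 1 else 0)) = e from fun a e => (cv_mk a e).2]
  congr 1
  · refine code_inj ?_
    rw [code_vecOf _ hlt, code_add, code_add, hPV, hV, code_cvV hn]
    rfl
  · rw [← bB_code, ← bB_code, ← qB_code, code_add, code_cvV hn, hV, hPV]
    cases outR k <;> cases qf v <;> rfl

end Cfsg.Agent.Spor.JFour
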