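import Cfsg.Agent.Lib.Spor.JFourOrder.HHit

/-!
Janko four type: the number of pairs of involutions generating the central involution, by class labels.
-/

set_option autoImplicit false
set_option maxRecDepth 100000
set_option linter.unusedSectionVars false

namespace Cfsg.Agent.Spor.JFour

open Cfsg.Agent.Spor.SUSix (V6 code code_lt vecOf_code)
open Cfsg.Agent.Spor.CC
open OChk4

attribute [local irreducible] Gam Kp Chk.app

/-- weight of packed counts -/
def hWt (τ : ℕ → Bool) (pk : ℕ) : ℕ := ((List.range 10).map fun c => bif τ c then 0 else fld pk 24 c).sum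

/-- the partners of one representative -/
def hInner (τ : ℕ → Bool) (k j : ℕ) : ℕ :=
  ((List.zip (ODt.roots.getD k []) (htabOf k)).map fun q => q.1.2.1 * hWt τ (q.2.2.getD j 0)).sum

/-- members of the first class over one representative -/
def hPart (τ : ℕ → Bool) (k : ℕ) (cnt : List ℕ) : ℕ :=
  ((List.range cnt.length).map fun j =>
    bif τ ((ODt.urep.getD k []).getD j (0, 0)).2 then cnt.getD j 0 * hInner τ k j else 0).sum

/-- the number of pairs -/
def hSum (τ : ℕ → Bool) : ℕ :=
  1155 * hPart τ 0 [16, 16, 32, 32, 32, 32, 32, 32, 32, 32, 32] + 990 * hPart τ 1 [64, 64] + 4158 * hPart τ 2 [128] +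
    1386 * hInner τ 3 0

/-- the number of involutions of the central class -/
def hZ (τ : ℕ → Bool) : ℕ :=
  1 + 1386 + 532224 * (bif τ 3 then 1 else 0) + 63360 * (bif τ 4 then 1 else 0) + 63360 * (bif τ 5 then 1 else 0) +
    18480 * (bif τ 6 then 1 else 0) + 18480 * (bif τ 7 then 1 else 0) + 110880 * (bif τ 8 then 1 else 0) +
    221760 * (bif τ 9 then 1 else 0)

/-- all involutions -/
def hAll : ℕ := 1 + 1386 + 2772 + 532224 + 63360 + 63360 + 18480 + 18480 + 110880 + 221760

theorem foldl_pack (h : ℕ × Bool × ℕ → Bool) : ∀ (L : List (ℕ × Bool × ℕ)) (acc : ℕ), (∀ v ∈ L, v.2.2 < 10) →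
    L.foldl (fun acc v => bif h v then Nat.add acc (Nat.pow 2 (Nat.mul 24 v.2.2)) else acc) acc =
      acc + ∑ c ∈ Finset.range 10, L.countP (fun v => Nat.beq v.2.2 c && h v) * 2 ^ (24 * c)
  | [], acc, _ => by simp
  | v :: L, acc, hL => by
    rw [List.foldl_cons, foldl_pack h L _ fun w hw => hL w (List.mem_cons_of_mem _ hw)]
    simp only [List.countP_cons, add_mul, Finset.sum_add_distrib]
    cases hv : h v
    · simp
    · simp only [cond_true, Bool.and_true]
      rw [Finset.sum_eq_single (s := Finset.range 10)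
        (f := fun c => (if Nat.beq v.2.2 c = true then 1 else 0) * 2 ^ (24 * c)) v.2.2
        (fun c _ hne => by rw [if_neg fun e => hne (Nat.eq_of_beq_eq_true e).symm, zero_mul])
        (fun h' => absurd (Finset.mem_range.2 (hL v List.mem_cons_self)) h'), if_pos (Nat.beq_refl _), one_mul]
      show acc + 2 ^ (24 * v.2.2) + _ = _
      omega

theorem fld_sum : ∀ (i n : ℕ) (cnt : ℕ → ℕ), (∀ c, cnt c < 2 ^ 24) → i < n →
    (∑ c ∈ Finset.range n, cnt c * 2 ^ (24 * c)) / 2 ^ (24 * i) % 2 ^ 24 = cnt i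
  | i, 0, _, _, h => absurd h (Nat.not_lt_zero i)
  | 0, n + 1, cnt, hc, _ => by
    rw [Finset.sum_range_succ', mul_zero, pow_zero, Nat.div_one, mul_one,
      show ∑ c ∈ Finset.range n, cnt (c + 1) * 2 ^ (24 * (c + 1)) =
        2 ^ 24 * ∑ c ∈ Finset.range n, cnt (c + 1) * 2 ^ (24 * c) by
          rw [Finset.mul_sum]; exact Finset.sum_congr rfl fun c _ => by rw [Nat.mul_succ, pow_add]; ring,
      Nat.mul_add_mod, Nat.mod_eq_of_lt (hc 0)]
  | i + 1, n + 1, cnt, hc, h => by
    rw [Finset.sum_range_succ', mul_zero, pow_zero, mul_one,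
      show ∑ c ∈ Finset.range n, cnt (c + 1) * 2 ^ (24 * (c + 1)) =
        2 ^ 24 * ∑ c ∈ Finset.range n, cnt (c + 1) * 2 ^ (24 * c) by
          rw [Finset.mul_sum]; exact Finset.sum_congr rfl fun c _ => by rw [Nat.mul_succ, pow_add]; ring,
      show 2 ^ (24 * (i + 1)) = 2 ^ 24 * 2 ^ (24 * i) by rw [Nat.mul_succ, pow_add, mul_comm],
      ← Nat.div_div_eq_div_mul, Nat.mul_add_div (by norm_num), Nat.div_eq_of_lt (hc 0), add_zero]
    exact fld_sum i n (fun c => cnt (c + 1)) (fun c => hc _) (Nat.lt_of_succ_lt_succ h)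

theorem countP_split (h : ℕ × Bool × ℕ → Bool) (τ : ℕ → Bool) (n : ℕ) : ∀ L : List (ℕ × Bool × ℕ),
    (∀ v ∈ L, v.2.2 < n) → L.countP (fun v => !τ v.2.2 && h v) =
      ∑ c ∈ Finset.range n, bif τ c then 0 else L.countP fun v => Nat.beq v.2.2 c && h v
  | [], _ => by simp
  | v :: L, hL => by
    have e : ∀ c, (bif τ c then 0 else (v :: L).countP fun v => Nat.beq v.2.2 c && h v) =
        (bif τ c then 0 else L.countP fun v => Nat.beq v.2.2 c && h v) +
          (bif τ c then 0 else if (Nat.beq v.2.2 c && h v) = true then 1 else 0) := fun c => by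
      cases τ c <;> simp [List.countP_cons]
    rw [List.countP_cons, countP_split h τ n L fun w hw => hL w (List.mem_cons_of_mem _ hw),
      Finset.sum_congr rfl fun c _ => e c, Finset.sum_add_distrib]
    congr 1
    rw [Finset.sum_eq_single v.2.2 (fun c _ hne => by
      rw [show Nat.beq v.2.2 c = false from Bool.eq_false_iff.2 fun e => hne (Nat.eq_of_beq_eq_true e).symm]
      cases τ c <;> simp) fun h' => absurd (Finset.mem_range.2 (hL v List.mem_cons_self)) h', Nat.beq_refl]
    cases τ v.2.2 <;> simp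

theorem sum_group {α : Type} (key : α → ℕ) (g : ℕ → ℕ) (n : ℕ) : ∀ L : List α, (∀ a ∈ L, key a < n) →
    (L.map fun a => g (key a)).sum = ∑ j ∈ Finset.range n, L.countP (fun a => Nat.beq (key a) j) * g j
  | [], _ => by simp
  | a :: L, hL => by
    simp only [List.map_cons, List.sum_cons, List.countP_cons, add_mul, Finset.sum_add_distrib,
      sum_group key g n L fun b hb => hL b (List.mem_cons_of_mem _ hb)]
    rw [Finset.sum_eq_single (s := Finset.range n)
      (f := fun j => (if Nat.beq (key a) j = true then 1 else 0) * g j) (key a)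
      (fun c _ hne => by rw [if_neg fun e => hne (Nat.eq_of_beq_eq_true e).symm, zero_mul])
      (fun h' => absurd (Finset.mem_range.2 (hL a List.mem_cons_self)) h'), if_pos (Nat.beq_refl _), one_mul]
    omega

theorem sum_group_one {α : Type} : ∀ (L : List α) (P : α → Bool) (c : ℕ),
    L.countP P * c = (L.map fun a => bif P a then c else 0).sum
  | [], _, _ => by simp
  | a :: L, P, c => by
    rw [List.map_cons, List.sum_cons, List.countP_cons, ← sum_group_one L P c]
    cases P a <;> simp [add_mul, add_comm]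

theorem tab_mem {k : ℕ} (hk : k < 4) {q : (ℕ × ℕ × ℕ × List ℕ) × (ℕ × List ℕ)}
    (hq : q ∈ List.zip (ODt.roots.getD k []) (htabOf k)) : rootTab k q.1 q.2 = true := by
  obtain ⟨i, hi, rfl⟩ := List.mem_iff_getElem.1 hq
  have hA : i < (ODt.roots.getD k []).length := by simp only [List.length_zip] at hi; omega
  have hB : i < (htabOf k).length := by simp only [List.length_zip] at hi; omega
  rw [List.getElem_zip]
  match k, hk with
  | 0, _ => exact tabs_ok0 hA hB
  | 1, _ => exact tabs_ok1 hA hB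
  | 2, _ => exact tabs_ok2 hA hB
  | 3, _ => exact tabs_ok3 hA hB
  | k + 4, h => omega

theorem zip_len : ∀ k < 4, (htabOf k).length = (ODt.roots.getD k []).length := by decide +kernel

theorem qcls_ok : ((List.range 4096).all fun a => Nat.ble (qCls (2 * a)) 2) = true ∧
    (((codesK 3).filter fun n => Nat.beq (qCls n) 1).length = 1386) ∧ (codesK 3).length = 1 + 1386 + 2772 := by
  decide +kernel

theorem qCls_le (n : ℕ) : qCls n ≤ 2 := by
  unfold qCls
  cases Nat.beq (cv n) 0 <;> cases Chk.isA (cv n) <;> simp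

theorem sum_groupW {α : Type} (key w : α → ℕ) (g : ℕ → ℕ) (n : ℕ) : ∀ L : List α, (∀ a ∈ L, key a < n) →
    (L.map fun a => w a * g (key a)).sum =
      ∑ j ∈ Finset.range n, (L.map fun a => bif Nat.beq (key a) j then w a else 0).sum * g j
  | [], _ => by simp
  | a :: L, hL => by
    simp only [List.map_cons, List.sum_cons, add_mul, Finset.sum_add_distrib,
      sum_groupW key w g n L fun b hb => hL b (List.mem_cons_of_mem _ hb)]
    congr 1
    rw [Finset.sum_eq_single (key a)
      (fun c _ hne => by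
        rw [show Nat.beq (key a) c = false from Bool.eq_false_iff.2 fun e => hne (Nat.eq_of_beq_eq_true e).symm,
          cond_false, zero_mul])
      fun h' => absurd (Finset.mem_range.2 (hL a List.mem_cons_self)) h', Nat.beq_refl, cond_true]

theorem kind_data : (∀ e ∈ ODt.roots.getD 3 [], e.2.2.1 < 4) ∧ ∀ j < 4,
    ((ODt.roots.getD 3 []).map fun e => bif Nat.beq e.2.2.1 j then e.2.1 else 0).sum =
      [1155, 990, 4158, 1].getD j 0 := by
  decide +kernel

/-- the kinds of the roots of the last forest -/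
theorem kind_sum (Ψ : ℕ → ℕ) : ((ODt.roots.getD 3 []).map fun e => e.2.1 * Ψ e.2.2.1).sum =
    1155 * Ψ 0 + 990 * Ψ 1 + 4158 * Ψ 2 + Ψ 3 := by
  rw [sum_groupW _ _ Ψ 4 _ kind_data.1, Finset.sum_range_succ, Finset.sum_range_succ, Finset.sum_range_succ,
    Finset.sum_range_one, kind_data.2 0 (by norm_num), kind_data.2 1 (by norm_num), kind_data.2 2 (by norm_num),
    kind_data.2 3 (by norm_num)]
  simp only [List.getD_cons_zero, List.getD_cons_succ, one_mul]

theorem fld_div (v w i : ℕ) : fld v w i = v / 2 ^ (w * i) % 2 ^ w := by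
  show Nat.land (Nat.shiftRight v (w * i)) (2 ^ w - 1) = _
  rw [show Nat.shiftRight v (w * i) = v >>> (w * i) from rfl, Nat.shiftRight_eq_div_pow]
  exact Nat.and_two_pow_sub_one_eq_mod _ w

theorem zpow_conj_iff {H : Type*} [Group H] (c a r : H) :
    c * a * c⁻¹ ∈ Subgroup.zpowers (c * r * c⁻¹) ↔ a ∈ Subgroup.zpowers r := by
  rw [show c * a * c⁻¹ = MulAut.conj c a from rfl, show c * r * c⁻¹ = MulAut.conj c r from rfl,
    Subgroup.mem_zpowers_iff, Subgroup.mem_zpowers_iff]
  simp only [← map_zpow, EmbeddingLike.apply_eq_iff_eq]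

theorem uflip_ok : (List.range 4096).any (fun v => bKf v Chk.kA ^^ (bKf (Nat.xor v Chk.kA) v ^^ qf v)) = true := by
  decide +kernel

universe u

variable {G : Type u} [Group G] [Finite G] {z : G} {Q N : Subgroup G} {x : G}
variable (S : Big z Q N x) (f : Frame z Q x) (R : Reps S f)

/-- the involutions of the centraliser over an element -/
noncomputable def fibI (f : Frame z Q x) (Y : PV) : Finset (Subgroup.centralizer ({z} : Set G)) :=
  haveI := Fintype.ofFinite (Subgroup.centralizer ({z} : Set G))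
  haveI := Classical.decPred fun q : Subgroup.centralizer ({z} : Set G) => f.π q = Y ∧ q * q = 1 ∧ q ≠ 1
  Finset.univ.filter fun q => f.π q = Y ∧ q * q = 1 ∧ q ≠ 1

theorem mem_fibI {f : Frame z Q x} {Y : PV} {q : Subgroup.centralizer ({z} : Set G)} :
    q ∈ fibI f Y ↔ f.π q = Y ∧ q * q = 1 ∧ q ≠ 1 := by simp [fibI]

/-- the pair generates the central involution -/
def zPair (z : G) (p q : Subgroup.centralizer ({z} : Set G)) : Prop :=
  tz q = false ∧ z ∈ Subgroup.zpowers ((p * q : Subgroup.centralizer ({z} : Set G)) : G)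

/-- partners over an element -/
noncomputable def cntP (f : Frame z Q x) (p : Subgroup.centralizer ({z} : Set G)) (Y : PV) : ℕ :=
  haveI := Classical.decPred (zPair z p)
  ((fibI f Y).filter (zPair z p)).card

/-- all involutions of the centraliser -/
noncomputable def invI (z : G) : Finset (Subgroup.centralizer ({z} : Set G)) :=
  haveI := Fintype.ofFinite (Subgroup.centralizer ({z} : Set G))
  haveI := Classical.decPred fun q : Subgroup.centralizer ({z} : Set G) => q * q = 1 ∧ q ≠ 1
  Finset.univ.filter fun q => q * q = 1 ∧ q ≠ 1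

theorem mem_invI {q : Subgroup.centralizer ({z} : Set G)} : q ∈ invI z ↔ q * q = 1 ∧ q ≠ 1 := by simp [invI]

theorem conj_inv_iff (L q : Subgroup.centralizer ({z} : Set G)) :
    (L * q * L⁻¹ * (L * q * L⁻¹) = 1 ∧ L * q * L⁻¹ ≠ 1) ↔ (q * q = 1 ∧ q ≠ 1) := by
  refine and_congr ?_ (not_congr conj_eq_one_iff)
  rw [conj_mul, conj_eq_one_iff]

theorem sum_fib_conj (f : Frame z Q x) (L : Subgroup.centralizer ({z} : Set G)) (Y : PV)
    (W : Subgroup.centralizer ({z} : Set G) → ℕ) :
    ∑ p ∈ fibI f Y, W (L * p * L⁻¹) = ∑ p ∈ fibI f (f.π L * Y * (f.π L)⁻¹), W p := by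
  refine Finset.sum_bij' (fun p _ => L * p * L⁻¹) (fun p _ => L⁻¹ * p * L) ?_ ?_ ?_ ?_ fun p _ => rfl
  · intro p hp
    obtain ⟨h1, h2⟩ := mem_fibI.1 hp
    exact mem_fibI.2 ⟨by rw [map_mul, map_mul, map_inv, h1], (conj_inv_iff L p).2 h2⟩
  · intro p hp
    obtain ⟨h1, h2⟩ := mem_fibI.1 hp
    refine mem_fibI.2 ⟨by rw [map_mul, map_mul, map_inv, h1]; group, (conj_inv_iff L _).1 ?_⟩
    rwa [show L * (L⁻¹ * p * L) * L⁻¹ = p by group]
  · intro p _; group
  · intro p _; group

theorem cntP_conj (f : Frame z Q x) (L p : Subgroup.centralizer ({z} : Set G)) (Y : PV) :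
    cntP f (L * p * L⁻¹) (f.π L * Y * (f.π L)⁻¹) = cntP f p Y := by
  classical
  have e : ∀ q, zPair z (L * p * L⁻¹) (L * q * L⁻¹) ↔ zPair z p q := fun q => by
    refine and_congr (by rw [tz_conj]) ?_
    have hz : (L : G) * z * (L : G)⁻¹ = z := by
      rw [(Subgroup.mem_centralizer_singleton_iff.1 L.2 : (L : G) * z = z * L), mul_inv_cancel_right]
    have h := zpow_conj_iff (L : G) z ((p * q : Subgroup.centralizer ({z} : Set G)) : G)
    rw [hz] at h
    rw [conj_mul]
    simpa only [Subgroup.coe_mul, Subgroup.coe_inv] using h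
  simp only [cntP, Finset.card_filter]
  rw [← sum_fib_conj f L Y fun q => if zPair z (L * p * L⁻¹) q then 1 else 0]
  exact Finset.sum_congr rfl fun q _ => if_congr (e q) rfl rfl

include S f

theorem Big.fib_root {k : ℕ} (hk : k < 4) (Φ : ℕ → ℕ) :
    ∑ i ∈ Finset.range 6304, Φ (rootY k i) = ((ODt.roots.getD k []).map fun e => e.2.1 * Φ e.1).sum := by
  have h := (roots_ok hk).1
  simp only [OChk4.rootsAt, Bool.and_eq_true, List.all_eq_true, decide_eq_true_eq] at h
  obtain ⟨⟨hnd, hall⟩, -⟩ := h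
  set L := ODt.roots.getD k []
  have hmaps : ∀ i ∈ Finset.range 6304, rootY k i ∈ (L.map Prod.fst).toFinset := fun i hi => by
    obtain ⟨e, he, hee⟩ := root_entry hk (Finset.mem_range.1 hi)
    exact List.mem_toFinset.2 (List.mem_map.2 ⟨e, he, hee⟩)
  rw [← Finset.sum_fiberwise_of_maps_to hmaps, List.sum_toFinset _ hnd, List.map_map]
  congr 1
  refine List.map_congr_left fun e he => ?_
  rw [Function.comp, Finset.sum_congr rfl fun i hi => by rw [(Finset.mem_filter.1 hi).2], Finset.sum_const, smul_eq_mul]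
  congr 1
  rw [← Nat.eq_of_beq_eq_true (hall e he).2, List.countP_map, List.countP_eq_length_filter,
    ← List.toFinset_card_of_nodup (List.nodup_range.filter _)]
  congr 1
  ext i
  simp only [Finset.mem_filter, Finset.mem_range, List.mem_toFinset, List.mem_filter, List.mem_range, Function.comp]
  exact and_congr_right' ⟨fun h => by rw [h]; exact Nat.beq_refl _, fun h => (Nat.eq_of_beq_eq_true h).symm⟩

theorem Big.sum_invI (W : Subgroup.centralizer ({z} : Set G) → ℕ) :
    ∑ p ∈ invI z, W p = ∑ i ∈ Finset.range 6304, ∑ p ∈ fibI f (elP i), W p := by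
  classical
  rw [← Finset.sum_biUnion]
  · refine Finset.sum_congr ?_ fun _ _ => rfl
    ext q
    simp only [Finset.mem_biUnion, Finset.mem_range, mem_invI, mem_fibI]
    refine ⟨fun h => ?_, fun ⟨i, _, _, h⟩ => h⟩
    obtain ⟨i, hi, e⟩ := S.list_all f (f.pi_mem q) (by rw [← map_mul, h.1, map_one])
    exact ⟨i, hi, e, h⟩
  · intro i hi j hj hne
    refine Finset.disjoint_left.2 fun q h1 h2 => hne ?_
    exact elP_inj (Finset.mem_range.1 hi) (Finset.mem_range.1 hj) ((mem_fibI.1 h1).1.symm.trans (mem_fibI.1 h2).1)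

/-- sums of class functions over all involutions -/
theorem Big.sum_class (W : Subgroup.centralizer ({z} : Set G) → ℕ)
    (hW : ∀ L p, W (L * p * L⁻¹) = W p) :
    ∑ p ∈ invI z, W p = 1155 * ∑ p ∈ fibI f (f.π (R.n 0)), W p + 990 * ∑ p ∈ fibI f (f.π (R.n 1)), W p +
      4158 * ∑ p ∈ fibI f (f.π (R.n 2)), W p + ∑ p ∈ fibI f (f.π (R.n 3)), W p := by
  rw [← kind_sum fun k => ∑ p ∈ fibI f (f.π (R.n k)), W p, S.sum_invI f]
  have h1 : ∀ i < 6304, ∑ p ∈ fibI f (elP i), W p = ∑ p ∈ fibI f (elP (rootY 3 i)), W p := by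
    intro i hi
    obtain ⟨g, hg, -, -, hlt, p, hp, hpc, hc⟩ := tree_conj (k := 3) (by norm_num) i hi
    obtain ⟨L, hL⟩ := (f.range g).1 hg
    rw [← elP_eq hi (mul_mem (mul_mem hg hp) (inv_mem hg)) hc, elP_eq hlt hp hpc, ← hL, ← sum_fib_conj]
    exact Finset.sum_congr rfl fun q _ => hW L q
  rw [Finset.sum_congr rfl fun i hi => h1 i (Finset.mem_range.1 hi),
    S.fib_root f (k := 3) (by norm_num) fun r => ∑ p ∈ fibI f (elP r), W p]
  congr 1
  refine List.map_congr_left fun e he => ?_
  congr 1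
  obtain ⟨g, nY, hkk, -, -, hnY, hYc, -⟩ := S.root_fibre f R (by norm_num) he
  have hlt : e.1 < 6304 := by
    have h := (roots_ok (k := 3) (by norm_num)).1
    simp only [OChk4.rootsAt, Bool.and_eq_true, List.all_eq_true] at h
    exact Nat.le_of_ble_eq_true (h.1.2 e he).1
  rw [← elP_eq hlt (f.pi_mem _) hYc, hnY, map_mul, map_mul, map_inv, ← sum_fib_conj]
  exact Finset.sum_congr rfl fun q _ => hW g q

theorem Big.fib_rep {k : ℕ} (hk : k < 4) :
    (codesK k).Nodup ∧ ∀ W : Subgroup.centralizer ({z} : Set G) → ℕ,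
      ∑ p ∈ fibI f (f.π (R.n k)), W p = ((codesK k).map fun n => W (phiH R k n)).sum := by
  classical
  have hnd : (codesK k).Nodup := List.nodup_range.filter _
  have hlt : ∀ n ∈ codesK k, n < 8192 := fun n hn => List.mem_range.1 (List.mem_filter.1 hn).1
  refine ⟨hnd, fun W => ?_⟩
  rw [← List.sum_toFinset _ hnd]
  refine (Finset.sum_bij (fun n _ => phiH R k n) ?_ ?_ ?_ fun _ _ => rfl).symm
  · intro n hn
    have hn' := List.mem_toFinset.1 hn
    exact mem_fibI.2 ⟨S.pi_elC f _ _ _, (S.mem_codes f R hk (hlt n hn')).1 hn'⟩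
  · intro a ha b hb h
    exact S.phi_inj f R (hlt a (List.mem_toFinset.1 ha)) (hlt b (List.mem_toFinset.1 hb)) h
  · intro q hq
    obtain ⟨h1, h2⟩ := mem_fibI.1 hq
    obtain ⟨n, hn, rfl⟩ := S.phi_surj f R h1
    exact ⟨n, List.mem_toFinset.2 ((S.mem_codes f R hk hn).2 h2), rfl⟩

/-- the partners over a root -/
theorem Big.cnt_root {k : ℕ} (hk : k < 4) {q : (ℕ × ℕ × ℕ × List ℕ) × (ℕ × List ℕ)}
    (hq : q ∈ List.zip (ODt.roots.getD k []) (htabOf k)) {j : ℕ} (hj : j < (uRep k).length)
    (hu : ((uRep k).getD j (0, 0)).1 < 8192) :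
    cntP f (phiH R k ((uRep k).getD j (0, 0)).1) (elP q.1.1) = hWt (tc R) (q.2.2.getD j 0) := by
  classical
  have he : q.1 ∈ ODt.roots.getD k [] := (List.of_mem_zip hq).1
  obtain ⟨g, nY, hkk, hg, hY, hYe, hYc, hYo, hnd, htyp, hfib⟩ := S.root_fibre f R hk he
  have hlt : q.1.1 < 6304 := by
    have h := (roots_ok hk).1
    simp only [OChk4.rootsAt, Bool.and_eq_true, List.all_eq_true] at h
    exact Nat.le_of_ble_eq_true (h.1.2 q.1 he).1
  rw [← elP_eq hlt (f.pi_mem _) hYc]
  have ht := tab_mem hk hq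
  simp only [OChk4.rootTab, Bool.and_eq_true, leq_iff] at ht
  obtain ⟨⟨hn, hord⟩, hpk⟩ := ht
  have hn' : 0 < q.2.1 := Nat.le_of_ble_eq_true hn
  set p := prodAt k q.1
  set og := outR k ^^ outR q.1.2.2.1
  set u := ((uRep k).getD j (0, 0)).1 with hu'
  set P := phiH R k u
  set L := liftsAt q.1
  have hXA := Gam_addP (f.pi_mem (R.n k))
  have hp : cols (f.π (R.n k * nY)) = p := by rw [map_mul, cols_mul hXA, R.cols k hk, hYc]; rfl
  have h1 : f.π (R.n k * nY) ^ q.2.1 = 1 := by
    have := (ord_spec (Gam_addP (f.pi_mem (R.n k * nY))) q.2.1 0 (by rw [hp, pow_zero, cols_one]; exact hord)).1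
    rwa [zero_add] at this
  have hodd : q.2.1 % 2 = 1 → q.1.2.2.1 = k := fun h2 => by
    have h := odd_ok
    simp only [oddAt, List.all_eq_true, List.mem_range, Bool.or_eq_true] at h
    refine (h k hk q hq).elim (fun e => ?_) Nat.eq_of_beq_eq_true
    have := Nat.eq_of_beq_eq_true e
    change q.2.1 % 2 = 0 at this
    omega
  have hL10 : ∀ v ∈ L, v.2.2 < 10 := by
    intro v hv
    change v ∈ liftsAt q.1 at hv
    rw [liftsAt] at hv
    by_cases h3 : q.1.2.2.1 = 3
    · rw [h3, Nat.beq_refl, cond_true, List.mem_map] at hv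
      obtain ⟨n, -, rfl⟩ := hv
      have := qCls_le n
      show qCls n < 10
      omega
    · rw [show Nat.beq q.1.2.2.1 3 = false from Bool.eq_false_iff.2 fun e => h3 (Nat.eq_of_beq_eq_true e), cond_false,
        List.mem_map] at hv
      obtain ⟨m, hm, rfl⟩ := hv
      have hr : q.1.2.2.1 < 3 := by omega
      have hmem := mem_ok hr
      simp only [OChk4.memOK, Bool.and_eq_true, List.all_eq_true] at hmem
      have hc := class_ok
      simp only [classAt, List.all_eq_true, List.mem_range, Bool.and_eq_true] at hc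
      have h9 := ((hc _ hr).1 m.2.1 (Nat.le_of_ble_eq_true (hmem.2 m hm).1.1)).1.1.2
      have : memC q.1.2.2.1 m ≤ 9 := Nat.le_of_ble_eq_true h9
      show memC _ m < 10
      omega
  have hlen : L.length < 2 ^ 24 := by
    have hcard : ∀ {n : Subgroup.centralizer ({z} : Set G)},
        (L.map fun v => elC S f (SUSix.vecOf v.1) v.2.1 n).length = L.length := fun {n} => List.length_map _
    have : L.length ≤ 8192 := by
      change (liftsAt q.1).length ≤ 8192
      rw [liftsAt]
      cases Nat.beq q.1.2.2.1 3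
      · simp only [cond_false, List.length_map]
        have key : ∀ r < 4, (ODt.mems.getD r []).length ≤ 8192 := by decide +kernel
        exact key _ hkk
      · simp only [cond_true, List.length_map]
        exact (List.length_filter_le _ _).trans (by rw [List.length_range])
    omega
  -- the value of the packed counts
  have hval : hWt (tc R) (q.2.2.getD j 0) =
      L.countP fun v => !tc R v.2.2 && hit k q.2.1 p (normC p q.2.1) og u v := by
    have hj' : q.2.2.getD j 0 = packH k q.2.1 p (normC p q.2.1) og u L := by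
      rw [← hpk, List.getD_eq_getElem _ _ (by rw [List.length_map]; exact hj), List.getElem_map, hu',
        List.getD_eq_getElem _ _ hj]
    rw [hj']
    show _ = L.countP fun v => !tc R v.2.2 && hit k q.2.1 p (normC p q.2.1) og u v
    rw [packH, foldl_pack (fun v => Nat.blt 1 v.2.2 && hit k q.2.1 p (normC p q.2.1) og u v) L 0 hL10, zero_add, hWt]
    rw [show L.countP (fun v => !tc R v.2.2 && hit k q.2.1 p (normC p q.2.1) og u v) =
        L.countP (fun v => !tc R v.2.2 && (Nat.blt 1 v.2.2 && hit k q.2.1 p (normC p q.2.1) og u v)) from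
      List.countP_congr fun v _ => by
        cases hb : Nat.blt 1 v.2.2
        · have : v.2.2 < 2 := by
            by_contra h2
            rw [Nat.ble_eq_true_of_le (show 1 + 1 ≤ v.2.2 by omega) |> fun e => (show Nat.blt 1 v.2.2 = true from e)] at hb
            simp at hb
          rw [show tc R v.2.2 = true by
            rw [tc, show Nat.blt v.2.2 2 = true from Nat.ble_eq_true_of_le this]; rfl]
          simp
        · simp, countP_split _ (tc R) 10 L hL10]
    rw [← List.toFinset_range, List.sum_toFinset _ List.nodup_range]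
    congr 1
    refine List.map_congr_left fun c hc => ?_
    congr 1
    rw [fld_div, ← List.sum_toFinset _ List.nodup_range, List.toFinset_range]
    exact fld_sum c 10 _ (fun c' => lt_of_le_of_lt List.countP_le_length hlen) (List.mem_range.1 hc)
  rw [hval]
  -- a list for the fibre
  have hlist : ∀ Pr : Subgroup.centralizer ({z} : Set G) → Prop, ∀ [DecidablePred Pr],
      ((fibI f (f.π nY)).filter Pr).card =
        L.countP fun v => decide (Pr (elC S f (SUSix.vecOf v.1) v.2.1 nY)) := by
    intro Pr _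
    rw [List.countP_eq_length_filter, ← List.length_map (f := fun v => elC S f (SUSix.vecOf v.1) v.2.1 nY),
      ← List.toFinset_card_of_nodup ((List.filter_sublist.map _).nodup hnd)]
    congr 1
    ext w
    simp only [Finset.mem_filter, mem_fibI, List.mem_toFinset, List.mem_map, List.mem_filter, decide_eq_true_eq]
    constructor
    · rintro ⟨h, hP⟩
      obtain ⟨v, hv, rfl⟩ := (hfib w).1 h
      exact ⟨v, ⟨hv, hP⟩, rfl⟩
    · rintro ⟨v, ⟨hv, hP⟩, rfl⟩
      exact ⟨(hfib _).2 ⟨v, hv, rfl⟩, hP⟩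
  rcases S.sigma f R (e := q.1) hk hn' hodd hkk hY hYe h1 with hσ | ⟨hk3, hkq, hflip, hσ⟩
  · rw [cntP, hlist]
    refine List.countP_congr fun v hv => ?_
    obtain ⟨hv1, hv2⟩ := htyp v hv
    rw [decide_eq_true_eq, Bool.and_eq_true, Bool.not_eq_true', zPair, hv2]
    exact and_congr_right' (S.hit_spec f R hk hord hn' hYc hYo hY hσ hu hv1)
  · -- pass to the other lift
    set zC := qC S f 0 true
    have hzc : ∀ w : Subgroup.centralizer ({z} : Set G), w * zC = zC * w := fun w => by
      refine Subtype.ext ?_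
      show (w : G) * (sec f 0 * zp z true) = sec f 0 * zp z true * (w : G)
      rw [S.sec_zero f, one_mul, zp_true, (Subgroup.mem_centralizer_singleton_iff.1 w.2 : (w : G) * z = z * w)]
    have hz2 : zC * zC = 1 := by
      rw [S.qC_mul f, S.bB_self f, ← S.qC_zero f, show (0 : V6) + 0 = 0 from add_zero 0,
        show qB 0 = false by rw [← qB_code, code_zero]; decide +kernel]
      rfl
    have hmove : ∀ w ∈ fibI f (f.π nY), w * zC ∈ fibI f (f.π nY) ∧ tz (w * zC) = tz w := by
      intro w hw
      obtain ⟨hw1, hw2, hw3⟩ := mem_fibI.1 hw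
      obtain ⟨n, hn8, hw'⟩ := S.phi_surj f R (q := g⁻¹ * w * g) (k := q.1.2.2.1) (by
        rw [map_mul, map_mul, hw1, hYe, map_mul, map_mul, map_inv]; group)
      have hwe : w = g * phiH R q.1.2.2.1 n * g⁻¹ := by rw [← hw']; group
      have hn : n ∈ codesK q.1.2.2.1 := (S.mem_codes f R hkk hn8).2 ((conj_inv_iff g _).1 (by
        rw [← hwe]; exact ⟨hw2, hw3⟩))
      rw [hkq] at hn hwe
      obtain ⟨hn', ht'⟩ := S.tz_flip f R hk3 hflip hn
      have hwz : w * zC = g * phiH R k (n ^^^ 1) * g⁻¹ := by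
        have e1 : phiH R k (n ^^^ 1) = zC * phiH R k n := by
          rw [phiH, phiH, S.qC_elC f, cvV, cvV, (cv_flip _).1, (cv_flip _).2, zero_add,
            show bB (0 : V6) (SUSix.vecOf (cv n)) = false by
              have e : ∀ b : V6, bB 0 b = false := fun b => by
                have h := S.qC_mul f 0 b false false
                rw [S.qC_zero f, one_mul, zero_add] at h
                have := (S.elc_inj f (c := (1 : Subgroup.centralizer ({z} : Set G))) (a := b) (b := b) (e := false)
                  (r := xor false (xor false (bB 0 b))) (by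
                    rw [← S.coe_elC f, ← S.coe_elC f, S.elC_one f, S.elC_one f, ← h])).2
                rwa [Bool.false_xor, Bool.false_xor, eq_comm] at this
              exact e _]
          congr 1
          cases ce n <;> rfl
        rw [hwe, e1, hzc, ← mul_assoc, ← mul_assoc, ← hzc g, mul_assoc g zC]
      refine ⟨mem_fibI.2 ⟨?_, ?_⟩, ?_⟩
      · rw [map_mul, hw1, show f.π zC = 1 from S.pi_qC f _ _, mul_one]
      · rw [hwz]
        exact (conj_inv_iff g _).2 ((S.mem_codes f R hk (List.mem_range.1 (List.mem_filter.1 hn').1)).1 hn')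
      · rw [hwz, hwe, tz_conj, tz_conj, ht']
    have hswap : ((fibI f (f.π nY)).filter (zPair z P)).card =
        ((fibI f (f.π nY)).filter fun w => zPair z P (w * zC)).card := by
      refine Finset.card_bij' (fun w _ => w * zC) (fun w _ => w * zC) ?_ ?_ ?_ ?_
      · intro w hw
        obtain ⟨h, hP⟩ := Finset.mem_filter.1 hw
        refine Finset.mem_filter.2 ⟨(hmove w h).1, ?_⟩
        rwa [mul_assoc, hz2, mul_one]
      · intro w hw
        obtain ⟨h, hP⟩ := Finset.mem_filter.1 hw
        exact Finset.mem_filter.2 ⟨(hmove w h).1, hP⟩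
      · intro w _; show w * zC * zC = w; rw [mul_assoc, hz2, mul_one]
      · intro w _; show w * zC * zC = w; rw [mul_assoc, hz2, mul_one]
    rw [cntP, hswap, hlist]
    refine List.countP_congr fun v hv => ?_
    obtain ⟨hv1, hv2⟩ := htyp v hv
    have hvm : elC S f (SUSix.vecOf v.1) v.2.1 nY ∈ fibI f (f.π nY) := mem_fibI.2 ((hfib _).2 ⟨v, hv, rfl⟩)
    rw [decide_eq_true_eq, Bool.and_eq_true, Bool.not_eq_true', zPair, (hmove _ hvm).2, hv2]
    refine and_congr_right' ?_
    rw [show elC S f (SUSix.vecOf v.1) v.2.1 nY * zC = elC S f (SUSix.vecOf v.1) v.2.1 (nY * zC) from mul_assoc _ _ _]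
    refine S.hit_spec f R hk hord hn' (nY := nY * zC) ?_ ?_ ?_ hσ hu hv1
    · rw [map_mul, show f.π zC = 1 from S.pi_qC f _ _, mul_one, hYc]
    · rw [map_mul, show f.π zC = 1 from S.pi_qC f _ _, mul_one, hYo]
    · refine hY.mul (Or.inl ?_)
      show sec f 0 * zp z true * x * (sec f 0 * zp z true)⁻¹ = x
      rw [S.sec_zero f, one_mul, zp_true, (S.base.ord.xz).eq.symm, mul_inv_cancel_right]

end Cfsg.Agent.Spor.JFour
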