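import Cfsg.Agent.Lib.Spor.JFourOrder.HSum

/-!
Janko four type: involutions of the centraliser by type, and the pairs generating the central involution.
-/

set_option autoImplicit false
set_option maxRecDepth 100000
set_option linter.unusedSectionVars false

namespace Cfsg.Agent.Spor.JFour

open Cfsg.Agent.Spor.SUSix (V6 code code_lt vecOf_code)
open Cfsg.Agent.Spor.CC
open OChk4

attribute [local irreducible] Gam Kp Chk.app

theorem mult_ok : ∀ k < 3, (∀ m ∈ ODt.mems.getD k [], m.2.1 < (ODt.urep.getD k []).length) ∧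
    ((List.range (ODt.urep.getD k []).length).map fun j =>
      (ODt.mems.getD k []).countP fun m => Nat.beq m.2.1 j) =
        [[16, 16, 32, 32, 32, 32, 32, 32, 32, 32, 32], [64, 64], [128]].getD k [] := by
  decide +kernel

theorem cls_count : (∀ k < 3, ((ODt.mems.getD k []).map fun m => memC k m).all (fun c => Nat.blt c 10) = true) ∧
    ((List.range 10).map fun c => 1155 * ((ODt.mems.getD 0 []).countP fun m => Nat.beq (memC 0 m) c) +
      990 * ((ODt.mems.getD 1 []).countP fun m => Nat.beq (memC 1 m) c) +
      4158 * ((ODt.mems.getD 2 []).countP fun m => Nat.beq (memC 2 m) c) +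
      (codesK 3).countP fun n => Nat.beq (qCls n) c) =
        [1, 1386, 2772, 532224, 63360, 63360, 18480, 18480, 110880, 221760] := by
  decide +kernel

theorem rep_three : 2 * Chk.kA < 8192 ∧ qCls (2 * Chk.kA) = 1 ∧ cv (2 * Chk.kA) = Chk.kA ∧ ce (2 * Chk.kA) = false ∧
    Chk.qb Chk.kA = false := by
  decide +kernel

universe u

variable {G : Type u} [Group G] [Finite G] {z : G} {Q N : Subgroup G} {x : G}
variable (S : Big z Q N x) (f : Frame z Q x) (R : Reps S f)

/-- partners of an involution -/
noncomputable def fullF (z : G) (p : Subgroup.centralizer ({z} : Set G)) : ℕ :=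
  haveI := Classical.decPred (zPair z p)
  ((invI z).filter (zPair z p)).card

include S f

theorem Big.fullF_sum (p : Subgroup.centralizer ({z} : Set G)) :
    fullF z p = ∑ i ∈ Finset.range 6304, cntP f p (elP i) := by
  classical
  simp only [fullF, cntP, Finset.card_filter]
  exact S.sum_invI f _

theorem Big.fullF_conj (L p : Subgroup.centralizer ({z} : Set G)) : fullF z (L * p * L⁻¹) = fullF z p := by
  rw [S.fullF_sum f, S.fullF_sum f]
  classical
  have key : ∀ i ∈ Finset.range 6304, ∃ j ∈ Finset.range 6304, f.π L * elP i * (f.π L)⁻¹ = elP j := by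
    intro i hi
    obtain ⟨w, hw, e⟩ := Gam_word (f.pi_mem L)
    obtain ⟨j, hj, e'⟩ := list_closed w hw i (Finset.mem_range.1 hi)
    exact ⟨j, Finset.mem_range.2 hj, by rw [e]; exact e'⟩
  choose σ hσ hσe using key
  have hinj : ∀ i hi j hj, σ i hi = σ j hj → i = j := fun i hi j hj h => by
    refine elP_inj (Finset.mem_range.1 hi) (Finset.mem_range.1 hj) ?_
    have e := hσe i hi
    rw [h, ← hσe j hj] at e
    exact mul_left_cancel (mul_right_cancel e)
  refine (Finset.sum_bij σ hσ hinj (fun j hj => ?_) fun i hi => ?_).symm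
  · let F : ↥(Finset.range 6304) → ↥(Finset.range 6304) := fun i => ⟨σ i.1 i.2, hσ i.1 i.2⟩
    obtain ⟨i, hi⟩ := (Finite.injective_iff_surjective (f := F)).1
      (fun a b h => Subtype.ext (hinj _ a.2 _ b.2 (congrArg Subtype.val h))) ⟨j, hj⟩
    exact ⟨i.1, i.2, congrArg Subtype.val hi⟩
  · rw [← hσe i hi, cntP_conj]

/-- partners over the roots -/
theorem Big.inner_eq {k : ℕ} (hk : k < 4) {j : ℕ} (hj : j < (uRep k).length)
    (hu : ((uRep k).getD j (0, 0)).1 < 8192) :
    ((ODt.roots.getD k []).map fun e => e.2.1 * cntP f (phiH R k ((uRep k).getD j (0, 0)).1) (elP e.1)).sum =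
      hInner (tc R) k j := by
  rw [hInner]
  conv_lhs => rw [← List.map_fst_zip (l₁ := ODt.roots.getD k []) (l₂ := htabOf k) (le_of_eq (zip_len k hk).symm)]
  rw [List.map_map]
  congr 1
  refine List.map_congr_left fun q hq => ?_
  simp only [Function.comp]
  rw [S.cnt_root f R hk hq hj hu]

/-- the pairs whose first member lies over a representative -/
theorem Big.part_eq {k : ℕ} (hk : k < 3) :
    ∑ p ∈ fibI f (f.π (R.n k)), (bif tz p then fullF z p else 0) =
      hPart (tc R) k ([[16, 16, 32, 32, 32, 32, 32, 32, 32, 32, 32], [64, 64], [128]].getD k []) := by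
  have hk4 : k < 4 := by omega
  set W := fun p : Subgroup.centralizer ({z} : Set G) =>
    ((ODt.roots.getD k []).map fun e => e.2.1 * cntP f p (elP e.1)).sum with hW
  -- reduce to the roots
  have h1 : ∑ p ∈ fibI f (f.π (R.n k)), (bif tz p then fullF z p else 0) =
      ∑ p ∈ fibI f (f.π (R.n k)), (bif tz p then W p else 0) := by
    have e1 : ∀ p : Subgroup.centralizer ({z} : Set G), (bif tz p then fullF z p else 0) =
        ∑ i ∈ Finset.range 6304, (bif tz p then cntP f p (elP i) else 0) := fun p => by
      cases tz p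
      · simp
      · exact S.fullF_sum f p
    simp only [e1]
    rw [Finset.sum_comm]
    have h2 : ∀ i ∈ Finset.range 6304, ∑ p ∈ fibI f (f.π (R.n k)), (bif tz p then cntP f p (elP i) else 0) =
        ∑ p ∈ fibI f (f.π (R.n k)), (bif tz p then cntP f p (elP (rootY k i)) else 0) := by
      intro i hi
      obtain ⟨g, hg, hgR, -, hlt, p0, hp0, hpc, hc⟩ := tree_conj hk4 i (Finset.mem_range.1 hi)
      obtain ⟨L, hL⟩ := (f.range g).1 hg
      have hcomm : g * f.π (R.n k) * g⁻¹ = f.π (R.n k) := by
        have hgA := Gam_addP hg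
        have hnA := Gam_addP (f.pi_mem (R.n k))
        have e : g * f.π (R.n k) = f.π (R.n k) * g := eq_of_cols (hgA.mul hnA) (hnA.mul hgA) (by
          rw [cols_mul hgA, cols_mul hnA, R.cols k hk4, cX,
            show Nat.beq k 3 = false from Bool.eq_false_iff.2 fun e => by have := Nat.eq_of_beq_eq_true e; omega]
          exact hgR hk)
        rw [e, mul_inv_cancel_right]
      rw [← elP_eq (Finset.mem_range.1 hi) (mul_mem (mul_mem hg hp0) (inv_mem hg)) hc, ← elP_eq hlt hp0 hpc, ← hL]
      conv_lhs => rw [← hcomm, ← hL, ← sum_fib_conj]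
      exact Finset.sum_congr rfl fun p _ => by rw [tz_conj, cntP_conj]
    rw [Finset.sum_congr rfl h2, Finset.sum_comm]
    refine Finset.sum_congr rfl fun p _ => ?_
    cases tz p
    · simp
    · exact S.fib_root f hk4 fun r => cntP f p (elP r)
  rw [h1, (S.fib_rep f R hk4).2]
  have hmem := mem_ok hk
  simp only [OChk4.memOK, Bool.and_eq_true, leq_iff, List.all_eq_true] at hmem
  have hb : Nat.beq k 3 = false := Bool.eq_false_iff.2 fun e => by have := Nat.eq_of_beq_eq_true e; omega
  have hcodes : codesK k = (List.range 8192).filter (invAt k) := by simp only [codesK, hb, cond_false]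
  rw [hcodes, hmem.1, List.map_map]
  have hU : uRep k = ODt.urep.getD k [] := by rw [uRep, hb]; rfl
  rw [List.map_congr_left (g := fun m : ℕ × ℕ × ℕ =>
    bif tc R ((ODt.urep.getD k []).getD m.2.1 (0, 0)).2 then hInner (tc R) k m.2.1 else 0) fun m hm => by
      obtain ⟨hm1, htm⟩ := S.tz_member f R hk hm
      obtain ⟨⟨hj, hv⟩, htr⟩ := hmem.2 m hm
      have hj' : m.2.1 < (ODt.urep.getD k []).length := Nat.le_of_ble_eq_true hj
      have hc := class_ok
      simp only [classAt, List.all_eq_true, List.mem_range, Bool.and_eq_true] at hc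
      have hu1 : ((ODt.urep.getD k []).getD m.2.1 (0, 0)).1 < 8192 :=
        Nat.le_of_ble_eq_true ((hc k hk).1 m.2.1 hj').1.1.1.1
      simp only [Function.comp]
      rw [htm, show memC k m = ((ODt.urep.getD k []).getD m.2.1 (0, 0)).2 from rfl]
      cases tc R ((ODt.urep.getD k []).getD m.2.1 (0, 0)).2
      · rfl
      · simp only [cond_true]
        rw [← S.inner_eq f R hk4 (hU.symm ▸ hj') (hU.symm ▸ hu1), hW]
        refine congrArg List.sum (List.map_congr_left fun e _ => ?_)
        congr 1
        rw [hU, ← Nat.eq_of_beq_eq_true htr, ← S.phi_trans f R hk hu1 (Nat.le_of_ble_eq_true hv)]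
        conv_lhs => rw [show elP e.1 = f.π (qC S f (SUSix.vecOf m.2.2) false) * elP e.1 *
          (f.π (qC S f (SUSix.vecOf m.2.2) false))⁻¹ by rw [S.pi_qC f, one_mul, inv_one, mul_one]]
        rw [cntP_conj]]
  rw [sum_group (fun m : ℕ × ℕ × ℕ => m.2.1) (fun j => bif tc R ((ODt.urep.getD k []).getD j (0, 0)).2 then
    hInner (tc R) k j else 0) (ODt.urep.getD k []).length _ (mult_ok k hk).1, hPart, ← (mult_ok k hk).2,
    List.length_map, List.length_range, ← List.sum_toFinset _ List.nodup_range, List.toFinset_range]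
  refine Finset.sum_congr rfl fun j hj => ?_
  rw [List.getD_eq_getElem _ 0 (by rw [List.length_map, List.length_range]; exact Finset.mem_range.1 hj),
    List.getElem_map, List.getElem_range]
  cases tc R ((ODt.urep.getD k []).getD j (0, 0)).2
  · simp
  · rfl

/-- two lifts of the special vector are conjugate by a translation -/
theorem Big.va_flip : ∃ V : V6, ∀ e, qC S f V false * qC S f va e * (qC S f V false)⁻¹ = qC S f va (!e) := by
  have h := uflip_ok
  rw [List.any_eq_true] at h
  obtain ⟨v, hv, h⟩ := h
  refine ⟨SUSix.vecOf v, fun e => ?_⟩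
  have hV : code (SUSix.vecOf v) = v := code_vecOf _ (List.mem_range.1 hv)
  rw [← S.elC_one f va e, S.conjQ f _ _ _ _ NXs.one, map_one, Equiv.Perm.one_apply, outP_one, S.elC_one f]
  congr 1
  · refine code_inj ?_
    rw [code_add, code_add, Nat.xor_comm, ← Nat.xor_assoc, Nat.xor_self, Nat.zero_xor]
  · rw [← bB_code, ← bB_code, ← qB_code, code_add, code_va, hV]
    have h' : (bKf v Chk.kA ^^ (bKf (v ^^^ Chk.kA) v ^^ qf v)) = true := h
    revert h'
    cases bKf v Chk.kA <;> cases bKf (v ^^^ Chk.kA) v <;> cases qf v <;> cases e <;> simp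

/-- the representative of the first class in the extraspecial subgroup -/
theorem Big.phi_va : phiH R 3 (2 * Chk.kA) = qC S f va false := by
  rw [phiH, R.three, S.elC_one f, cvV, rep_three.2.2.1, rep_three.2.2.2.1]
  congr 1

set_option maxHeartbeats 2000000 in
theorem Big.part_three : ∑ p ∈ fibI f (f.π (R.n 3)), (bif tz p then fullF z p else 0) = 1386 * hInner (tc R) 3 0 := by
  classical
  obtain ⟨V, hV⟩ := S.va_flip f
  set p0 := qC S f va false
  have hfix : ∀ g ∈ Gam, g va = va → ∃ L, f.π L = g ∧ L * p0 * L⁻¹ = p0 := by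
    intro g hg hgv
    obtain ⟨L, hL, hLπ⟩ := S.lift_NX f hg
    have e1 := S.conjN f hL va false 1
    rw [mul_one, mul_inv_cancel, S.elC_one f, S.elC_one f, hLπ, hgv] at e1
    cases eo : (outP g && qB va)
    · exact ⟨L, hLπ, by rw [e1, eo]; rfl⟩
    · refine ⟨qC S f V false * L, by rw [map_mul, S.pi_qC f, one_mul, hLπ], ?_⟩
      rw [show qC S f V false * L * p0 * (qC S f V false * L)⁻¹ =
        qC S f V false * (L * p0 * L⁻¹) * (qC S f V false)⁻¹ by group, e1, eo, hV]
      rfl
  have hF0 : fullF z p0 = hInner (tc R) 3 0 := by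
    rw [S.fullF_sum f]
    rw [Finset.sum_congr rfl fun i hi => show cntP f p0 (elP i) = cntP f p0 (elP (rootY 3 i)) by
      obtain ⟨g, hg, -, hgv, hlt, p1, hp1, hpc, hc⟩ := tree_conj (k := 3) (by norm_num) i (Finset.mem_range.1 hi)
      obtain ⟨L, hL, hL0⟩ := hfix g hg (hgv rfl)
      rw [← elP_eq (Finset.mem_range.1 hi) (mul_mem (mul_mem hg hp1) (inv_mem hg)) hc, ← elP_eq hlt hp1 hpc, ← hL]
      conv_lhs => rw [← hL0]
      rw [cntP_conj]]
    rw [S.fib_root f (k := 3) (by norm_num) fun r => cntP f p0 (elP r), ← S.inner_eq f R (k := 3) (j := 0)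
      (by norm_num) (by norm_num [uRep]) (by exact rep_three.1)]
    refine congrArg List.sum (List.map_congr_left fun e _ => ?_)
    congr 2
    exact (S.phi_va f R).symm
  rw [(S.fib_rep f R (by norm_num)).2]
  rw [List.map_congr_left (g := fun n => bif Nat.beq (qCls n) 1 then hInner (tc R) 3 0 else 0) fun n hn => by
    have hlt : n < 8192 := List.mem_range.1 (List.mem_filter.1 hn).1
    rw [S.tz_Q f R hn, tc]
    rcases (show qCls n = 0 ∨ qCls n = 1 ∨ qCls n = 2 by have := qCls_le n; omega) with h | h | h <;> rw [h]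
    · -- the central involution
      show fullF z (phiH R 3 n) = 0
      have h0 : cv n = 0 := by
        by_contra h0
        rw [qCls, show Nat.beq (cv n) 0 = false from Bool.eq_false_iff.2 fun e => h0 (Nat.eq_of_beq_eq_true e)] at h
        cases e : Chk.isA (cv n) <;> rw [e] at h <;> simp at h
      have hp : (phiH R 3 n : G) = z := by
        obtain ⟨h2, h1⟩ := (S.mem_codes f R (by norm_num) hlt).1 hn
        have hc : (phiH R 3 n : G) = zp z (ce n) := by
          rw [phiH, R.three, S.elC_one f]
          show sec f (cvV n) * zp z (ce n) = _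
          rw [show cvV n = 0 from code_inj (by rw [code_cvV hlt, h0, code_zero]), S.sec_zero f, one_mul]
        cases e : ce n
        · exact absurd (Subtype.ext (by rw [hc, e]; rfl)) h1
        · rw [hc, e]; rfl
      rw [fullF, Finset.card_eq_zero, Finset.filter_eq_empty_iff]
      intro q hq hP
      obtain ⟨hq2, hq1⟩ := mem_invI.1 hq
      obtain ⟨m, hm⟩ := mem_powers_iff_mem_zpowers.2 hP.2
      simp only [Subgroup.coe_mul, hp] at hm
      have hqz : Commute z (q : G) := (Subgroup.mem_centralizer_singleton_iff.1 q.2 : (q : G) * z = z * q).symm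
      have hsq : (z * (q : G)) ^ 2 = 1 := by
        rw [hqz.mul_pow, pow_two, S.base.ord.xt.sq, one_mul, pow_two]
        exact congrArg Subtype.val hq2
      rw [← Nat.div_add_mod m 2, pow_add, pow_mul, hsq, one_pow, one_mul] at hm
      rcases Nat.mod_two_eq_zero_or_one m with e | e <;> rw [e] at hm
      · rw [pow_zero] at hm; exact S.base.ord.xt.ne hm.symm
      · rw [pow_one, mul_eq_left] at hm
        exact hq1 (Subtype.ext hm)
    · -- conjugates of the representative
      show fullF z (phiH R 3 n) = hInner (tc R) 3 0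
      rw [← hF0]
      have h0 : ¬ cv n = 0 := fun h0 => by rw [qCls, h0] at h; simp at h
      have hA : Chk.isA (cv n) = true := by
        rw [qCls, show Nat.beq (cv n) 0 = false from Bool.eq_false_iff.2 fun e => h0 (Nat.eq_of_beq_eq_true e)] at h
        cases e : Chk.isA (cv n)
        · rw [e] at h; simp at h
        · rfl
      have hqf : qf (cv n) = false := by
        have h' := (List.mem_filter.1 hn).2
        simp only [Nat.beq_refl, cond_true, Bool.and_eq_true, Bool.not_eq_true'] at h'
        exact h'.2
      have hPI : PI (cvV n) := by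
        show Chk.isI (code (cvV n)) = true
        rw [code_cvV hlt, Chk.isI, ← qf_eq (cv_lt hlt), hqf,
          show Nat.beq (cv n) 0 = false from Bool.eq_false_iff.2 fun e => h0 (Nat.eq_of_beq_eq_true e)]
        rfl
      obtain ⟨p, hp, hpv⟩ := (trans hPI).1 (by show Chk.isA (code (cvV n)) = true; rw [code_cvV hlt]; exact hA)
      obtain ⟨L, hL, hLπ⟩ := S.lift f hp
      have hLN : NXs x L := Or.inl (mul_inv_eq_iff_eq_mul.2 (congrArg Subtype.val hL.eq))
      have e1 : L * p0 * L⁻¹ = qC S f (cvV n) false := by
        have h := S.conjN f hLN va false 1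
        rw [mul_one, mul_inv_cancel, S.elC_one f, S.elC_one f, hLπ, hpv, outP_false.2 hp, Bool.false_and,
          Bool.xor_false] at h
        exact h
      have e2 : L * qC S f va true * L⁻¹ = qC S f (cvV n) true := by
        have h := S.conjN f hLN va true 1
        rw [mul_one, mul_inv_cancel, S.elC_one f, S.elC_one f, hLπ, hpv, outP_false.2 hp, Bool.false_and,
          Bool.xor_false] at h
        exact h
      rw [phiH, R.three, S.elC_one f]
      cases ce n
      · rw [← e1, S.fullF_conj f]
      · rw [← e2, S.fullF_conj f, show (true : Bool) = !false from rfl, ← hV, S.fullF_conj f]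
    · rw [show Nat.blt 2 2 = false from rfl, show Nat.beq 2 2 = true from rfl, show Nat.beq 2 1 = false from rfl]
      simp only [cond_false, cond_true]]
  rw [← sum_group_one (codesK 3) (fun n => Nat.beq (qCls n) 1) (hInner (tc R) 3 0), List.countP_eq_length_filter,
    qcls_ok.2.1]

/-- sums over all involutions of functions of the type -/
theorem Big.sum_type (Ψ : Bool → ℕ) : ∑ p ∈ invI z, Ψ (tz p) =
    ∑ c ∈ Finset.range 10, [1, 1386, 2772, 532224, 63360, 63360, 18480, 18480, 110880, 221760].getD c 0 * Ψ (tc R c) := by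
  rw [S.sum_class f R (fun p => Ψ (tz p)) (fun L p => by simp only [tz_conj])]
  have hk : ∀ k, k < 3 → ∑ p ∈ fibI f (f.π (R.n k)), Ψ (tz p) =
      ∑ c ∈ Finset.range 10, (ODt.mems.getD k []).countP (fun m => Nat.beq (memC k m) c) * Ψ (tc R c) := by
    intro k hk
    have hmem := mem_ok hk
    simp only [OChk4.memOK, Bool.and_eq_true, leq_iff] at hmem
    have hb : Nat.beq k 3 = false := Bool.eq_false_iff.2 fun e => by have := Nat.eq_of_beq_eq_true e; omega
    rw [(S.fib_rep f R (by omega)).2, show codesK k = (List.range 8192).filter (invAt k) by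
      simp only [codesK, hb, cond_false], hmem.1, List.map_map,
      List.map_congr_left (g := fun m => Ψ (tc R (memC k m))) fun m hm => by
        simp only [Function.comp, (S.tz_member f R hk hm).2]]
    refine sum_group (memC k) (fun c => Ψ (tc R c)) 10 _ fun m hm => ?_
    have h := cls_count.1 k hk
    rw [List.all_eq_true] at h
    exact Nat.le_of_ble_eq_true (h _ (List.mem_map_of_mem hm))
  have h3 : ∑ p ∈ fibI f (f.π (R.n 3)), Ψ (tz p) =
      ∑ c ∈ Finset.range 10, (codesK 3).countP (fun n => Nat.beq (qCls n) c) * Ψ (tc R c) := by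
    rw [(S.fib_rep f R (by norm_num)).2, List.map_congr_left (g := fun n => Ψ (tc R (qCls n))) fun n hn => by
      rw [S.tz_Q f R hn]]
    exact sum_group qCls (fun c => Ψ (tc R c)) 10 _ fun n _ => lt_of_le_of_lt (qCls_le n) (by norm_num)
  rw [hk 0 (by norm_num), hk 1 (by norm_num), hk 2 (by norm_num), h3, Finset.mul_sum, Finset.mul_sum, Finset.mul_sum,
    ← Finset.sum_add_distrib, ← Finset.sum_add_distrib, ← Finset.sum_add_distrib]
  refine Finset.sum_congr rfl fun c hc => ?_
  rw [← mul_assoc, ← mul_assoc, ← mul_assoc, ← add_mul, ← add_mul, ← add_mul, ← cls_count.2,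
    List.getD_eq_getElem _ 0 (by rw [List.length_map, List.length_range]; exact Finset.mem_range.1 hc),
    List.getElem_map, List.getElem_range]

theorem Big.count_central : ((invI z).filter fun p => tz p = true).card = hZ (tc R) := by
  classical
  rw [Finset.card_filter, Finset.sum_congr rfl fun p _ => show (if tz p = true then 1 else 0) = (bif tz p then 1 else 0 : ℕ)
    by cases tz p <;> rfl, S.sum_type f R fun b => bif b then 1 else 0, hZ]
  simp only [Finset.sum_range_succ, Finset.sum_range_zero, List.getD_cons_zero, List.getD_cons_succ]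
  rw [show tc R 0 = true from rfl, show tc R 1 = true from rfl, show tc R 2 = false from rfl]
  simp only [cond_true, cond_false, mul_zero, mul_one, zero_add, add_zero]

theorem Big.count_inv : (invI z).card = hAll := by
  obtain ⟨R⟩ := S.exists_reps f
  rw [Finset.card_eq_sum_ones, S.sum_type f R fun _ => 1]
  decide +kernel

/-- pairs of involutions of the two types generating the central involution -/
theorem Big.count_pairs : ∑ p ∈ invI z, (bif tz p then fullF z p else 0) = hSum (tc R) := by
  rw [S.sum_class f R (fun p => bif tz p then fullF z p else 0) (fun L p => by rw [tz_conj, S.fullF_conj f]),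
    S.part_eq f R (k := 0) (by norm_num), S.part_eq f R (k := 1) (by norm_num), S.part_eq f R (k := 2) (by norm_num),
    S.part_three f R]
  rfl

omit S f

end Cfsg.Agent.Spor.JFour
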